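import Cfsg.Agent.Th.QP
set_option autoImplicit false
set_option maxRecDepth 100000
namespace CA.QP
open CA.TC
noncomputable def q_s4_Ft : BT Nat := (.leaf (nat_lit 0x8000084000000000020000100004000000800018400004000042000080000410000300000))
noncomputable def q_s4_F (p : Nat) : Nat := row q_s4_Ft (nat_lit 5) (nat_lit 31) (nat_lit 45) (nat_lit 35184372088831) p
noncomputable def q_s4_P : BT Pf := (.node (.node (.node (.leaf .df) (.leaf (.pin (nat_lit 2) [(nat_lit 1)] []))) (.node (.leaf (.pin (nat_lit 0) [] [])) (.leaf (.pin (nat_lit 4) [] [])))) (.node (.node (.leaf .df) (.leaf (.pin (nat_lit 3) [] []))) (.node (.leaf (.pin (nat_lit 1) [(nat_lit 0)] [])) (.leaf .df))))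
noncomputable def q_s4_R : BT (List ℕ × ℕ × List ℕ) := (.leaf ([], (nat_lit 1000000), []))
noncomputable def q_s4_Q : BT (ℕ × List ℕ × ℕ) := (.node (.node (.node (.leaf ((nat_lit 1), [(nat_lit 1)], (nat_lit 1))) (.leaf ((nat_lit 2), [(nat_lit 0)], (nat_lit 2)))) (.node (.leaf ((nat_lit 2), [(nat_lit 1), (nat_lit 2)], (nat_lit 1))) (.leaf ((nat_lit 0), [(nat_lit 0)], (nat_lit 0))))) (.node (.node (.leaf ((nat_lit 0), [(nat_lit 1), (nat_lit 0)], (nat_lit 1))) (.leaf ((nat_lit 0), [(nat_lit 0)], (nat_lit 0)))) (.node (.leaf ((nat_lit 0), [(nat_lit 2)], (nat_lit 0))) (.leaf ((nat_lit 0), [(nat_lit 0)], (nat_lit 0))))))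
noncomputable def q_s4_C : Cert := ⟨(nat_lit 3), (nat_lit 7), q_s4_F, q_s4_P, q_s4_R, q_s4_Q⟩
noncomputable def q_s4_h : List (Ex × Ex) := [((.t (.g 0) (.g 1)), (.t (.g 1) (.g 0))), ((.t (.g 2) (.g 1)), (.t (.g 1) (.g 2))), ((.t (.g 0) (.g 2)), (.g 0)), ((.t (.g 2) (.g 0)), (.g 2))]
noncomputable def q_s4_g : List (Ex × Ex) := [((.t (.g 1) (.t (.t (.g 0) (.g 1)) (.g 2))), (.g 1)), ((.t (.t (.g 0) (.t (.t (.g 0) (.g 1)) (.g 2))) (.g 1)), (.g 2))]
theorem q_s4_k : q_s4_C.full 0 q_s4_h q_s4_g [[(nat_lit 4), (nat_lit 1), (nat_lit 6), (nat_lit 1), (nat_lit 4)], [(nat_lit 5), (nat_lit 0), (nat_lit 3), (nat_lit 2), (nat_lit 4), (nat_lit 1)]] = true := by decide +kernel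
theorem q_s4 {G : Type*} [Group G] {b d c : G} (qb : b * b = 1) (qd : d * d = 1) (qc : c * c = 1)
    (h0 : tw b d = tw d b)
    (h1 : tw c d = tw d c)
    (h2 : Commute b c)
    : Commute d (tw (tw b d) c) ∧ (tw (tw b (tw (tw b d) c)) d) = c := by
  have H := Cert.sound (s := val [b, d, c]) q_s4_C _ q_s4_h q_s4_g _ q_s4_k (val_sq (by simp [*]))
    ⟨h0, h1, tw_of_comm qc h2, tw_of_comm qb h2.symm, trivial⟩
  exact ⟨comm_of_tw (tw_sq (tw_sq qb qd) qc) H.1, H.2.1⟩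
noncomputable def q_W_Ft : BT Nat := (.node (.leaf (nat_lit 0x100007800078c0003c00014600004000123000010000118000000000000000c0000c20000a000101000020000600000100002800000400010400004000040000000000018000b800038c000580005440002a000283000140001300000980009040004800044400022000201000100000f000007800048c000380003440001a0001830000c0000b0000058000504000280001c40001200006000008000071000038000208000180000440000a0000010000400000)) (.leaf (nat_lit 0xc00054000288000140002c300014000110000088000890000440004c40002e0002e00001000017180002000020800020000284000180001840000d0000c200003000070c00030000180000140000c40000b00006180004000080400044000440000260002240001100012)))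
noncomputable def q_W_F (p : Nat) : Nat := row q_W_Ft (nat_lit 5) (nat_lit 31) (nat_lit 45) (nat_lit 35184372088831) p
noncomputable def q_W_P : BT Pf := (.node (.node (.node (.node (.node (.node (.leaf .df) (.leaf (.cyc (nat_lit 2) [(nat_lit 13), (nat_lit 12), (nat_lit 31), (nat_lit 12), (nat_lit 13), (nat_lit 14)]))) (.node (.leaf .df) (.leaf (.cyc (nat_lit 7) [(nat_lit 16), (nat_lit 46)])))) (.node (.node (.leaf .df) (.leaf (.cyc (nat_lit 7) [(nat_lit 10), (nat_lit 39), (nat_lit 38)]))) (.node (.leaf (.pin (nat_lit 4) [(nat_lit 2)] [])) (.leaf .df)))) (.node (.node (.node (.leaf .df) (.leaf (.cyc (nat_lit 6) [(nat_lit 7), (nat_lit 6), (nat_lit 4), (nat_lit 25), (nat_lit 23), (nat_lit 24)]))) (.node (.leaf (.pin (nat_lit 0) [] [])) (.leaf .df))) (.node (.node (.leaf .df) (.leaf (.cyc (nat_lit 11) [(nat_lit 35), (nat_lit 4), (nat_lit 19)]))) (.node (.leaf (.pin (nat_lit 8) [] [])) (.leaf .df)))))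 (.node (.node (.node (.node (.leaf .df) (.leaf (.cyc (nat_lit 4) [(nat_lit 14), (nat_lit 32)]))) (.node (.leaf .df) (.leaf (.cyc (nat_lit 7) [(nat_lit 18), (nat_lit 49)])))) (.node (.node (.leaf .df) (.leaf (.cyc (nat_lit 10) [(nat_lit 4), (nat_lit 3), (nat_lit 22), (nat_lit 2), (nat_lit 37)]))) (.node (.leaf (.pin (nat_lit 6) [] [])) (.leaf .df)))) (.node (.node (.node (.leaf .df) (.leaf (.cyc (nat_lit 7) [(nat_lit 8), (nat_lit 36)]))) (.node (.leaf (.pin (nat_lit 2) [(nat_lit 0)] [])) (.leaf .df))) (.node (.node (.leaf .df) (.leaf (.cyc (nat_lit 1) [(nat_lit 13), (nat_lit 44), (nat_lit 45), (nat_lit 44), (nat_lit 13), (nat_lit 33)]))) (.node (.leaf (.cyc (nat_lit 0) [(nat_lit 11), (nat_lit 29), (nat_lit 23)])) (.leaf .df)))))) (.node (.node (.node (.node (.node (.leaf .df) (.leaf (.cyc (nat_lit 3) [(nat_lit 15), (nat_lit 32)]))) (.node (.leaf .df) (.leaf (.cyc (nat_lit 8) [(nat_lit 42), (nat_lit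 35), (nat_lit 13), (nat_lit 48), (nat_lit 17), (nat_lit 18)])))) (.node (.node (.leaf .df) (.leaf (.cyc (nat_lit 9) [(nat_lit 9), (nat_lit 40)]))) (.node (.leaf (.pin (nat_lit 5) [(nat_lit 22), (nat_lit 3), (nat_lit 4)] [(nat_lit 23)])) (.leaf .df)))) (.node (.node (.node (.leaf .df) (.leaf (.cyc (nat_lit 3) [(nat_lit 7), (nat_lit 36)]))) (.node (.leaf (.pin (nat_lit 1) [] [])) (.leaf .df))) (.node (.node (.leaf .df) (.leaf (.cyc (nat_lit 12) [(nat_lit 19), (nat_lit 3), (nat_lit 43), (nat_lit 3), (nat_lit 19)]))) (.node (.leaf (.pin (nat_lit 9) [(nat_lit 5)] [])) (.leaf .df))))) (.node (.node (.node (.node (.leaf .df) (.leaf (.cyc (nat_lit 5) [(nat_lit 25), (nat_lit 30), (nat_lit 12)]))) (.node (.leaf .df) (.leaf .df))) (.node (.node (.leaf .df) (.leaf (.cyc (nat_lit 5) [(nat_lit 0), (nat_lit 27), (nat_lit 0)]))) (.node (.leaf (.pin (nat_lit 7) [] [])) (.leaf .df)))) (.node (.node (.node (.leaf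 .df) (.leaf (.cyc (nat_lit 8) [(nat_lit 2), (nat_lit 28), (nat_lit 2), (nat_lit 38), (nat_lit 9), (nat_lit 10)]))) (.node (.leaf (.pin (nat_lit 3) [(nat_lit 1)] [])) (.leaf .df))) (.node (.node (.leaf .df) (.leaf (.cyc (nat_lit 3) [(nat_lit 33), (nat_lit 46)]))) (.node (.leaf (.cyc (nat_lit 1) [(nat_lit 11), (nat_lit 5), (nat_lit 26), (nat_lit 5), (nat_lit 11)])) (.leaf .df)))))))
noncomputable def q_W_R : BT (List ℕ × ℕ × List ℕ) := (.node (.node (.node (.node (.leaf ([(nat_lit 3), (nat_lit 0), (nat_lit 3), (nat_lit 0)], (nat_lit 4), [(nat_lit 0), (nat_lit 3), (nat_lit 0)])) (.leaf ([(nat_lit 2), (nat_lit 3), (nat_lit 2), (nat_lit 3), (nat_lit 2), (nat_lit 3)], (nat_lit 8), [(nat_lit 3), (nat_lit 2), (nat_lit 3)]))) (.node (.leaf ([(nat_lit 1), (nat_lit 1)], (nat_lit 1000000), [])) (.leaf ([(nat_lit 2), (nat_lit 3), (nat_lit 2), (nat_lit 3), (nat_lit 2), (nat_lit 3)], (nat_lit 8), [(nat_lit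 3)])))) (.node (.node (.leaf ([(nat_lit 2), (nat_lit 1), (nat_lit 2), (nat_lit 1), (nat_lit 2), (nat_lit 1)], (nat_lit 2), [(nat_lit 1), (nat_lit 2), (nat_lit 1), (nat_lit 2), (nat_lit 1)])) (.leaf ([(nat_lit 2), (nat_lit 0), (nat_lit 2), (nat_lit 0), (nat_lit 2), (nat_lit 0)], (nat_lit 1), [(nat_lit 0)]))) (.node (.leaf ([(nat_lit 0), (nat_lit 1), (nat_lit 0), (nat_lit 1), (nat_lit 0), (nat_lit 1)], (nat_lit 0), [])) (.leaf ([], (nat_lit 1000000), []))))) (.node (.node (.node (.leaf ([(nat_lit 2), (nat_lit 0), (nat_lit 2), (nat_lit 0), (nat_lit 2), (nat_lit 0)], (nat_lit 1), [(nat_lit 0), (nat_lit 2), (nat_lit 0), (nat_lit 2), (nat_lit 0)])) (.leaf ([(nat_lit 2), (nat_lit 2)], (nat_lit 1000000), []))) (.node (.leaf ([(nat_lit 3), (nat_lit 1), (nat_lit 3), (nat_lit 1)], (nat_lit 6), [(nat_lit 1), (nat_lit 3), (nat_lit 1)])) (.leaf ([], (nat_lit 1000000), [])))) (.node (.node (.leaf ([(nat_lit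 0), (nat_lit 0)], (nat_lit 1000000), [])) (.leaf ([(nat_lit 0), (nat_lit 3), (nat_lit 0), (nat_lit 3)], (nat_lit 4), [(nat_lit 0), (nat_lit 3)]))) (.node (.leaf ([(nat_lit 3), (nat_lit 3)], (nat_lit 1000000), [])) (.leaf ([], (nat_lit 1000000), []))))))
noncomputable def q_W_Q : BT (ℕ × List ℕ × ℕ) := (.node (.node (.node (.node (.leaf ((nat_lit 0), [(nat_lit 0)], (nat_lit 0))) (.leaf ((nat_lit 1), [(nat_lit 3)], (nat_lit 1)))) (.node (.leaf ((nat_lit 1), [(nat_lit 2), (nat_lit 1)], (nat_lit 2))) (.leaf ((nat_lit 0), [(nat_lit 0)], (nat_lit 0))))) (.node (.node (.leaf ((nat_lit 0), [(nat_lit 1), (nat_lit 0)], (nat_lit 1))) (.leaf ((nat_lit 0), [(nat_lit 0)], (nat_lit 0)))) (.node (.leaf ((nat_lit 3), [(nat_lit 0)], (nat_lit 3))) (.leaf ((nat_lit 0), [(nat_lit 0)], (nat_lit 0)))))) (.node (.node (.node (.leaf ((nat_lit 2), [(nat_lit 2)], (nat_lit 2))) (.leaf ((nat_lit 3), [(nat_lit 2), (nat_lit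 3)], (nat_lit 2)))) (.node (.leaf ((nat_lit 1), [(nat_lit 0), (nat_lit 2), (nat_lit 0), (nat_lit 1), (nat_lit 0)], (nat_lit 2))) (.leaf ((nat_lit 0), [(nat_lit 0)], (nat_lit 0))))) (.node (.node (.leaf ((nat_lit 0), [(nat_lit 2), (nat_lit 0)], (nat_lit 2))) (.leaf ((nat_lit 0), [(nat_lit 0)], (nat_lit 0)))) (.node (.leaf ((nat_lit 0), [(nat_lit 3)], (nat_lit 0))) (.leaf ((nat_lit 0), [(nat_lit 0)], (nat_lit 0)))))))
noncomputable def q_W_C : Cert := ⟨(nat_lit 4), (nat_lit 51), q_W_F, q_W_P, q_W_R, q_W_Q⟩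
noncomputable def q_W_h : List (Ex × Ex) := [((.t (.g 0) (.g 1)), (.t (.g 1) (.g 0))), ((.t (.g 0) (.g 2)), (.t (.g 2) (.g 0))), ((.t (.g 1) (.g 2)), (.t (.g 2) (.g 1))), ((.t (.g 1) (.t (.g 2) (.g 0))), (.t (.t (.g 2) (.g 0)) (.g 1))), ((.t (.g 3) (.g 0)), (.g 3)), ((.t (.g 0) (.g 3)), (.g 0)), ((.t (.g 3) (.g 1)), (.g 3)), ((.t (.g 1) (.g 3)), (.g 1)), ((.t (.g 3) (.g 2)), (.t (.g 2) (.g 3)))]
noncomputable def q_W_g : List (Ex × Ex) := [((.t (.g 0) (.t (.t (.g 2) (.g 3)) (.t (.t (.g 2) (.g 1)) (.g 0)))), (.g 0)), ((.t (.t (.t (.g 2) (.g 3)) (.t (.t (.g 2) (.g 3)) (.t (.t (.g 2) (.g 1)) (.g 0)))) (.g 0)), (.t (.g 2) (.g 1)))]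
theorem q_W_k : q_W_C.full 0 q_W_h q_W_g [[(nat_lit 20), (nat_lit 0), (nat_lit 3), (nat_lit 6), (nat_lit 37), (nat_lit 38), (nat_lit 41), (nat_lit 38), (nat_lit 37), (nat_lit 6), (nat_lit 3), (nat_lit 0), (nat_lit 20)], [(nat_lit 29), (nat_lit 11), (nat_lit 12), (nat_lit 13), (nat_lit 34), (nat_lit 47), (nat_lit 48), (nat_lit 17), (nat_lit 50), (nat_lit 37), (nat_lit 24), (nat_lit 21)]] = true := by decide +kernel
theorem q_W {G : Type*} [Group G] {d b c x : G} (qd : d * d = 1) (qb : b * b = 1) (qc : c * c = 1) (qx : x * x = 1)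
    (h0 : tw d b = tw b d)
    (h1 : tw d c = tw c d)
    (h2 : tw b c = tw c b)
    (h3 : tw b (tw c d) = tw (tw c d) b)
    (h4 : Commute x d)
    (h5 : Commute x b)
    (h6 : tw x c = tw c x)
    : Commute d (tw (tw c x) (tw (tw c b) d)) ∧ (tw (tw (tw c x) (tw (tw c x) (tw (tw c b) d))) d) = (tw c b) := by
  have H := Cert.sound (s := val [d, b, c, x]) q_W_C _ q_W_h q_W_g _ q_W_k (val_sq (by simp [*]))
    ⟨h0, h1, h2, h3, tw_of_comm qd h4, tw_of_comm qx h4.symm, tw_of_comm qb h5, tw_of_comm qx h5.symm, h6, trivial⟩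
  exact ⟨comm_of_tw (tw_sq (tw_sq qc qx) (tw_sq (tw_sq qc qb) qd)) H.1, H.2.1⟩
noncomputable def q_D4_Ft : BT Nat := (.node (.leaf (nat_lit 0x800090000310000180004c6000240000840001800004180001000010c0000400004200004000043000000000610000000002840000000010000000000003000180001200000b8000b04000580005400002a000282000140000e080009800090800048000202000220000e3000100000f000007800070c000380002400001a0001820000c000090000058000504000280002400001200010300008000071000038000200000180000c00000a0000400000400001)) (.leaf (nat_lit 0x400024000248000140001240000b0000800000b0000b10000580005c2000160002e300005000161000030000b0c000240002420002c0001040000e0000920000780004100001c0004000000e0000e100007000052000088000284000580003c80002a0001e40000e00014100004800049000030000248000100001a00001200012)))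
noncomputable def q_D4_F (p : Nat) : Nat := row q_D4_Ft (nat_lit 5) (nat_lit 31) (nat_lit 45) (nat_lit 35184372088831) p
noncomputable def q_D4_P : BT Pf := (.node (.node (.node (.node (.node (.node (.leaf .df) (.leaf (.cyc (nat_lit 4) [(nat_lit 29), (nat_lit 0), (nat_lit 26), (nat_lit 0), (nat_lit 29)]))) (.node (.leaf .df) (.leaf (.cyc (nat_lit 2) [(nat_lit 40), (nat_lit 4), (nat_lit 45)])))) (.node (.node (.leaf .df) (.leaf (.cyc (nat_lit 3) [(nat_lit 13), (nat_lit 39)]))) (.node (.leaf (.pin (nat_lit 3) [(nat_lit 2)] [])) (.leaf .df)))) (.node (.node (.node (.leaf .df) (.leaf (.cyc (nat_lit 0) [(nat_lit 10), (nat_lit 35), (nat_lit 10), (nat_lit 16)]))) (.node (.leaf .df) (.leaf (.cyc (nat_lit 3) [(nat_lit 49), (nat_lit 50), (nat_lit 45)])))) (.node (.node (.leaf .df) (.leaf (.cyc (nat_lit 6) [(nat_lit 11), (nat_lit 43), (nat_lit 5)]))) (.node (.leaf (.cyc (nat_lit 0) [(nat_lit 20), (nat_lit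 14), (nat_lit 4), (nat_lit 3)])) (.leaf .df))))) (.node (.node (.node (.node (.leaf .df) (.leaf (.cyc (nat_lit 6) [(nat_lit 9), (nat_lit 33), (nat_lit 5)]))) (.node (.leaf .df) (.leaf (.cyc (nat_lit 12) [(nat_lit 48), (nat_lit 1), (nat_lit 27), (nat_lit 1), (nat_lit 48), (nat_lit 19)])))) (.node (.node (.leaf .df) (.leaf (.cyc (nat_lit 4) [(nat_lit 41), (nat_lit 4), (nat_lit 5), (nat_lit 10), (nat_lit 11), (nat_lit 12)]))) (.node (.leaf (.pin (nat_lit 5) [] [])) (.leaf .df)))) (.node (.node (.node (.leaf .df) (.leaf (.cyc (nat_lit 3) [(nat_lit 18), (nat_lit 37)]))) (.node (.leaf (.pin (nat_lit 1) [(nat_lit 0)] [])) (.leaf (.cyc (nat_lit 3) [(nat_lit 6), (nat_lit 53)])))) (.node (.node (.leaf .df) (.leaf (.cyc (nat_lit 1) [(nat_lit 10), (nat_lit 44)]))) (.node (.leaf (.cyc (nat_lit 2) [(nat_lit 24), (nat_lit 22), (nat_lit 29), (nat_lit 15)])) (.leaf .df)))))) (.node (.node (.node (.node (.node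 (.leaf .df) (.leaf (.cyc (nat_lit 5) [(nat_lit 14), (nat_lit 32), (nat_lit 14), (nat_lit 5), (nat_lit 8), (nat_lit 9)]))) (.node (.leaf .df) (.leaf (.cyc (nat_lit 11) [(nat_lit 7), (nat_lit 6), (nat_lit 5), (nat_lit 45), (nat_lit 19)])))) (.node (.node (.leaf .df) (.leaf (.cyc (nat_lit 9) [(nat_lit 40), (nat_lit 1), (nat_lit 25), (nat_lit 1), (nat_lit 40)]))) (.node (.leaf (.pin (nat_lit 4) [] [])) (.leaf .df)))) (.node (.node (.node (.leaf .df) (.leaf (.cyc (nat_lit 6) [(nat_lit 17), (nat_lit 36), (nat_lit 11)]))) (.node (.leaf (.pin (nat_lit 0) [] [])) (.leaf (.cyc (nat_lit 6) [(nat_lit 7), (nat_lit 52), (nat_lit 5)])))) (.node (.node (.leaf .df) (.leaf (.cyc (nat_lit 3) [(nat_lit 38), (nat_lit 43)]))) (.node (.leaf (.cyc (nat_lit 1) [(nat_lit 20), (nat_lit 28)])) (.leaf .df))))) (.node (.node (.node (.node (.leaf .df) (.leaf (.cyc (nat_lit 7) [(nat_lit 8), (nat_lit 34)]))) (.node (.leaf .df)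 (.leaf (.cyc (nat_lit 6) [(nat_lit 19), (nat_lit 50)])))) (.node (.node (.leaf .df) (.leaf (.cyc (nat_lit 1) [(nat_lit 12), (nat_lit 42), (nat_lit 4)]))) (.node (.leaf (.pin (nat_lit 6) [] [])) (.leaf .df)))) (.node (.node (.node (.leaf .df) (.leaf (.cyc (nat_lit 8) [(nat_lit 13), (nat_lit 3), (nat_lit 22), (nat_lit 23)]))) (.node (.leaf (.pin (nat_lit 2) [(nat_lit 1)] [])) (.leaf .df))) (.node (.node (.leaf .df) (.leaf (.cyc (nat_lit 10) [(nat_lit 31), (nat_lit 14), (nat_lit 45)]))) (.node (.leaf (.cyc (nat_lit 3) [(nat_lit 15), (nat_lit 30)])) (.leaf .df)))))))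
noncomputable def q_D4_R : BT (List ℕ × ℕ × List ℕ) := (.node (.node (.node (.node (.leaf ([(nat_lit 3), (nat_lit 2), (nat_lit 3), (nat_lit 2)], (nat_lit 7), [])) (.leaf ([(nat_lit 1), (nat_lit 2), (nat_lit 1), (nat_lit 2)], (nat_lit 3), [(nat_lit 2)]))) (.node (.leaf ([(nat_lit 0), (nat_lit 3), (nat_lit 0), (nat_lit 3), (nat_lit 0), (nat_lit 3)], (nat_lit 2), [(nat_lit 3)])) (.leaf ([(nat_lit 3), (nat_lit 0), (nat_lit 3), (nat_lit 0), (nat_lit 3), (nat_lit 0)], (nat_lit 2), [])))) (.node (.node (.leaf ([(nat_lit 3), (nat_lit 1), (nat_lit 3), (nat_lit 1)], (nat_lit 5), [(nat_lit 3), (nat_lit 1)])) (.leaf ([(nat_lit 2), (nat_lit 1), (nat_lit 2), (nat_lit 1)], (nat_lit 3), [(nat_lit 2), (nat_lit 1)]))) (.node (.leaf ([(nat_lit 0), (nat_lit 0)], (nat_lit 1000000), [])) (.leaf ([], (nat_lit 1000000), []))))) (.node (.node (.node (.leaf ([(nat_lit 3), (nat_lit 3)], (nat_lit 1000000), [])) (.leaf ([(nat_lit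 0), (nat_lit 1), (nat_lit 0), (nat_lit 1), (nat_lit 0), (nat_lit 1)], (nat_lit 0), [(nat_lit 1)]))) (.node (.leaf ([(nat_lit 2), (nat_lit 0), (nat_lit 2), (nat_lit 0), (nat_lit 2), (nat_lit 0)], (nat_lit 1), [])) (.leaf ([], (nat_lit 1000000), [])))) (.node (.node (.leaf ([(nat_lit 1), (nat_lit 1)], (nat_lit 1000000), [])) (.leaf ([(nat_lit 1), (nat_lit 0), (nat_lit 1), (nat_lit 0), (nat_lit 1), (nat_lit 0)], (nat_lit 0), [(nat_lit 1), (nat_lit 0)]))) (.node (.leaf ([(nat_lit 2), (nat_lit 2)], (nat_lit 1000000), [])) (.leaf ([], (nat_lit 1000000), []))))))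
noncomputable def q_D4_Q : BT (ℕ × List ℕ × ℕ) := (.node (.node (.node (.leaf ((nat_lit 0), [(nat_lit 0)], (nat_lit 0))) (.leaf ((nat_lit 2), [(nat_lit 1)], (nat_lit 2)))) (.node (.leaf ((nat_lit 2), [(nat_lit 0), (nat_lit 2)], (nat_lit 0))) (.leaf ((nat_lit 2), [(nat_lit 3)], (nat_lit 2))))) (.node (.node (.leaf ((nat_lit 1), [(nat_lit 0), (nat_lit 1)], (nat_lit 0))) (.leaf ((nat_lit 1), [(nat_lit 3)], (nat_lit 1)))) (.node (.leaf ((nat_lit 3), [(nat_lit 0), (nat_lit 3)], (nat_lit 0))) (.leaf ((nat_lit 0), [(nat_lit 0)], (nat_lit 0))))))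
noncomputable def q_D4_C : Cert := ⟨(nat_lit 4), (nat_lit 55), q_D4_F, q_D4_P, q_D4_R, q_D4_Q⟩
noncomputable def q_D4_h : List (Ex × Ex) := [((.t (.g 1) (.g 0)), (.t (.g 0) (.g 1))), ((.t (.g 2) (.g 0)), (.t (.g 0) (.g 2))), ((.t (.g 3) (.g 0)), (.t (.g 0) (.g 3))), ((.t (.g 1) (.g 2)), (.g 1)), ((.t (.g 2) (.g 1)), (.g 2)), ((.t (.g 1) (.g 3)), (.g 1)), ((.t (.g 3) (.g 1)), (.g 3)), ((.t (.g 2) (.g 3)), (.g 2)), ((.t (.g 3) (.g 2)), (.g 3))]
noncomputable def q_D4_g : List (Ex × Ex) := [((.t (.t (.t (.t (.t (.g 1) (.g 0)) (.g 2)) (.g 3)) (.g 0)) (.g 1)), (.t (.t (.t (.t (.g 1) (.g 0)) (.g 2)) (.g 3)) (.g 0))), ((.t (.t (.t (.t (.t (.g 1) (.g 0)) (.g 2)) (.g 3)) (.g 0)) (.g 2)), (.t (.t (.t (.t (.g 1) (.g 0)) (.g 2)) (.g 3)) (.g 0))), ((.t (.t (.t (.t (.t (.g 1) (.g 0)) (.g 2)) (.g 3)) (.g 0)) (.g 3)), (.t (.t (.t (.t (.g 1) (.g 0)) (.g 2)) (.g 3)) (.g 0))), ((.t (.t (.t (.t (.g 1) (.g 0)) (.g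 2)) (.g 3)) (.g 0)), (.t (.t (.t (.t (.g 2) (.g 0)) (.g 1)) (.g 3)) (.g 0))), ((.t (.t (.t (.t (.g 1) (.g 0)) (.g 2)) (.g 3)) (.g 0)), (.t (.t (.t (.t (.g 3) (.g 0)) (.g 1)) (.g 2)) (.g 0))), ((.t (.t (.t (.t (.g 0) (.g 1)) (.g 2)) (.g 3)) (.t (.t (.t (.t (.g 1) (.g 0)) (.g 2)) (.g 3)) (.g 0))), (.g 0)), ((.t (.t (.t (.t (.t (.t (.t (.t (.g 1) (.g 0)) (.g 2)) (.g 3)) (.g 0)) (.g 0)) (.g 2)) (.g 3)) (.g 0)), (.g 1))]
theorem q_D4_k : q_D4_C.full 0 q_D4_h q_D4_g [[(nat_lit 0), (nat_lit 3), (nat_lit 4), (nat_lit 5), (nat_lit 54), (nat_lit 5), (nat_lit 4), (nat_lit 3), (nat_lit 0)], [(nat_lit 0), (nat_lit 3), (nat_lit 4), (nat_lit 5), (nat_lit 35), (nat_lit 5), (nat_lit 4), (nat_lit 3), (nat_lit 0)], [(nat_lit 0), (nat_lit 3), (nat_lit 4), (nat_lit 5), (nat_lit 46), (nat_lit 5), (nat_lit 4), (nat_lit 3), (nat_lit 0)], [(nat_lit 0), (nat_lit 3), (nat_lit 40), (nat_lit 1)], [(nat_lit 0), (nat_lit 3),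 (nat_lit 4), (nat_lit 14), (nat_lit 31), (nat_lit 2)], [(nat_lit 22), (nat_lit 3), (nat_lit 4), (nat_lit 5), (nat_lit 46), (nat_lit 35), (nat_lit 5), (nat_lit 45), (nat_lit 51), (nat_lit 47), (nat_lit 24), (nat_lit 21)], [(nat_lit 0), (nat_lit 3), (nat_lit 4), (nat_lit 14), (nat_lit 29), (nat_lit 0)]] = true := by decide +kernel
theorem q_D4 {G : Type*} [Group G] {b a1 a2 a3 : G} (qb : b * b = 1) (qa1 : a1 * a1 = 1) (qa2 : a2 * a2 = 1) (qa3 : a3 * a3 = 1)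
    (h0 : tw a1 b = tw b a1)
    (h1 : tw a2 b = tw b a2)
    (h2 : tw a3 b = tw b a3)
    (h3 : Commute a1 a2)
    (h4 : Commute a1 a3)
    (h5 : Commute a2 a3)
    : Commute (tw (tw (tw (tw a1 b) a2) a3) b) a1 ∧ Commute (tw (tw (tw (tw a1 b) a2) a3) b) a2 ∧ Commute (tw (tw (tw (tw a1 b) a2) a3) b) a3 ∧ (tw (tw (tw (tw a1 b) a2) a3) b) = (tw (tw (tw (tw a2 b) a1) a3) b) ∧ (tw (tw (tw (tw a1 b) a2) a3) b) = (tw (tw (tw (tw a3 b) a1) a2) b) ∧ (tw (tw (tw (tw b a1) a2) a3) (tw (tw (tw (tw a1 b) a2) a3) b)) = b ∧ (tw (tw (tw (tw (tw (tw (tw (tw a1 b) a2) a3) b) b) a2) a3) b) = a1 := by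
  have H := Cert.sound (s := val [b, a1, a2, a3]) q_D4_C _ q_D4_h q_D4_g _ q_D4_k (val_sq (by simp [*]))
    ⟨h0, h1, h2, tw_of_comm qa2 h3, tw_of_comm qa1 h3.symm, tw_of_comm qa3 h4, tw_of_comm qa1 h4.symm, tw_of_comm qa3 h5, tw_of_comm qa2 h5.symm, trivial⟩
  exact ⟨comm_of_tw qa1 H.1, comm_of_tw qa2 H.2.1, comm_of_tw qa3 H.2.2.1, H.2.2.2.1, H.2.2.2.2.1, H.2.2.2.2.2.1, H.2.2.2.2.2.2.1⟩
end CA.QP
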