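import Cfsg.Agent.Th.QP
set_option autoImplicit false
set_option maxRecDepth 100000
namespace CA.QP
open CA.TC
noncomputable def kYFt : BT Nat := (.node (.node (.leaf (nat_lit 0x1800118000f8c0008800078400042000300000200001808000f8000b04000780005460003a0002810001c0001410000d800090400068000402000320001e3000180000e10000b8000700000580003040002a000142000140000908000980004040004800018600022000202000100000f0000078000704000380003400001a0001010000c0000b100005800038400028000240000120000e200008000030800038000180000180000c40000a0000210000400000)) (.leaf (nat_lit 0x1000118001184000800008c0000460004620002200022080010800110000088000886000320004200001d000211000100000e8c0006c000804000340003e00001c0001f10000e0000f00000680007820003a0003a30001c0001c))) (.node (.leaf (nat_lit 0x8000b8000d80000540006c60003400034200016000190000098000c84000600006060002e0002c000010000171800078000a800002c000506000160002620000c000131800048000900000280004860001a0001a20000d0000608000880008800004400014400008000223000050000c180002000050c00008000206000020000e30000000006000001000010800000000002000040000a00000100004180001800018800008000082000020000200000000000))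 (.leaf (nat_lit 0))))
noncomputable def kYF (p : Nat) : Nat := row kYFt (nat_lit 5) (nat_lit 31) (nat_lit 45) (nat_lit 35184372088831) p
noncomputable def kYP : BT Pf := (.node (.node (.node (.node (.node (.node (.node (.leaf .df) (.leaf (.cyc (nat_lit 12) [(nat_lit 24), (nat_lit 54), (nat_lit 8), (nat_lit 44), (nat_lit 37), (nat_lit 39), (nat_lit 37), (nat_lit 44), (nat_lit 8), (nat_lit 54), (nat_lit 24)]))) (.node (.leaf (.pin (nat_lit 0) [] [])) (.leaf .df))) (.node (.node (.leaf .df) (.leaf .df)) (.node (.leaf (.cyc (nat_lit 2) [(nat_lit 9), (nat_lit 4), (nat_lit 2)])) (.leaf .df)))) (.node (.node (.node (.leaf .df) (.leaf (.cyc (nat_lit 7) [(nat_lit 71), (nat_lit 28), (nat_lit 29)]))) (.node (.leaf (.pin (nat_lit 8) [(nat_lit 2)] [])) (.leaf .df))) (.node (.node (.leaf .df) (.leaf .df)) (.node (.leaf (.cyc (nat_lit 7) [(nat_lit 12), (nat_lit 11), (nat_lit 19)])) (.leaf .df))))) (.node (.node (.node (.node (.leaf .df) (.leaf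 (.cyc (nat_lit 4) [(nat_lit 24), (nat_lit 54), (nat_lit 8), (nat_lit 18), (nat_lit 27)]))) (.node (.leaf (.pin (nat_lit 4) [(nat_lit 0)] [])) (.leaf .df))) (.node (.node (.leaf .df) (.leaf .df)) (.node (.leaf (.cyc (nat_lit 6) [(nat_lit 8), (nat_lit 7), (nat_lit 3), (nat_lit 4), (nat_lit 15)])) (.leaf .df)))) (.node (.node (.node (.leaf .df) (.leaf (.cyc (nat_lit 16) [(nat_lit 30), (nat_lit 67), (nat_lit 64), (nat_lit 67), (nat_lit 30)]))) (.node (.leaf (.pin (nat_lit 12) [(nat_lit 3), (nat_lit 7), (nat_lit 8)] [(nat_lit 37)])) (.leaf .df))) (.node (.node (.leaf .df) (.leaf .df)) (.node (.leaf (.cyc (nat_lit 10) [(nat_lit 57), (nat_lit 19), (nat_lit 11), (nat_lit 21), (nat_lit 59), (nat_lit 52), (nat_lit 44), (nat_lit 1), (nat_lit 36), (nat_lit 0), (nat_lit 32), (nat_lit 38), (nat_lit 40), (nat_lit 48), (nat_lit 9), (nat_lit 15), (nat_lit 59)])) (.leaf .df)))))) (.node (.node (.node (.node (.node (.leaf .df) (.leaf (.cyc (nat_lit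 4) [(nat_lit 22), (nat_lit 56), (nat_lit 63), (nat_lit 62), (nat_lit 26)]))) (.node (.leaf (.pin (nat_lit 2) [] [])) (.leaf .df))) (.node (.node (.leaf .df) (.leaf .df)) (.node (.leaf (.cyc (nat_lit 4) [(nat_lit 6), (nat_lit 5), (nat_lit 3), (nat_lit 2), (nat_lit 14)])) (.leaf .df)))) (.node (.node (.node (.leaf .df) (.leaf (.cyc (nat_lit 15) [(nat_lit 30), (nat_lit 66), (nat_lit 61), (nat_lit 66), (nat_lit 30)]))) (.node (.leaf (.pin (nat_lit 10) [(nat_lit 4)] [])) (.leaf .df))) (.node (.node (.leaf .df) (.leaf .df)) (.node (.leaf (.cyc (nat_lit 9) [(nat_lit 20), (nat_lit 10), (nat_lit 49), (nat_lit 10), (nat_lit 20)])) (.leaf .df))))) (.node (.node (.node (.node (.leaf .df) (.leaf (.cyc (nat_lit 13) [(nat_lit 62), (nat_lit 55), (nat_lit 11), (nat_lit 20), (nat_lit 28)]))) (.node (.leaf (.pin (nat_lit 6) [] [])) (.leaf .df))) (.node (.node (.leaf .df) (.leaf .df)) (.node (.leaf (.cyc (nat_lit 7) [(nat_lit 7), (nat_lit 5), (nat_lit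 16)])) (.leaf .df)))) (.node (.node (.node (.leaf .df) (.leaf (.cyc (nat_lit 9) [(nat_lit 70), (nat_lit 63), (nat_lit 57), (nat_lit 27), (nat_lit 31)]))) (.node (.leaf (.cyc (nat_lit 0) [(nat_lit 45), (nat_lit 36), (nat_lit 1)])) (.leaf .df))) (.node (.node (.leaf .df) (.leaf .df)) (.node (.leaf (.cyc (nat_lit 7) [(nat_lit 17), (nat_lit 50), (nat_lit 23)])) (.leaf .df))))))) (.node (.node (.node (.node (.node (.node (.leaf .df) (.leaf (.cyc (nat_lit 9) [(nat_lit 25), (nat_lit 24), (nat_lit 64), (nat_lit 24), (nat_lit 25)]))) (.node (.leaf (.pin (nat_lit 1) [] [])) (.leaf .df))) (.node (.node (.leaf .df) (.leaf .df)) (.node (.leaf (.cyc (nat_lit 3) [(nat_lit 9), (nat_lit 42), (nat_lit 39), (nat_lit 42), (nat_lit 9)])) (.leaf .df)))) (.node (.node (.node (.leaf .df) (.leaf (.cyc (nat_lit 8) [(nat_lit 60), (nat_lit 57), (nat_lit 19), (nat_lit 20), (nat_lit 29)]))) (.node (.leaf (.pin (nat_lit 9) [(nat_lit 3)] [])) (.leaf .df)))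 (.node (.node (.leaf .df) (.leaf .df)) (.node (.leaf (.cyc (nat_lit 3) [(nat_lit 56), (nat_lit 13), (nat_lit 46), (nat_lit 44), (nat_lit 18)])) (.leaf .df))))) (.node (.node (.node (.node (.leaf .df) (.leaf (.cyc (nat_lit 6) [(nat_lit 22), (nat_lit 12), (nat_lit 21), (nat_lit 60), (nat_lit 27)]))) (.node (.leaf (.pin (nat_lit 5) [(nat_lit 1)] [])) (.leaf .df))) (.node (.node (.leaf .df) (.leaf .df)) (.node (.leaf (.cyc (nat_lit 5) [(nat_lit 8), (nat_lit 44), (nat_lit 37), (nat_lit 42), (nat_lit 15)])) (.leaf .df)))) (.node (.node (.node (.leaf .df) (.leaf (.cyc (nat_lit 15) [(nat_lit 31), (nat_lit 68), (nat_lit 64), (nat_lit 68), (nat_lit 31)]))) (.node (.leaf (.pin (nat_lit 13) [(nat_lit 4), (nat_lit 9), (nat_lit 10), (nat_lit 11), (nat_lit 12), (nat_lit 13)] [(nat_lit 36)])) (.leaf .df))) (.node (.node (.leaf .df) (.leaf .df)) (.node (.leaf (.cyc (nat_lit 5) [(nat_lit 22), (nat_lit 13), (nat_lit 47), (nat_lit 13), (nat_lit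 22)])) (.leaf .df)))))) (.node (.node (.node (.node (.node (.leaf .df) (.leaf (.cyc (nat_lit 6) [(nat_lit 24), (nat_lit 16), (nat_lit 6), (nat_lit 17), (nat_lit 26)]))) (.node (.leaf (.pin (nat_lit 3) [] [])) (.leaf .df))) (.node (.node (.leaf .df) (.leaf .df)) (.node (.leaf (.cyc (nat_lit 5) [(nat_lit 6), (nat_lit 43), (nat_lit 0), (nat_lit 40), (nat_lit 14)])) (.leaf .df)))) (.node (.node (.node (.leaf .df) (.leaf (.cyc (nat_lit 9) [(nat_lit 73), (nat_lit 21), (nat_lit 55), (nat_lit 26), (nat_lit 30)]))) (.node (.leaf (.pin (nat_lit 11) [(nat_lit 3), (nat_lit 5), (nat_lit 6)] [(nat_lit 0)])) (.leaf .df))) (.node (.node (.leaf .df) (.leaf .df)) (.node (.leaf (.cyc (nat_lit 4) [(nat_lit 15), (nat_lit 9), (nat_lit 10), (nat_lit 11), (nat_lit 21)])) (.leaf .df))))) (.node (.node (.node (.node (.leaf .df) (.leaf (.cyc (nat_lit 14) [(nat_lit 70), (nat_lit 23), (nat_lit 51), (nat_lit 16), (nat_lit 25)]))) (.node (.leaf (.pin (nat_lit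 7) [] [])) (.leaf .df))) (.node (.node (.leaf .df) (.leaf .df)) (.node (.leaf (.cyc (nat_lit 8) [(nat_lit 12), (nat_lit 13), (nat_lit 45), (nat_lit 43), (nat_lit 17)])) (.leaf .df)))) (.node (.node (.node (.leaf .df) (.leaf (.cyc (nat_lit 16) [(nat_lit 31), (nat_lit 69), (nat_lit 61), (nat_lit 69), (nat_lit 31)]))) (.node (.leaf (.cyc (nat_lit 1) [(nat_lit 45), (nat_lit 0), (nat_lit 38), (nat_lit 0), (nat_lit 45)])) (.leaf .df))) (.node (.node (.leaf .df) (.leaf .df)) (.node (.leaf (.cyc (nat_lit 11) [(nat_lit 19), (nat_lit 10), (nat_lit 48), (nat_lit 14), (nat_lit 23)])) (.leaf .df))))))))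
noncomputable def kYR : BT (List ℕ × ℕ × List ℕ) := (.node (.node (.node (.node (.node (.leaf ([(nat_lit 0), (nat_lit 2), (nat_lit 0), (nat_lit 2)], (nat_lit 2), [(nat_lit 2), (nat_lit 0), (nat_lit 2)])) (.leaf ([(nat_lit 2), (nat_lit 3), (nat_lit 2), (nat_lit 3), (nat_lit 2), (nat_lit 3)], (nat_lit 6), [(nat_lit 3)]))) (.node (.leaf ([(nat_lit 3), (nat_lit 2), (nat_lit 3), (nat_lit 2), (nat_lit 3), (nat_lit 2)], (nat_lit 6), [(nat_lit 3), (nat_lit 2)])) (.leaf ([], (nat_lit 1000000), [])))) (.node (.node (.leaf ([(nat_lit 0), (nat_lit 1), (nat_lit 0), (nat_lit 1), (nat_lit 0), (nat_lit 1)], (nat_lit 0), [(nat_lit 0), (nat_lit 1)])) (.leaf ([], (nat_lit 1000000), []))) (.node (.leaf ([(nat_lit 3), (nat_lit 1), (nat_lit 0), (nat_lit 1), (nat_lit 3), (nat_lit 1), (nat_lit 0), (nat_lit 1), (nat_lit 3), (nat_lit 1), (nat_lit 0), (nat_lit 1)], (nat_lit 7), [(nat_lit 1)])) (.leaf ([], (nat_lit 1000000), []))))) (.node (.node (.node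 (.leaf ([(nat_lit 2), (nat_lit 0), (nat_lit 2), (nat_lit 0)], (nat_lit 2), [])) (.leaf ([], (nat_lit 1000000), []))) (.node (.leaf ([(nat_lit 2), (nat_lit 3), (nat_lit 2), (nat_lit 0), (nat_lit 1), (nat_lit 0), (nat_lit 2), (nat_lit 3), (nat_lit 2), (nat_lit 0), (nat_lit 1), (nat_lit 0), (nat_lit 2), (nat_lit 3), (nat_lit 2), (nat_lit 0), (nat_lit 1), (nat_lit 0)], (nat_lit 9), [(nat_lit 0)])) (.leaf ([], (nat_lit 1000000), [])))) (.node (.node (.leaf ([(nat_lit 2), (nat_lit 1), (nat_lit 2), (nat_lit 1), (nat_lit 2), (nat_lit 1)], (nat_lit 1), [(nat_lit 1)])) (.leaf ([], (nat_lit 1000000), []))) (.node (.leaf ([(nat_lit 2), (nat_lit 3), (nat_lit 2), (nat_lit 3), (nat_lit 2), (nat_lit 3)], (nat_lit 6), [(nat_lit 3), (nat_lit 2), (nat_lit 3), (nat_lit 2), (nat_lit 3)])) (.leaf ([], (nat_lit 1000000), [])))))) (.node (.node (.node (.node (.leaf ([(nat_lit 1), (nat_lit 2), (nat_lit 1), (nat_lit 2), (nat_lit 1), (nat_lit 2)], (nat_lit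 1), [])) (.leaf ([], (nat_lit 1000000), []))) (.node (.leaf ([(nat_lit 1), (nat_lit 3), (nat_lit 1), (nat_lit 3), (nat_lit 1), (nat_lit 3)], (nat_lit 5), [(nat_lit 3)])) (.leaf ([], (nat_lit 1000000), [])))) (.node (.node (.leaf ([(nat_lit 3), (nat_lit 1), (nat_lit 3), (nat_lit 1), (nat_lit 3), (nat_lit 1)], (nat_lit 5), [(nat_lit 3), (nat_lit 1)])) (.leaf ([], (nat_lit 1000000), []))) (.node (.leaf ([(nat_lit 3), (nat_lit 0), (nat_lit 3), (nat_lit 0), (nat_lit 3), (nat_lit 0)], (nat_lit 4), [(nat_lit 3), (nat_lit 0)])) (.leaf ([], (nat_lit 1000000), []))))) (.node (.node (.node (.leaf ([(nat_lit 3), (nat_lit 0), (nat_lit 3), (nat_lit 0), (nat_lit 3), (nat_lit 0)], (nat_lit 4), [])) (.leaf ([], (nat_lit 1000000), []))) (.node (.leaf ([(nat_lit 1), (nat_lit 2), (nat_lit 1), (nat_lit 2), (nat_lit 1), (nat_lit 2)], (nat_lit 1), [(nat_lit 1), (nat_lit 2)])) (.leaf ([], (nat_lit 1000000), [])))) (.node (.node (.leaf ([(nat_lit 0),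 (nat_lit 2), (nat_lit 0), (nat_lit 2)], (nat_lit 2), [(nat_lit 2)])) (.leaf ([], (nat_lit 1000000), []))) (.node (.leaf ([(nat_lit 0), (nat_lit 3), (nat_lit 0), (nat_lit 3), (nat_lit 0), (nat_lit 3)], (nat_lit 4), [(nat_lit 3)])) (.leaf ([], (nat_lit 1000000), [])))))))
noncomputable def kYQ : BT (ℕ × List ℕ × ℕ) := (.node (.node (.node (.node (.leaf ((nat_lit 0), [(nat_lit 0)], (nat_lit 0))) (.leaf ((nat_lit 3), [(nat_lit 0), (nat_lit 3)], (nat_lit 0)))) (.node (.leaf ((nat_lit 0), [(nat_lit 1), (nat_lit 0)], (nat_lit 1))) (.leaf ((nat_lit 3), [(nat_lit 1), (nat_lit 2), (nat_lit 1), (nat_lit 3), (nat_lit 1)], (nat_lit 2))))) (.node (.node (.leaf ((nat_lit 2), [(nat_lit 2)], (nat_lit 2))) (.leaf ((nat_lit 3), [(nat_lit 2), (nat_lit 3)], (nat_lit 2)))) (.node (.leaf ((nat_lit 0), [(nat_lit 2)], (nat_lit 0))) (.leaf ((nat_lit 0), [(nat_lit 0)], (nat_lit 0)))))) (.node (.node (.node (.leaf ((nat_lit 1), [(nat_lit 1)], (nat_lit 1)))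 (.leaf ((nat_lit 3), [(nat_lit 1), (nat_lit 3)], (nat_lit 1)))) (.node (.leaf ((nat_lit 1), [(nat_lit 2), (nat_lit 1)], (nat_lit 2))) (.leaf ((nat_lit 3), [(nat_lit 2), (nat_lit 0), (nat_lit 1), (nat_lit 0), (nat_lit 2), (nat_lit 3), (nat_lit 2), (nat_lit 0)], (nat_lit 1))))) (.node (.node (.leaf ((nat_lit 3), [(nat_lit 3)], (nat_lit 3))) (.leaf ((nat_lit 3), [(nat_lit 1), (nat_lit 0), (nat_lit 1), (nat_lit 3), (nat_lit 1)], (nat_lit 0)))) (.node (.leaf ((nat_lit 2), [(nat_lit 0)], (nat_lit 2))) (.leaf ((nat_lit 0), [(nat_lit 0)], (nat_lit 0)))))))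
noncomputable def kYC : Cert := ⟨(nat_lit 4), (nat_lit 80), kYF, kYP, kYR, kYQ⟩
noncomputable def kYh : List (Ex × Ex) := [((.t (.g 0) (.g 1)), (.t (.g 1) (.g 0))), ((.t (.g 1) (.g 2)), (.t (.g 2) (.g 1))), ((.t (.g 0) (.g 2)), (.g 0)), ((.t (.g 2) (.g 0)), (.g 2)), ((.t (.g 3) (.g 0)), (.t (.g 0) (.g 3))), ((.t (.g 3) (.g 1)), (.t (.g 1) (.g 3))), ((.t (.g 3) (.g 2)), (.t (.g 2) (.g 3))), ((.t (.g 3) (.t (.g 0) (.g 1))), (.t (.t (.g 0) (.g 1)) (.g 3))), ((.t (.g 3) (.t (.g 2) (.g 1))), (.t (.t (.g 2) (.g 1)) (.g 3))), ((.t (.g 3) (.t (.t (.g 1) (.g 0)) (.g 2))), (.t (.t (.t (.g 1) (.g 0)) (.g 2)) (.g 3)))]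
theorem kYk : kYC.full 1 kYh [] [] = true := by decide +kernel
noncomputable def kYat : BT Nat := (.node (.leaf (nat_lit 0x105f6d678418d955f10d485d70434e08dd10627d264424915d410597916c405544d10c2155a403280e7cf0c185de343175831a0c9c2d8483268a6d30cc969960213cd21708901cd58202d628708c640f5422305508084e4c5282311238b0891109181308340c04c13c3381234108904c030b0c1128900100c3207140220218200471811000140100)) (.leaf (nat_lit 0x145e8dc8c536e286210d7762804359c821)))
noncomputable def kYa (p : Nat) : Nat := row kYat (nat_lit 5) (nat_lit 31) (nat_lit 34) (nat_lit 17179869183) p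
noncomputable def kYft : BT Nat := (.node (.leaf (nat_lit 0x3902198887cfc53710c143ae8e208d1e71c3c7a19a843db8c2a2cd3d8a5a117724dfb83325e157650c9030d8b39786c90e284c50b3718bbf7c55b9134f880d1859c136ad07bb16d43886c259900c1462c682090d62c050924ccb8e64295910cc888d5abd70854107890ea43830a156014ab8328603810456b4024068c20304095224a9c0a902852005098020)) (.leaf (nat_lit 0x467e7ce9a88f4c97290c93b2e41d331e0c8)))
noncomputable def kYf (p : Nat) : Nat := row kYft (nat_lit 5) (nat_lit 31) (nat_lit 35) (nat_lit 34359738367) p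
noncomputable def kYT : Tab := ⟨(nat_lit 36), (nat_lit 4), fun g p => fld (kYa p) (Nat.mul (nat_lit 6) g) (nat_lit 63),
  fun g => g, fun p => fld (kYa p) (nat_lit 24) (nat_lit 15), fun p => fld (kYa p) (nat_lit 28) (nat_lit 63)⟩
noncomputable def kYl (p : ℕ) : ℕ := fld (kYf p) (nat_lit 28) (nat_lit 127)
noncomputable def kYfi (g p : ℕ) : ℕ := fld (kYf p) (Nat.mul (nat_lit 7) g) (nat_lit 127)
theorem kYt : rng (fun p => band (kYT.chkA p) (band (kYT.chkP p) (kYC.chkT kYT kYl kYfi p))) 0 36 0 = true := by decide +kernel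
theorem kYg : band kYT.chkG (allLt 4 fun g => Nat.beq (kYl (kYT.pt g)) g) = true := by decide +kernel
theorem kY_real {G : Type*} [Group G] {a b c d : G} (qa : a * a = 1) (qb : b * b = 1) (qc : c * c = 1) (qd : d * d = 1)
    (h0 : tw a b = tw b a)
    (h1 : tw b c = tw c b)
    (h2 : Commute a c)
    (h3 : tw d a = tw a d)
    (h4 : tw d b = tw b d)
    (h5 : tw d c = tw c d)
    (h6 : tw d (tw a b) = tw (tw a b) d)
    (h7 : tw d (tw c b) = tw (tw c b) d)
    (h8 : tw d (tw (tw b a) c) = tw (tw (tw b a) c) d)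
    : ∃ ε : ℕ → G, QReal kYT ε ∧ ε 0 = a ∧ ε 1 = b ∧ ε 2 = c ∧ ε 3 = d := by
  have ht := fun p hp => band_iff.1 (rng_spec kYt p (Nat.zero_le _) hp)
  have hg := band_iff.1 kYg
  have hA := kYT.chkA_spec fun p hp => (ht p hp).1
  obtain ⟨ε, h, h'⟩ := kYC.qreal (s := val [a, b, c, d]) _ kYh kYT kYl kYfi kYk
    (kYT.ok_of hA.1 hA.2 (fun p hp => (band_iff.1 (ht p hp).2).1) hg.1) rfl
    (fun g hg' => beq_iff.1 (allLt_spec hg.2 g hg')) (fun p hp => (band_iff.1 (ht p hp).2).2)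
    (val_sq (by simp [*])) ⟨h0, h1, tw_of_comm qc h2, tw_of_comm qa h2.symm, h3, h4, h5, h6, h7, h8, trivial⟩
  exact ⟨ε, h, h' 0 (by decide), h' 1 (by decide), h' 2 (by decide), h' 3 (by decide)⟩
noncomputable def kYW : BT (List ℕ × ℕ × ℕ) := (.node (.node (.node (.node (.node (.node (.leaf ([], (nat_lit 0), (nat_lit 2))) (.leaf ([(nat_lit 1), (nat_lit 3), (nat_lit 0), (nat_lit 1), (nat_lit 3), (nat_lit 2)], (nat_lit 0), (nat_lit 1)))) (.node (.leaf ([(nat_lit 3), (nat_lit 2), (nat_lit 1), (nat_lit 0), (nat_lit 3), (nat_lit 2), (nat_lit 0), (nat_lit 1), (nat_lit 0)], (nat_lit 3), (nat_lit 1))) (.leaf ([], (nat_lit 0), (nat_lit 0))))) (.node (.node (.leaf ([(nat_lit 2), (nat_lit 0), (nat_lit 3), (nat_lit 0)], (nat_lit 3), (nat_lit 0))) (.leaf ([], (nat_lit 0), (nat_lit 0)))) (.node (.leaf ([(nat_lit 1), (nat_lit 2), (nat_lit 0), (nat_lit 3), (nat_lit 1), (nat_lit 2), (nat_lit 1)], (nat_lit 3), (nat_lit 4))) (.leaf ([], (nat_lit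 0), (nat_lit 0)))))) (.node (.node (.node (.leaf ([(nat_lit 0)], (nat_lit 0), (nat_lit 1))) (.leaf ([], (nat_lit 0), (nat_lit 0)))) (.node (.leaf ([(nat_lit 1), (nat_lit 3), (nat_lit 0), (nat_lit 1), (nat_lit 2), (nat_lit 3), (nat_lit 2), (nat_lit 0)], (nat_lit 3), (nat_lit 4))) (.leaf ([], (nat_lit 0), (nat_lit 0))))) (.node (.node (.leaf ([(nat_lit 2), (nat_lit 3), (nat_lit 0)], (nat_lit 3), (nat_lit 0))) (.leaf ([], (nat_lit 0), (nat_lit 0)))) (.node (.leaf ([(nat_lit 3), (nat_lit 1), (nat_lit 0), (nat_lit 3), (nat_lit 1), (nat_lit 2), (nat_lit 0)], (nat_lit 0), (nat_lit 1))) (.leaf ([], (nat_lit 0), (nat_lit 0))))))) (.node (.node (.node (.node (.leaf ([], (nat_lit 0), (nat_lit 2))) (.leaf ([(nat_lit 1), (nat_lit 3), (nat_lit 0), (nat_lit 1), (nat_lit 3)], (nat_lit 0), (nat_lit 2)))) (.node (.leaf ([(nat_lit 2), (nat_lit 3), (nat_lit 0)], (nat_lit 3), (nat_lit 1))) (.leaf ([], (nat_lit 0), (nat_lit 0))))) (.node (.node (.leaf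 ([(nat_lit 3), (nat_lit 0)], (nat_lit 3), (nat_lit 1))) (.leaf ([], (nat_lit 0), (nat_lit 0)))) (.node (.leaf ([(nat_lit 3), (nat_lit 2), (nat_lit 0), (nat_lit 1), (nat_lit 3), (nat_lit 2), (nat_lit 1)], (nat_lit 3), (nat_lit 4))) (.leaf ([], (nat_lit 0), (nat_lit 0)))))) (.node (.node (.node (.leaf ([(nat_lit 2)], (nat_lit 0), (nat_lit 1))) (.leaf ([], (nat_lit 0), (nat_lit 0)))) (.node (.leaf ([(nat_lit 2), (nat_lit 0), (nat_lit 3), (nat_lit 0)], (nat_lit 3), (nat_lit 4))) (.leaf ([], (nat_lit 0), (nat_lit 0))))) (.node (.node (.leaf ([(nat_lit 0), (nat_lit 3), (nat_lit 0)], (nat_lit 3), (nat_lit 4))) (.leaf ([], (nat_lit 0), (nat_lit 0)))) (.node (.leaf ([(nat_lit 3), (nat_lit 1), (nat_lit 0), (nat_lit 3), (nat_lit 1), (nat_lit 2), (nat_lit 3), (nat_lit 0)], (nat_lit 3), (nat_lit 0))) (.leaf ([], (nat_lit 0), (nat_lit 0)))))))) (.node (.node (.node (.node (.node (.leaf ([], (nat_lit 0), (nat_lit 1))) (.leaf ([(nat_lit 1),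 (nat_lit 3), (nat_lit 0), (nat_lit 1), (nat_lit 3), (nat_lit 2), (nat_lit 0)], (nat_lit 0), (nat_lit 1)))) (.node (.leaf ([(nat_lit 3), (nat_lit 1), (nat_lit 0), (nat_lit 3), (nat_lit 1), (nat_lit 2), (nat_lit 3), (nat_lit 0)], (nat_lit 3), (nat_lit 4))) (.leaf ([], (nat_lit 0), (nat_lit 0))))) (.node (.node (.leaf ([(nat_lit 2), (nat_lit 0)], (nat_lit 0), (nat_lit 1))) (.leaf ([], (nat_lit 0), (nat_lit 0)))) (.node (.leaf ([(nat_lit 3), (nat_lit 0), (nat_lit 1), (nat_lit 2), (nat_lit 3), (nat_lit 1), (nat_lit 2)], (nat_lit 3), (nat_lit 0))) (.leaf ([], (nat_lit 0), (nat_lit 0)))))) (.node (.node (.node (.leaf ([(nat_lit 3), (nat_lit 0)], (nat_lit 3), (nat_lit 0))) (.leaf ([], (nat_lit 0), (nat_lit 0)))) (.node (.leaf ([(nat_lit 0), (nat_lit 1), (nat_lit 2), (nat_lit 3), (nat_lit 0), (nat_lit 1), (nat_lit 2), (nat_lit 1), (nat_lit 0)], (nat_lit 3), (nat_lit 1))) (.leaf ([], (nat_lit 0), (nat_lit 0))))) (.node (.node (.leaf ([(nat_lit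 1), (nat_lit 2), (nat_lit 3), (nat_lit 0), (nat_lit 1), (nat_lit 2), (nat_lit 1), (nat_lit 0)], (nat_lit 3), (nat_lit 1))) (.leaf ([], (nat_lit 0), (nat_lit 0)))) (.node (.leaf ([(nat_lit 3), (nat_lit 1), (nat_lit 0), (nat_lit 3), (nat_lit 1), (nat_lit 2)], (nat_lit 0), (nat_lit 1))) (.leaf ([], (nat_lit 0), (nat_lit 0))))))) (.node (.node (.node (.node (.leaf ([(nat_lit 0), (nat_lit 3), (nat_lit 0)], (nat_lit 3), (nat_lit 0))) (.leaf ([(nat_lit 3), (nat_lit 1), (nat_lit 0), (nat_lit 3), (nat_lit 1)], (nat_lit 0), (nat_lit 2)))) (.node (.leaf ([(nat_lit 2), (nat_lit 0), (nat_lit 3), (nat_lit 0)], (nat_lit 3), (nat_lit 1))) (.leaf ([], (nat_lit 0), (nat_lit 0))))) (.node (.node (.leaf ([(nat_lit 0), (nat_lit 3), (nat_lit 0)], (nat_lit 3), (nat_lit 1))) (.leaf ([], (nat_lit 0), (nat_lit 0)))) (.node (.leaf ([(nat_lit 1), (nat_lit 2), (nat_lit 0), (nat_lit 1), (nat_lit 3), (nat_lit 2)], (nat_lit 3), (nat_lit 0))) (.leaf ([], (nat_lit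 0), (nat_lit 0)))))) (.node (.node (.node (.leaf ([(nat_lit 3), (nat_lit 0)], (nat_lit 3), (nat_lit 4))) (.leaf ([], (nat_lit 0), (nat_lit 0)))) (.node (.leaf ([(nat_lit 3), (nat_lit 1), (nat_lit 0), (nat_lit 3), (nat_lit 1), (nat_lit 2), (nat_lit 3), (nat_lit 0)], (nat_lit 3), (nat_lit 1))) (.leaf ([], (nat_lit 0), (nat_lit 0))))) (.node (.node (.leaf ([(nat_lit 2), (nat_lit 3), (nat_lit 0)], (nat_lit 3), (nat_lit 4))) (.leaf ([], (nat_lit 0), (nat_lit 0)))) (.node (.leaf ([(nat_lit 3), (nat_lit 2), (nat_lit 0), (nat_lit 1), (nat_lit 3), (nat_lit 2), (nat_lit 1)], (nat_lit 3), (nat_lit 0))) (.leaf ([], (nat_lit 0), (nat_lit 0)))))))))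
noncomputable def kYV : List (List ℕ) := [[], [(nat_lit 0), (nat_lit 1)], [(nat_lit 1), (nat_lit 2), (nat_lit 0), (nat_lit 1)], [(nat_lit 0), (nat_lit 3)]]
noncomputable def kTFt : BT Nat := (.node (.node (.node (.node (.node (.node (.leaf (nat_lit 0x18001200011800008c0008860004400026300021000200800100000f800007c0006840003c0002c30001d0001c10000e0000a0c0006c00068200034000282000190001318000c0000b800005c0005020002c0002a0000150001318000a00002040004c00010600024000222000110001000000800007840003c0003800001c0001210000d0000c10000600004040002c00028000014000102000090000308000400001800001c0000c40000c0000210000500000)) (.leaf (nat_lit 0x2800fb00050140063000438a003540014e500181000652800b88000894005ec0003ca0040e00012500229000dc2801128005314005cc000a4a001fa0005c5001f50003a28009e800269400860002f4a001fe0006c5001e9000f62800b60007a940085000148a0040a00222500134000c02800810004294003f800040a003ee000625001d2001552800f70001914005e8000bca0018e000aa5001b6000c52800bf0005594005b80020ca0042e0018450018f001b1)))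 (.node (.leaf (nat_lit 0x180112000e3880088c0071000044400388100221001c1100110000e0100087c006f860043c0037a40021d001bc10010e000dd040086c006e460043400370300219001b400010c000da0c0085c006cc40042c0035c100215001ad08010a000d6080084c006ac60042400354400211001a8200108000d3800083c0069800041c0034820020d0019d200106000ce000082c006640004140032430020900191200104000c6080081c0063020040c003180002050018c)) (.leaf (nat_lit 0)))) (.node (.node (.leaf (nat_lit 0x18009200059040048c002c460024400160200121000b000009000057880047c002b860023c0015a00011d000ad08008e00056000046c002b060023400156000119000ab18008c00054840045c002a020022c0014e200115000a608008a00053040044c0029040022400142200111000a00800880004f0c0043c0026840021c0013420010d000991800860004c040042c002602002140012e1001090009620008400049040041c0024880020c0012230010500091)) (.leaf (nat_lit 0))) (.node (.leaf (nat_lit 0x18008e8008e8400464004740002380023810011b0011b2000628008c80002d8004608002260022e0000bf001170000650008a80002d00044c6001da002240000f200112080073000888000438004442001380021e1000bc0010e20006f000870400310004340001bc0021a4000a70010c1000560008600002a80042c600132002142001060010810007e8007f8c00360003d86001e0001e83000f2000d610004b800790c00334003c4400138001e21000a9000f0))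 (.leaf (nat_lit 0))))) (.node (.node (.node (.leaf (nat_lit 0x52000178c0028c000b42001440005a3000a10002c08005000016040027c000ac00013c0005410009d0002718004e00012880026c0008c200134000461000990002110004c000100c0025c0007c40012c0003e4000950009408004a000498c0024c00248400124001221000910009018004800047800023c0023860011c0009040008d0008c18004600045840022c00228400114001123000890008808004400043800021c0021820010c000be40008500084)) (.leaf (nat_lit 0x2800088005214001f800044a000200015650018a0007728004b8003c140062c0005ca00188000fc100027000212800848000394000e40007ca002580005a50000c000b92801118006b94007bc00358a002980000450000d001c42800ea00002140013000098a00094000865000200004228008580007140003c00260a000740001e50001f0006f28001280006940071000094a00042004445001f20001928001200006140012400070a001cc0004c5000a100065))) (.node (.leaf (nat_lit 0x20001f000078c001940003c80004e0001c30000e0000e1000038000714000fc0003ca000500001c4000510004908000c8000c900008c0007c20003600044400050000482000170002f1000024000706000380003850001d0001c2000148001790000e8000a84000740005e0000740006c0000368003a80000b4001080000860001810004500010100023800079000180001602000bc000544000570005f080032800328c000a0000a04000ee000ee30007700027))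 (.leaf (nat_lit 0)))) (.node (.node (.leaf (nat_lit 0x800d200098840068c004c08003440025c1001a10012b0800d000094900067c004a080033c0024e10019d001270000ce00093880066c00490200334002441001990011e2000cc0008d040065c0046840032c00230100195001181000ca0008b100064c0045060032400226200191001130800c8000890c0063c0044460031c0022020018d0010f1800c6000870c0062c0043440031400214400189001091800c4000840c0061c0041c00030c0020e30018500106)) (.leaf (nat_lit 0))) (.node (.leaf (nat_lit 0x2000f2000f910005e4007c40002ee003e00001c6001ef1000bd800f68c00604007b06003c8003d6100198001ea0800e3000f404006280079c20037c003ca10018d001e40800dd000f1900077c007884003c2003b61001c0001e11800cd800ee08007580058c600356003ac3001a8001d21800aa000e78c00728007348003920039820016c001c91000a5800e280005c8007146002d60038620014c001c31800c8000e01000534007000003200037e2001bf001bf)) (.leaf (nat_lit 0)))))) (.node (.node (.node (.node (.leaf (nat_lit 0x18003200031840018c001884000c4000c2300061000600000300002f8c0017c001784000bc0003440005d0005c18002e0002d880016c001682000b4000b23000590005800002c0002b8c0015c000a48000ac000aa1000550005410002a000298c0014c001482000a4000a2000051000500800280001d080013c000d480009c0009a10004d0004c18002600025880012c00128200094000920000490004808002400017100011c0011800008c0006a40004500044))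 (.leaf (nat_lit 0x2800e300031140001800348a003aa0000850013100001280025800051400260000e8a003f40013a5000500000e2800528000f140052400018a00444000825001e40000628005e0000414001200009ca002220000e50002c0000f28004d0000494008a800744a003ba003265000050005f2800b900052940052c00160a001100000a5001f10005028007d800131400600001b4a004160034e5001a40013128010c800259400120005e4a000bc0001650002f00020))) (.node (.leaf (nat_lit 0x8002e8004a8c001580023460008a0010a3000430007d0800218003a8400104001b460007e000ca3000390005d08001b8002b10000400013c2000220009c000011000470000188002288000280010c00001a000821000280003f1000130001c880002c000dc8000220006a10000900031200006000169000028000b080001a000562000070002808000380013100002c000848000240003c4000090001d2000040000d90000180006480000e0003040000500016)) (.leaf (nat_lit 0)))) (.node (.node (.leaf (nat_lit 0x1000b200074840058c003a04002c4001ce100161000e70000b0000738c0057c003984002bc001ca30015d000e40800ae00071800056c0038c2002b4001c4300159000e01800ac0006f8c0055c003786002ac001ba100155000dc0000aa0006e0c0054c0036c2002a4001b6200151000d90800a80006b900053c0035820029c001ac30014d000d40800a600069100052c00344600294001a2200149000d11800a400068080051c0034060028c0019e000145000cf))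 (.leaf (nat_lit 0))) (.node (.leaf (nat_lit 0x94800cb0800654006542003080032410011f00191000093000c8880063c0063c2002ec0031c10012c001892000a4000c4080041c0060c20020a0030410018100181000080800c010004d0005fc80027c002fc10017d0013318009a000be8c00408005f08002e6002f41001010017700007e800ba8000528005d04001f4002e42000fe0017118007e000b784005b0005b82002a2002da0000f50016a0800b3000b39000584005980001d4002c830016100163)) (.leaf (nat_lit 0))))) (.node (.node (.node (.leaf (nat_lit 0x72000380c0038c001b06001c4000d62000e10006b20007000035040037c001a82001bc000d20000dd0006918006e00034000036c001a02001b4000cc1000d90006410006c000318c0035c001880001ac000c44000d50006108006a00030800034c001844001a4000c01000d1000600800680002e040033c0016c00019c000b64000cd0005a0000660002d100032c00164400194000b22000c9000580800640002c0c0031c0015460018c000a80000c500054)) (.leaf (nat_lit 0x8000f0003b94004a400078a003b000046500182002012800e70000f940038c00038a00412000ee3002010001e2800fe0001094004e000078a0039a0001250001e001242800980001094004bc00078a00012002a010015000023280095800048c004900007ca000ee0043c5000b60001528011600011140040c00078a0029e0004050006c0000e08010f0000f14006440009ca0002e002265001e70001e2801018001394004e400048a000220018850004e00017)))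 (.node (.leaf (nat_lit 0x510005b900020c002d48000f600166400073000b2200035800580000148002b88000a80015620009d000a91800540003388001bc002a000007a00150000059000a610002b800528400238002948000640014820003b000a410002f80051840028c0028c60014400144200048000a208005080050800025c0028460014000140400099000a000004d000500c002180027c4000a00013e2000320009e20001e8004e80000cc002740000fe001384000960009b)) (.leaf (nat_lit 0)))) (.node (.node (.leaf (nat_lit 0x1000f2000b4080078c0059c4003c4002cc3001e1001650800f0000b1080077c005840003bc002c21001dd001601000ee000af840076c0057c2003b4002bc0001d90015c0800ec000ad800075c005682003ac002b24001d5001570000ea000ab840074c005580003a4002aa4001d1001540800e8000aa000073c0054c20039c0029e4001cd0014e1800e6000a7080072c00534800394002983001c90014c1800e4000a5900071c0052840038c002944001c500149)) (.leaf (nat_lit 0))) (.node (.leaf (nat_lit 0x800eb8011680008ac007548003a8004561001d40022a0800e9001149000738008a060044e003d22001e8002272000f2801130c007b8008942004480043e4001c8002241800e3001118c007b4008882003b8004404001cb0022018010e8010f840078800870400436003823001c20021b0800e10010d00008180086460041c004301001b6002180801098010b88008500085c2003660042c3001ae002151800db8010a0c0077c0084c000424003f41001f000212))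 (.leaf (nat_lit 0))))))) (.node (.node (.node (.node (.node (.leaf (nat_lit 0x2200018100010c0010840008400058400041000400000200001590000fc000f820007c0007a20003d0003c18001e0001d80000ec000e8600074000324000390003810001c0001290000dc000d840006c000423000350003410001a0001984000cc000c80000640005240003100030080018000178c000bc000b840005c0004420002d0001b0000160000d8c000ac000a8400054000521000290001c20001400013880009c0006080004c0004a10002500024)) (.leaf (nat_lit 0x2800110001b140012000264a001360004a5001e8000632800a6000e194005c000140a004100002850020600008280001800c6140006400430a00424000665001ec0000f28007c8000914007b40011ca0031a0000450010e0000328005000007140074000550a00462002285000fa000572800448000594005e400264a002ea0004a500021000fd2800fc8000c94006d4001b0a0041c002645001b40004c28001700010940089c00360a00392002d65001ac00051))) (.node (.leaf (nat_lit 0x2000018000a10000080000840000800008400000000000000020000208000140004860000c0001a3000050000b180001000048c00004000206000000000e00000200002100000000000400008000180000020000a30000300003100001000010c008cc00780200464003be400231001dd000118000ee8c008bc0076800045c003b000022d001d3180116000e884008ac00744800454003a0000229001d0080114000e6840089c0072c20044c00390000225001c8))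 (.leaf (nat_lit 0)))) (.node (.node (.leaf (nat_lit 0x800a200066840050c0033020028400196100141000ca0800a00006488004fc0032020027c0018e00013d000c720009e0006304004ec003180002740018c300139000c418009c000618c004dc0030820026c00184300135000c108009a000600c004cc002fc6002640017a300131000bc1800980005d88004bc002e820025c0017400012d000ba2000960005c90004ac002e040025400170200129000b60800940005a8c0049c002d040024c00168000125000b3)) (.leaf (nat_lit 0))) (.node (.leaf (nat_lit 0x1800af000b10000394005742002ae002b00000e20015618008b800aa9000480005482002940029a00014c0014c00007d000a580003e40052420028c002904001420014400008a000a1880033c005040002060028030013b0013e2000800009e90004e0004e440018c0026e2000e00013600007c0009a80004c4004c860017c0025e0001040012a100093800938c00498004982002420024c3000d200125200075800929000384004842001c8002400000c20011f)) (.leaf (nat_lit 0))))) (.node (.node (.node (.leaf (nat_lit 0x20006200029900030c00148400184000a42000c1000511800600002784002fc0013c40017c000980000bd0004c00005e0002590002ec00128600174000940000b90004a18005c0002488002dc0012460016c0008c3000b50004408005a000220c002cc00108200164000843000b1000400800580002004002bc000f020015c000761000ad000381800560001b04002ac000d8200154000680000a900034200054000198c0029c000cc60014c000643000a500030))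 (.leaf (nat_lit 0x2800c480027140072800008a0017c0003e5000bb0002028005d0000a94002a800024a00068000465000d7000232800088009614002e000070a00052000945000b20001f28003c0000f140006400284a0008c0005220000d000230000ec0011614007440004ca000080045650022d0021e1800148000a94000b400044a00280000325000190006528006b0001494000800011ca000da0004e5001d70001e2800d38000914000a40010c800040000525001130004e))) (.node (.leaf (nat_lit 0x170004d900019c002608000fe0012e00005e000960000268002a8c00168001e8000108000f8000038000360000108001280000980002c20010a0011a0000390003718001b800080c00028000984000f8000b800005c0006410002e8003e80001940017400010a000fa30000c000311000158001808001900021040010a000ca20004400040100018800068800104001144000d80009a20009500095100027000368c00254001b420008e0007200004f0003e)) (.leaf (nat_lit 0)))) (.node (.node (.leaf (nat_lit 0x1800e2000a4840070c00524400384002903001c1001470000e0000a30c006fc0051460037c002884001bd001431800de000a100006ec00504600374002803001b90013f0800dc0009f88006dc004f800036c0027c2001b50013d0800da0009e88006cc004ec800364002741001b10013a0800d80009c10006bc004dc20035c0026e3001ad001361000d60009a84006ac004d4400354002684001a9001330000d400099880069c004c820034c002642001a500131))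 (.leaf (nat_lit 0))) (.node (.leaf (nat_lit 0x80108800f980006a40084420041c0041e20020b0020e2000d9801068000678008308003ae0041630019c0020a0800fd801050800680008246003aa004101001f7002071000fb00102800081c007d860031a0040e3001a4002061800d8801028c00750008102003f80040620018b002031800ff801011000708008086003ce00402000200001e71000f3001000800618007f46003ea003f24001aa001f92000fa000fb80007e0007d0200352003f04001ee001f3)) (.leaf (nat_lit 0)))))) (.node (.node (.node (.node (.leaf (nat_lit 0x18004200041800020c0020820010400102300081000801000400003f8c001fc001f82000fc0002e40007d0007c18003e0003d88001ec001e80000f4000f23000790007808003c0003b8c001dc001d80000ec000384000750007408003a0003988001cc001c80000e4000e230007100070080038000378c001bc001b80000dc0003240006d0006c0800360003580001ac001a86000d4000d22000690006808003400033880019c001986000cc0002a40006500064)) (.leaf (nat_lit 0x28002100023940006c00040a000460006250022e0022c2800ea0011594008c0006f4a000ae0002a5000a3000122800648000c9400078005c8a0038a001925001780000f280007000f894005d000028a0004200082500021001fa2800eb80108140001800694a003320000c500001001a42800150000514000a400198a000600003e5000a40007e2800558000d9400428001dca0021a0002e5000210009d2800138004c940025800098a00046000705000b900024)))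 (.node (.leaf (nat_lit 0x10000b8001380000700009c80000e0002e300017000172800138003b140005c00060800048000fc00006600024180020800238400048000480000240000c4000340006f2000330001010000140005440003c0002a100015000151800378000f1400054000580000320003c50001e0006e1000370000a80001bc000f02000e4000a620005500074100046000460800234002342000fa000fa3000750007510003a8002b08001d80005c8000ee000ee00007e00020)) (.leaf (nat_lit 0)))) (.node (.node (.leaf (nat_lit 0xc200082840060c0041060030400206200181001021000c0000800c005fc003fc2002fc001fe40017d000fe0800be0007f00005ec003f86002f4001fa100179000fd2000bc0007e08005dc003f00002ec001f8400175000fb1800ba0007d8c005cc003e88002e4001f2300171000f91000b80007c04005bc003e06002dc001ee20016d000f71800b60007a88005ac003d42002d4001e6100169000f20800b4000788c0059c003bc6002cc001dc100165000ed)) (.leaf (nat_lit 0))) (.node (.leaf (nat_lit 0xdf000b3800064c006f460037600376200145001bb2000c0000da80004f0006c800031e003623001a3001b010009e000d790006b8006b80002e000358100194001aa1800cf000d480006940069c4003480033210018f001a200009d800d10000680006806002fc0033e10013c0019e20009d800ce8c004a00067400025c0033a10019c0012d2000a3000cd0000668005346002460033440015a0019918009e000cc10005b00065c6002380032e10019600196))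 (.leaf (nat_lit 0))))) (.node (.node (.node (.leaf (nat_lit 0x10008200048040040c0023c200204001182001010008b0000800004590003fc002286001fc001144000fd0008908007e0004480003ec002248001f4001102000f90008818007c0004384003dc002104001ec001061000f50008310007a0004080003cc002048001e4001000000f1000801000780003f04003bc001f02001dc000f64000ed0007a0800760003d08003ac001e44001d4000f00000e9000781800740003a0c0039c001cc8001cc000e43000e500072)) (.leaf (nat_lit 0x50000000002280000000d814000240068ca000ee000005000050012928000480013940008400760a0003c0000a50002300021280005800e7140002c00804a002b6000125001a00007728000f8000594006c0001dca0003e004025002280002328000f800c1140068c0009ca00046003421001a100009))) (.node (.leaf (nat_lit 0x4c0007808002cc003b4600190001d83000eb0008200003d8007584003a8003a8600198001d22000b2000e608005f000708400304003800000e6001be2000da000de20004d0006d0000264003684001a6001ac3000cb000d518004b00069800028c00348000110001a2400093000d0100066000670000294003248001160018e1000bd000c51000558006204002ec0030c00013e001822000a7000c020005a0005f88002e4002f020013600172000090000b8))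 (.leaf (nat_lit 0)))) (.node (.node (.leaf (nat_lit 0x102000c58c0080c006284004040031000020100187180100000c308007fc006142003fc0030a0001fd001832000fe000c100007ec006082003f4003002001f90017f2000fc000be00007dc005f02003ec002f62001f50017a0800fa000bd00007cc005e86003e4002f01001f1001781000f8000bb08007bc005d00003dc002e60001ed001710800f6000b810007ac005bc8003d4002dc2001e90016e1800f4000b6880079c005a40003cc002d23001e500168)) (.leaf (nat_lit 0))) (.node (.leaf (nat_lit 0x2800be8002794005f000114a003e8000605001a8001172800f98005214004f800150a002340033e5001ea000b52800d98009b94004e800688a002660017e5001f8000442801088008994004ec00318a002500033050020d001af280097000d914006a4002d0a002780033a50019e001272800ce0010600007f8007f800045e0044220021500233080117801198c00858008c84003c00046410022500231180116801180400778008c06004540045c1001d90022e)) (.leaf (nat_lit 0))))))))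
noncomputable def kTF (p : Nat) : Nat := row kTFt (nat_lit 5) (nat_lit 31) (nat_lit 45) (nat_lit 35184372088831) p
noncomputable def kTP0000 : BT Pf := (.node (.node (.node (.node (.node (.node (.node (.leaf .df) (.leaf (.cyc (nat_lit 14) [(nat_lit 880), (nat_lit 1014), (nat_lit 428)]))) (.node (.leaf .df) (.leaf .df))) (.node (.node (.leaf .df) (.leaf .df)) (.node (.leaf (.cyc (nat_lit 60) [(nat_lit 728), (nat_lit 152), (nat_lit 639), (nat_lit 121), (nat_lit 235)])) (.leaf .df)))) (.node (.node (.node (.leaf .df) (.leaf (.cyc (nat_lit 13) [(nat_lit 156), (nat_lit 1104), (nat_lit 670)]))) (.node (.leaf (.cyc (nat_lit 13) [(nat_lit 114), (nat_lit 635)])) (.leaf .df))) (.node (.node (.leaf .df) (.leaf .df)) (.node (.leaf (.cyc (nat_lit 23) [(nat_lit 442), (nat_lit 892), (nat_lit 893), (nat_lit 892), (nat_lit 442)])) (.leaf .df))))) (.node (.node (.node (.node (.leaf .df) (.leaf (.cyc (nat_lit 13) [(nat_lit 42), (nat_lit 1059),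 (nat_lit 28)]))) (.node (.leaf (.pin (nat_lit 17) [(nat_lit 14), (nat_lit 16), (nat_lit 17)] [(nat_lit 0)])) (.leaf .df))) (.node (.node (.leaf .df) (.leaf .df)) (.node (.leaf (.cyc (nat_lit 51) [(nat_lit 348), (nat_lit 226), (nat_lit 111), (nat_lit 227), (nat_lit 350)])) (.leaf .df)))) (.node (.node (.node (.leaf .df) (.leaf (.cyc (nat_lit 15) [(nat_lit 1215), (nat_lit 388), (nat_lit 1175), (nat_lit 637)]))) (.node (.leaf (.cyc (nat_lit 49) [(nat_lit 145), (nat_lit 662), (nat_lit 150)])) (.leaf .df))) (.node (.node (.leaf .df) (.leaf .df)) (.node (.leaf (.cyc (nat_lit 77) [(nat_lit 491), (nat_lit 857), (nat_lit 393), (nat_lit 267), (nat_lit 708), (nat_lit 46), (nat_lit 162), (nat_lit 273), (nat_lit 399), (nat_lit 884), (nat_lit 525)])) (.leaf .df)))))) (.node (.node (.node (.node (.node (.leaf .df) (.leaf (.cyc (nat_lit 14) [(nat_lit 527), (nat_lit 1038), (nat_lit 77)]))) (.node (.leaf .df) (.leaf .df))) (.node (.node (.leaf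 .df) (.leaf .df)) (.node (.leaf (.cyc (nat_lit 48) [(nat_lit 189), (nat_lit 730), (nat_lit 282)])) (.leaf .df)))) (.node (.node (.node (.leaf .df) (.leaf (.cyc (nat_lit 14) [(nat_lit 270), (nat_lit 1183), (nat_lit 597)]))) (.node (.leaf (.cyc (nat_lit 18) [(nat_lit 598), (nat_lit 11), (nat_lit 671)])) (.leaf .df))) (.node (.node (.leaf .df) (.leaf .df)) (.node (.leaf (.cyc (nat_lit 54) [(nat_lit 489), (nat_lit 845), (nat_lit 494)])) (.leaf .df))))) (.node (.node (.node (.node (.leaf .df) (.leaf (.cyc (nat_lit 14) [(nat_lit 737), (nat_lit 1085), (nat_lit 32)]))) (.node (.leaf (.cyc (nat_lit 0) [(nat_lit 121), (nat_lit 18), (nat_lit 21), (nat_lit 26), (nat_lit 27)])) (.leaf .df))) (.node (.node (.leaf .df) (.leaf .df)) (.node (.leaf (.cyc (nat_lit 60) [(nat_lit 401), (nat_lit 400), (nat_lit 862), (nat_lit 400), (nat_lit 401)])) (.leaf .df)))) (.node (.node (.node (.leaf .df) (.leaf (.cyc (nat_lit 14) [(nat_lit 412), (nat_lit 1231)])))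 (.node (.leaf (.cyc (nat_lit 46) [(nat_lit 139), (nat_lit 138), (nat_lit 137), (nat_lit 68), (nat_lit 179)])) (.leaf .df))) (.node (.node (.leaf .df) (.leaf .df)) (.node (.leaf (.cyc (nat_lit 19) [(nat_lit 468), (nat_lit 343), (nat_lit 342), (nat_lit 467), (nat_lit 553)])) (.leaf .df))))))) (.node (.node (.node (.node (.node (.node (.leaf .df) (.leaf (.cyc (nat_lit 12) [(nat_lit 484), (nat_lit 1026), (nat_lit 241)]))) (.node (.leaf .df) (.leaf .df))) (.node (.node (.leaf .df) (.leaf .df)) (.node (.leaf (.cyc (nat_lit 60) [(nat_lit 738), (nat_lit 737), (nat_lit 150), (nat_lit 149), (nat_lit 265)])) (.leaf .df)))) (.node (.node (.node (.leaf .df) (.leaf (.cyc (nat_lit 91) [(nat_lit 1159), (nat_lit 1158)]))) (.node (.leaf (.cyc (nat_lit 33) [(nat_lit 580), (nat_lit 588), (nat_lit 44), (nat_lit 43), (nat_lit 655), (nat_lit 36)])) (.leaf .df))) (.node (.node (.leaf .df) (.leaf .df)) (.node (.leaf (.cyc (nat_lit 53) [(nat_lit 899),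 (nat_lit 395), (nat_lit 789), (nat_lit 352), (nat_lit 476)])) (.leaf .df))))) (.node (.node (.node (.node (.leaf .df) (.leaf (.cyc (nat_lit 14) [(nat_lit 155), (nat_lit 1071), (nat_lit 10)]))) (.node (.leaf (.pin (nat_lit 33) [(nat_lit 14), (nat_lit 20), (nat_lit 53), (nat_lit 54), (nat_lit 55), (nat_lit 56), (nat_lit 57), (nat_lit 58)] [(nat_lit 584), (nat_lit 565)])) (.leaf .df))) (.node (.node (.leaf .df) (.leaf .df)) (.node (.leaf (.cyc (nat_lit 68) [(nat_lit 847), (nat_lit 303), (nat_lit 187), (nat_lit 186), (nat_lit 302)])) (.leaf .df)))) (.node (.node (.node (.leaf .df) (.leaf (.cyc (nat_lit 14) [(nat_lit 331), (nat_lit 1208)]))) (.node (.leaf (.cyc (nat_lit 40) [(nat_lit 54), (nat_lit 653), (nat_lit 159)])) (.leaf .df))) (.node (.node (.leaf .df) (.leaf .df)) (.node (.leaf (.cyc (nat_lit 49) [(nat_lit 454), (nat_lit 898), (nat_lit 539)])) (.leaf .df)))))) (.node (.node (.node (.node (.node (.leaf .df) (.leaf (.cyc (nat_lit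 12) [(nat_lit 1054), (nat_lit 514), (nat_lit 1049), (nat_lit 4)]))) (.node (.leaf (.pin (nat_lit 1) [] [])) (.leaf .df))) (.node (.node (.leaf .df) (.leaf .df)) (.node (.leaf (.cyc (nat_lit 51) [(nat_lit 310), (nat_lit 193), (nat_lit 80), (nat_lit 194), (nat_lit 313)])) (.leaf .df)))) (.node (.node (.node (.leaf .df) (.leaf (.cyc (nat_lit 12) [(nat_lit 679), (nat_lit 1149)]))) (.node (.leaf (.cyc (nat_lit 18) [(nat_lit 88), (nat_lit 686), (nat_lit 96)])) (.leaf .df))) (.node (.node (.leaf .df) (.leaf .df)) (.node (.leaf (.cyc (nat_lit 51) [(nat_lit 415), (nat_lit 300), (nat_lit 784), (nat_lit 391), (nat_lit 513)])) (.leaf .df))))) (.node (.node (.node (.node (.leaf .df) (.leaf (.cyc (nat_lit 91) [(nat_lit 1124), (nat_lit 1113)]))) (.node (.leaf (.cyc (nat_lit 14) [(nat_lit 17), (nat_lit 622)])) (.leaf .df))) (.node (.node (.leaf .df) (.leaf .df)) (.node (.leaf (.cyc (nat_lit 74) [(nat_lit 394), (nat_lit 268), (nat_lit 713), (nat_lit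 155), (nat_lit 586), (nat_lit 6), (nat_lit 568), (nat_lit 570), (nat_lit 13), (nat_lit 597), (nat_lit 73), (nat_lit 72), (nat_lit 71), (nat_lit 70), (nat_lit 181), (nat_lit 297), (nat_lit 413)])) (.leaf .df)))) (.node (.node (.node (.leaf .df) (.leaf (.cyc (nat_lit 91) [(nat_lit 1261), (nat_lit 1246)]))) (.node (.leaf (.cyc (nat_lit 58) [(nat_lit 198), (nat_lit 84), (nat_lit 646), (nat_lit 92), (nat_lit 208)])) (.leaf .df))) (.node (.node (.leaf .df) (.leaf .df)) (.node (.leaf (.cyc (nat_lit 12) [(nat_lit 520), (nat_lit 1005), (nat_lit 887)])) (.leaf .df))))))))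
noncomputable def kTP0001 : BT Pf := (.node (.node (.node (.node (.node (.node (.node (.leaf .df) (.leaf (.cyc (nat_lit 13) [(nat_lit 908), (nat_lit 1020), (nat_lit 827)]))) (.node (.leaf .df) (.leaf .df))) (.node (.node (.leaf .df) (.leaf .df)) (.node (.leaf (.cyc (nat_lit 7) [(nat_lit 257), (nat_lit 141), (nat_lit 259)])) (.leaf .df)))) (.node (.node (.node (.leaf .df) (.leaf (.cyc (nat_lit 13) [(nat_lit 1129), (nat_lit 160), (nat_lit 1111), (nat_lit 623)]))) (.node (.leaf (.cyc (nat_lit 27) [(nat_lit 595), (nat_lit 588), (nat_lit 9), (nat_lit 10), (nat_lit 11)])) (.leaf .df))) (.node (.node (.leaf .df) (.leaf .df)) (.node (.leaf (.cyc (nat_lit 23) [(nat_lit 359), (nat_lit 358), (nat_lit 901), (nat_lit 900), (nat_lit 452)])) (.leaf .df))))) (.node (.node (.node (.node (.leaf .df) (.leaf (.cyc (nat_lit 15) [(nat_lit 926), (nat_lit 1090), (nat_lit 660)]))) (.node (.leaf (.pin (nat_lit 25) [(nat_lit 573), (nat_lit 15), (nat_lit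 18), (nat_lit 19), (nat_lit 34), (nat_lit 35)] [(nat_lit 565)])) (.leaf .df))) (.node (.node (.leaf .df) (.leaf .df)) (.node (.leaf (.cyc (nat_lit 23) [(nat_lit 249), (nat_lit 133), (nat_lit 132), (nat_lit 244), (nat_lit 364)])) (.leaf .df)))) (.node (.node (.node (.leaf .df) (.leaf (.cyc (nat_lit 15) [(nat_lit 104), (nat_lit 1189), (nat_lit 669)]))) (.node (.leaf (.cyc (nat_lit 33) [(nat_lit 148), (nat_lit 582), (nat_lit 6), (nat_lit 586), (nat_lit 155)])) (.leaf .df))) (.node (.node (.leaf .df) (.leaf .df)) (.node (.leaf (.cyc (nat_lit 19) [(nat_lit 433), (nat_lit 313), (nat_lit 312), (nat_lit 431), (nat_lit 531)])) (.leaf .df)))))) (.node (.node (.node (.node (.node (.leaf .df) (.leaf (.cyc (nat_lit 91) [(nat_lit 1059), (nat_lit 1045)]))) (.node (.leaf .df) (.leaf .df))) (.node (.node (.leaf .df) (.leaf .df)) (.node (.leaf (.cyc (nat_lit 48) [(nat_lit 255), (nat_lit 736), (nat_lit 293)])) (.leaf .df)))) (.node (.node (.node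 (.leaf .df) (.leaf (.cyc (nat_lit 13) [(nat_lit 1156), (nat_lit 493), (nat_lit 1140), (nat_lit 670)]))) (.node (.leaf (.cyc (nat_lit 7) [(nat_lit 64), (nat_lit 678), (nat_lit 60)])) (.leaf .df))) (.node (.node (.leaf .df) (.leaf .df)) (.node (.leaf (.cyc (nat_lit 28) [(nat_lit 935), (nat_lit 481), (nat_lit 482)])) (.leaf .df))))) (.node (.node (.node (.node (.leaf .df) (.leaf (.cyc (nat_lit 11) [(nat_lit 159), (nat_lit 1088), (nat_lit 608)]))) (.node (.leaf (.cyc (nat_lit 7) [(nat_lit 81), (nat_lit 611), (nat_lit 112)])) (.leaf .df))) (.node (.node (.leaf .df) (.leaf .df)) (.node (.leaf (.cyc (nat_lit 63) [(nat_lit 407), (nat_lit 807), (nat_lit 290), (nat_lit 289), (nat_lit 859), (nat_lit 860), (nat_lit 800), (nat_lit 189), (nat_lit 78), (nat_lit 79), (nat_lit 192), (nat_lit 744), (nat_lit 184), (nat_lit 185), (nat_lit 809), (nat_lit 298), (nat_lit 296)])) (.leaf .df)))) (.node (.node (.node (.leaf .df) (.leaf (.cyc (nat_lit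 12) [(nat_lit 950), (nat_lit 1241), (nat_lit 641)]))) (.node (.leaf (.cyc (nat_lit 19) [(nat_lit 184), (nat_lit 72), (nat_lit 699), (nat_lit 80), (nat_lit 192)])) (.leaf .df))) (.node (.node (.leaf .df) (.leaf .df)) (.node (.leaf (.cyc (nat_lit 23) [(nat_lit 964), (nat_lit 529), (nat_lit 998), (nat_lit 997), (nat_lit 558)])) (.leaf .df))))))) (.node (.node (.node (.node (.node (.node (.leaf .df) (.leaf (.cyc (nat_lit 14) [(nat_lit 987), (nat_lit 1032), (nat_lit 336)]))) (.node (.leaf .df) (.leaf .df))) (.node (.node (.leaf .df) (.leaf .df)) (.node (.leaf (.cyc (nat_lit 29) [(nat_lit 186), (nat_lit 672), (nat_lit 57), (nat_lit 725), (nat_lit 274)])) (.leaf .df)))) (.node (.node (.node (.leaf .df) (.leaf (.cyc (nat_lit 14) [(nat_lit 152), (nat_lit 1124)]))) (.node (.leaf (.cyc (nat_lit 37) [(nat_lit 76), (nat_lit 75), (nat_lit 53), (nat_lit 20), (nat_lit 29), (nat_lit 661), (nat_lit 39), (nat_lit 586), (nat_lit 5), (nat_lit 3),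 (nat_lit 560), (nat_lit 4), (nat_lit 567), (nat_lit 562), (nat_lit 629), (nat_lit 581), (nat_lit 621), (nat_lit 663), (nat_lit 53), (nat_lit 653), (nat_lit 42), (nat_lit 67), (nat_lit 68)])) (.leaf .df))) (.node (.node (.leaf .df) (.leaf .df)) (.node (.leaf (.cyc (nat_lit 56) [(nat_lit 403), (nat_lit 402), (nat_lit 866), (nat_lit 838), (nat_lit 485)])) (.leaf .df))))) (.node (.node (.node (.node (.leaf .df) (.leaf (.cyc (nat_lit 14) [(nat_lit 1082), (nat_lit 487), (nat_lit 1076), (nat_lit 10)]))) (.node (.leaf (.pin (nat_lit 41) [(nat_lit 15), (nat_lit 23), (nat_lit 36), (nat_lit 82), (nat_lit 83), (nat_lit 84), (nat_lit 85), (nat_lit 86), (nat_lit 87), (nat_lit 88)] [(nat_lit 591), (nat_lit 583), (nat_lit 565)])) (.leaf .df))) (.node (.node (.leaf .df) (.leaf .df)) (.node (.leaf (.cyc (nat_lit 56) [(nat_lit 295), (nat_lit 737), (nat_lit 704), (nat_lit 260), (nat_lit 388)])) (.leaf .df)))) (.node (.node (.node (.leaf .df) (.leaf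 (.cyc (nat_lit 13) [(nat_lit 937), (nat_lit 1220)]))) (.node (.leaf (.cyc (nat_lit 40) [(nat_lit 706), (nat_lit 47), (nat_lit 164)])) (.leaf .df))) (.node (.node (.leaf .df) (.leaf .df)) (.node (.leaf (.cyc (nat_lit 50) [(nat_lit 919), (nat_lit 449), (nat_lit 825), (nat_lit 454), (nat_lit 546)])) (.leaf .df)))))) (.node (.node (.node (.node (.node (.leaf .df) (.leaf (.cyc (nat_lit 14) [(nat_lit 513), (nat_lit 1079), (nat_lit 3)]))) (.node (.leaf (.pin (nat_lit 9) [(nat_lit 3), (nat_lit 5), (nat_lit 6)] [(nat_lit 0)])) (.leaf .df))) (.node (.node (.leaf .df) (.leaf .df)) (.node (.leaf (.cyc (nat_lit 29) [(nat_lit 327), (nat_lit 750), (nat_lit 718), (nat_lit 750), (nat_lit 327)])) (.leaf .df)))) (.node (.node (.node (.leaf .df) (.leaf (.cyc (nat_lit 12) [(nat_lit 1171), (nat_lit 542), (nat_lit 1168), (nat_lit 1200)]))) (.node (.leaf (.cyc (nat_lit 28) [(nat_lit 51), (nat_lit 695), (nat_lit 49)])) (.leaf .df))) (.node (.node (.leaf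 .df) (.leaf .df)) (.node (.leaf (.cyc (nat_lit 57) [(nat_lit 407), (nat_lit 290), (nat_lit 790), (nat_lit 397), (nat_lit 517)])) (.leaf .df))))) (.node (.node (.node (.node (.leaf .df) (.leaf (.cyc (nat_lit 12) [(nat_lit 719), (nat_lit 1100), (nat_lit 570)]))) (.node (.leaf (.cyc (nat_lit 9) [(nat_lit 97), (nat_lit 16), (nat_lit 29), (nat_lit 30), (nat_lit 31)])) (.leaf .df))) (.node (.node (.leaf .df) (.leaf .df)) (.node (.leaf (.cyc (nat_lit 51) [(nat_lit 414), (nat_lit 299), (nat_lit 742), (nat_lit 307), (nat_lit 427)])) (.leaf .df)))) (.node (.node (.node (.leaf .df) (.leaf .df)) (.node (.leaf (.cyc (nat_lit 7) [(nat_lit 732), (nat_lit 110), (nat_lit 225)])) (.leaf .df))) (.node (.node (.leaf .df) (.leaf .df)) (.node (.leaf (.cyc (nat_lit 14) [(nat_lit 920), (nat_lit 1009), (nat_lit 291)])) (.leaf .df))))))))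
noncomputable def kTP000 : BT Pf := .node kTP0000 kTP0001
noncomputable def kTP0010 : BT Pf := (.node (.node (.node (.node (.node (.node (.node (.leaf .df) (.leaf (.cyc (nat_lit 11) [(nat_lit 433), (nat_lit 1018), (nat_lit 192)]))) (.node (.leaf .df) (.leaf .df))) (.node (.node (.leaf .df) (.leaf .df)) (.node (.leaf (.cyc (nat_lit 55) [(nat_lit 771), (nat_lit 146), (nat_lit 145), (nat_lit 751), (nat_lit 753)])) (.leaf .df)))) (.node (.node (.node (.leaf .df) (.leaf (.cyc (nat_lit 15) [(nat_lit 927), (nat_lit 1108), (nat_lit 578)]))) (.node (.leaf (.cyc (nat_lit 25) [(nat_lit 82), (nat_lit 37), (nat_lit 38), (nat_lit 585), (nat_lit 569), (nat_lit 1), (nat_lit 566), (nat_lit 579), (nat_lit 22), (nat_lit 89), (nat_lit 90)])) (.leaf .df))) (.node (.node (.leaf .df) (.leaf .df)) (.node (.leaf (.cyc (nat_lit 50) [(nat_lit 327), (nat_lit 205), (nat_lit 204), (nat_lit 324), (nat_lit 446)])) (.leaf .df))))) (.node (.node (.node (.node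 (.leaf .df) (.leaf (.cyc (nat_lit 11) [(nat_lit 521), (nat_lit 1061), (nat_lit 810)]))) (.node (.leaf (.pin (nat_lit 21) [(nat_lit 15), (nat_lit 23), (nat_lit 24)] [(nat_lit 567)])) (.leaf .df))) (.node (.node (.leaf .df) (.leaf .df)) (.node (.leaf (.cyc (nat_lit 29) [(nat_lit 240), (nat_lit 126), (nat_lit 125), (nat_lit 238), (nat_lit 357)])) (.leaf .df)))) (.node (.node (.node (.leaf .df) (.leaf (.cyc (nat_lit 14) [(nat_lit 918), (nat_lit 1180), (nat_lit 115), (nat_lit 1203)]))) (.node (.leaf (.cyc (nat_lit 40) [(nat_lit 45), (nat_lit 37), (nat_lit 153)])) (.leaf .df))) (.node (.node (.leaf .df) (.leaf .df)) (.node (.leaf (.cyc (nat_lit 51) [(nat_lit 425), (nat_lit 306), (nat_lit 305), (nat_lit 424), (nat_lit 528)])) (.leaf .df)))))) (.node (.node (.node (.node (.node (.leaf .df) (.leaf (.cyc (nat_lit 11) [(nat_lit 531), (nat_lit 1042), (nat_lit 184)]))) (.node (.leaf .df) (.leaf .df))) (.node (.node (.leaf .df) (.leaf .df))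 (.node (.leaf (.cyc (nat_lit 57) [(nat_lit 750), (nat_lit 158), (nat_lit 650), (nat_lit 174), (nat_lit 288)])) (.leaf .df)))) (.node (.node (.node (.leaf .df) (.leaf (.cyc (nat_lit 15) [(nat_lit 1135), (nat_lit 523), (nat_lit 1187), (nat_lit 581)]))) (.node (.leaf (.cyc (nat_lit 39) [(nat_lit 607), (nat_lit 600), (nat_lit 673), (nat_lit 647), (nat_lit 10), (nat_lit 668), (nat_lit 10), (nat_lit 647), (nat_lit 673), (nat_lit 600), (nat_lit 607)])) (.leaf .df))) (.node (.node (.leaf .df) (.leaf .df)) (.node (.leaf (.cyc (nat_lit 49) [(nat_lit 421), (nat_lit 850), (nat_lit 500)])) (.leaf .df))))) (.node (.node (.node (.node (.leaf .df) (.leaf (.cyc (nat_lit 14) [(nat_lit 148), (nat_lit 1123), (nat_lit 152)]))) (.node (.leaf (.cyc (nat_lit 4) [(nat_lit 603), (nat_lit 594), (nat_lit 6), (nat_lit 568), (nat_lit 0), (nat_lit 563), (nat_lit 0), (nat_lit 568), (nat_lit 6), (nat_lit 594), (nat_lit 603)])) (.leaf .df))) (.node (.node (.leaf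 .df) (.leaf .df)) (.node (.leaf (.cyc (nat_lit 71) [(nat_lit 341), (nat_lit 221), (nat_lit 102), (nat_lit 101), (nat_lit 217), (nat_lit 783), (nat_lit 784), (nat_lit 300), (nat_lit 810), (nat_lit 301), (nat_lit 744), (nat_lit 795), (nat_lit 798), (nat_lit 799), (nat_lit 280), (nat_lit 281), (nat_lit 404)])) (.leaf .df)))) (.node (.node (.node (.leaf .df) (.leaf (.cyc (nat_lit 14) [(nat_lit 547), (nat_lit 1237), (nat_lit 1248), (nat_lit 1249)]))) (.node (.leaf (.cyc (nat_lit 23) [(nat_lit 162), (nat_lit 47), (nat_lit 48), (nat_lit 74), (nat_lit 187)])) (.leaf .df))) (.node (.node (.leaf .df) (.leaf .df)) (.node (.leaf (.cyc (nat_lit 59) [(nat_lit 544), (nat_lit 545), (nat_lit 983), (nat_lit 917), (nat_lit 895), (nat_lit 835), (nat_lit 834), (nat_lit 348), (nat_lit 347), (nat_lit 472), (nat_lit 556)])) (.leaf .df))))))) (.node (.node (.node (.node (.node (.node (.leaf .df) (.leaf (.cyc (nat_lit 12) [(nat_lit 496), (nat_lit 1030),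 (nat_lit 653)]))) (.node (.leaf .df) (.leaf .df))) (.node (.node (.leaf .df) (.leaf .df)) (.node (.leaf (.cyc (nat_lit 48) [(nat_lit 771), (nat_lit 714), (nat_lit 269)])) (.leaf .df)))) (.node (.node (.node (.leaf .df) (.leaf (.cyc (nat_lit 91) [(nat_lit 1155), (nat_lit 1120)]))) (.node (.leaf (.cyc (nat_lit 33) [(nat_lit 75), (nat_lit 654), (nat_lit 645), (nat_lit 659), (nat_lit 67)])) (.leaf .df))) (.node (.node (.leaf .df) (.leaf .df)) (.node (.leaf (.cyc (nat_lit 60) [(nat_lit 392), (nat_lit 785), (nat_lit 769), (nat_lit 355), (nat_lit 479)])) (.leaf .df))))) (.node (.node (.node (.node (.leaf .df) (.leaf (.cyc (nat_lit 14) [(nat_lit 916), (nat_lit 1073), (nat_lit 562)]))) (.node (.leaf (.pin (nat_lit 37) [(nat_lit 571), (nat_lit 15), (nat_lit 23), (nat_lit 36), (nat_lit 45), (nat_lit 46), (nat_lit 47), (nat_lit 48), (nat_lit 65), (nat_lit 66)] [(nat_lit 13), (nat_lit 570), (nat_lit 0)])) (.leaf .df))) (.node (.node (.leaf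 .df) (.leaf .df)) (.node (.leaf (.cyc (nat_lit 60) [(nat_lit 380), (nat_lit 253), (nat_lit 615), (nat_lit 253), (nat_lit 380)])) (.leaf .df)))) (.node (.node (.node (.leaf .df) (.leaf (.cyc (nat_lit 13) [(nat_lit 1234), (nat_lit 809), (nat_lit 1213), (nat_lit 1230)]))) (.node (.leaf (.cyc (nat_lit 46) [(nat_lit 84), (nat_lit 83), (nat_lit 82), (nat_lit 45), (nat_lit 161)])) (.leaf .df))) (.node (.node (.leaf .df) (.leaf .df)) (.node (.leaf (.cyc (nat_lit 17) [(nat_lit 451), (nat_lit 326), (nat_lit 325), (nat_lit 450), (nat_lit 543)])) (.leaf .df)))))) (.node (.node (.node (.node (.node (.leaf .df) (.leaf (.cyc (nat_lit 13) [(nat_lit 922), (nat_lit 1052), (nat_lit 670)]))) (.node (.leaf (.pin (nat_lit 5) [] [])) (.leaf .df))) (.node (.node (.leaf .df) (.leaf .df)) (.node (.leaf (.cyc (nat_lit 33) [(nat_lit 317), (nat_lit 198), (nat_lit 85), (nat_lit 200), (nat_lit 319)])) (.leaf .df)))) (.node (.node (.node (.leaf .df) (.leaf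 (.cyc (nat_lit 12) [(nat_lit 760), (nat_lit 1153), (nat_lit 591), (nat_lit 1174)]))) (.node (.leaf (.cyc (nat_lit 46) [(nat_lit 600), (nat_lit 686), (nat_lit 670), (nat_lit 11), (nat_lit 691)])) (.leaf .df))) (.node (.node (.leaf .df) (.leaf .df)) (.node (.leaf (.cyc (nat_lit 19) [(nat_lit 498), (nat_lit 375), (nat_lit 374), (nat_lit 497), (nat_lit 946)])) (.leaf .df))))) (.node (.node (.node (.node (.leaf .df) (.leaf (.cyc (nat_lit 14) [(nat_lit 492), (nat_lit 1139), (nat_lit 10)]))) (.node (.leaf (.cyc (nat_lit 17) [(nat_lit 48), (nat_lit 589), (nat_lit 13), (nat_lit 581), (nat_lit 623)])) (.leaf .df))) (.node (.node (.leaf .df) (.leaf .df)) (.node (.leaf (.cyc (nat_lit 60) [(nat_lit 399), (nat_lit 273), (nat_lit 740), (nat_lit 303), (nat_lit 421)])) (.leaf .df)))) (.node (.node (.node (.leaf .df) (.leaf (.cyc (nat_lit 13) [(nat_lit 1267), (nat_lit 888), (nat_lit 1266), (nat_lit 567)]))) (.node (.leaf (.cyc (nat_lit 50) [(nat_lit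 213), (nat_lit 98), (nat_lit 99), (nat_lit 100), (nat_lit 217)])) (.leaf .df))) (.node (.node (.leaf .df) (.leaf .df)) (.node (.leaf (.cyc (nat_lit 14) [(nat_lit 929), (nat_lit 1006), (nat_lit 175)])) (.leaf .df))))))))
noncomputable def kTP0011 : BT Pf := (.node (.node (.node (.node (.node (.node (.node (.leaf .df) (.leaf (.cyc (nat_lit 13) [(nat_lit 847), (nat_lit 1023), (nat_lit 187)]))) (.node (.leaf .df) (.leaf .df))) (.node (.node (.leaf .df) (.leaf .df)) (.node (.leaf (.cyc (nat_lit 17) [(nat_lit 162), (nat_lit 163), (nat_lit 727), (nat_lit 702), (nat_lit 263)])) (.leaf .df)))) (.node (.node (.node (.leaf .df) (.leaf (.cyc (nat_lit 12) [(nat_lit 147), (nat_lit 1162), (nat_lit 647), (nat_lit 1151)]))) (.node (.leaf (.cyc (nat_lit 18) [(nat_lit 112), (nat_lit 651), (nat_lit 104)])) (.leaf .df))) (.node (.node (.leaf .df) (.leaf .df)) (.node (.leaf (.cyc (nat_lit 57) [(nat_lit 419), (nat_lit 302), (nat_lit 792), (nat_lit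 827), (nat_lit 461)])) (.leaf .df))))) (.node (.node (.node (.node (.leaf .df) (.leaf (.cyc (nat_lit 15) [(nat_lit 1097), (nat_lit 245), (nat_lit 1068), (nat_lit 644)]))) (.node (.leaf (.pin (nat_lit 29) [(nat_lit 14), (nat_lit 29), (nat_lit 41), (nat_lit 42), (nat_lit 43), (nat_lit 44)] [(nat_lit 567)])) (.leaf .df))) (.node (.node (.leaf .df) (.leaf .df)) (.node (.leaf (.cyc (nat_lit 60) [(nat_lit 252), (nat_lit 134), (nat_lit 133), (nat_lit 247), (nat_lit 370)])) (.leaf .df)))) (.node (.node (.node (.leaf .df) (.leaf (.cyc (nat_lit 13) [(nat_lit 177), (nat_lit 1201), (nat_lit 1195)]))) (.node (.leaf (.cyc (nat_lit 50) [(nat_lit 67), (nat_lit 41), (nat_lit 661), (nat_lit 40), (nat_lit 157)])) (.leaf .df))) (.node (.node (.leaf .df) (.leaf .df)) (.node (.leaf (.cyc (nat_lit 51) [(nat_lit 971), (nat_lit 533), (nat_lit 435), (nat_lit 436), (nat_lit 534)])) (.leaf .df)))))) (.node (.node (.node (.node (.node (.leaf .df) (.leaf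 (.cyc (nat_lit 13) [(nat_lit 366), (nat_lit 1046), (nat_lit 82)]))) (.node (.leaf .df) (.leaf .df))) (.node (.node (.leaf .df) (.leaf .df)) (.node (.leaf (.cyc (nat_lit 50) [(nat_lit 758), (nat_lit 188), (nat_lit 77), (nat_lit 189), (nat_lit 305)])) (.leaf .df)))) (.node (.node (.node (.leaf .df) (.leaf (.cyc (nat_lit 13) [(nat_lit 995), (nat_lit 1146), (nat_lit 537)]))) (.node (.leaf (.cyc (nat_lit 41) [(nat_lit 7), (nat_lit 566), (nat_lit 1), (nat_lit 569), (nat_lit 679)])) (.leaf .df))) (.node (.node (.leaf .df) (.leaf .df)) (.node (.leaf (.cyc (nat_lit 23) [(nat_lit 390), (nat_lit 264), (nat_lit 777), (nat_lit 389), (nat_lit 510)])) (.leaf .df))))) (.node (.node (.node (.node (.leaf .df) (.leaf (.cyc (nat_lit 91) [(nat_lit 1116), (nat_lit 1092)]))) (.node (.leaf (.cyc (nat_lit 10) [(nat_lit 581), (nat_lit 570), (nat_lit 0), (nat_lit 563), (nat_lit 572), (nat_lit 563), (nat_lit 0), (nat_lit 570), (nat_lit 581), (nat_lit 25),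 (nat_lit 17), (nat_lit 619)])) (.leaf .df))) (.node (.node (.leaf .df) (.leaf .df)) (.node (.leaf (.cyc (nat_lit 56) [(nat_lit 311), (nat_lit 310), (nat_lit 875), (nat_lit 408), (nat_lit 409)])) (.leaf .df)))) (.node (.node (.node (.leaf .df) (.leaf (.cyc (nat_lit 15) [(nat_lit 1252), (nat_lit 986), (nat_lit 1259), (nat_lit 582)]))) (.node (.leaf (.cyc (nat_lit 33) [(nat_lit 143), (nat_lit 144), (nat_lit 607), (nat_lit 88), (nat_lit 203)])) (.leaf .df))) (.node (.node (.leaf .df) (.leaf .df)) (.node (.leaf (.cyc (nat_lit 11) [(nat_lit 954), (nat_lit 1003), (nat_lit 407)])) (.leaf .df))))))) (.node (.node (.node (.node (.node (.node (.leaf .df) (.leaf (.cyc (nat_lit 12) [(nat_lit 380), (nat_lit 1035), (nat_lit 681)]))) (.node (.leaf .df) (.leaf .df))) (.node (.node (.leaf .df) (.leaf .df)) (.node (.leaf (.cyc (nat_lit 63) [(nat_lit 278), (nat_lit 779), (nat_lit 263), (nat_lit 147), (nat_lit 608), (nat_lit 121), (nat_lit 18), (nat_lit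 23), (nat_lit 657), (nat_lit 23), (nat_lit 18), (nat_lit 121), (nat_lit 608), (nat_lit 147), (nat_lit 263), (nat_lit 779), (nat_lit 278)])) (.leaf .df)))) (.node (.node (.node (.leaf .df) (.leaf (.cyc (nat_lit 12) [(nat_lit 389), (nat_lit 1126), (nat_lit 641)]))) (.node (.leaf (.cyc (nat_lit 13) [(nat_lit 665), (nat_lit 642), (nat_lit 665)])) (.leaf .df))) (.node (.node (.leaf .df) (.leaf .df)) (.node (.leaf (.cyc (nat_lit 48) [(nat_lit 449), (nat_lit 842), (nat_lit 490)])) (.leaf .df))))) (.node (.node (.node (.node (.leaf .df) (.leaf (.cyc (nat_lit 13) [(nat_lit 1092), (nat_lit 944), (nat_lit 1080), (nat_lit 566)]))) (.node (.leaf (.pin (nat_lit 45) [(nat_lit 15), (nat_lit 23), (nat_lit 113), (nat_lit 114), (nat_lit 115), (nat_lit 116), (nat_lit 117), (nat_lit 118), (nat_lit 119), (nat_lit 120)] [(nat_lit 594), (nat_lit 5), (nat_lit 566)])) (.leaf .df))) (.node (.node (.leaf .df) (.leaf .df)) (.node (.leaf (.cyc (nat_lit 60)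 [(nat_lit 282), (nat_lit 169), (nat_lit 720), (nat_lit 270), (nat_lit 396)])) (.leaf .df)))) (.node (.node (.node (.leaf .df) (.leaf (.cyc (nat_lit 13) [(nat_lit 381), (nat_lit 1226), (nat_lit 1240)]))) (.node (.leaf (.cyc (nat_lit 33) [(nat_lit 111), (nat_lit 112), (nat_lit 603), (nat_lit 62), (nat_lit 173)])) (.leaf .df))) (.node (.node (.leaf .df) (.leaf .df)) (.node (.leaf (.cyc (nat_lit 86) [(nat_lit 942), (nat_lit 511), (nat_lit 390), (nat_lit 782), (nat_lit 191), (nat_lit 617), (nat_lit 224), (nat_lit 830), (nat_lit 344), (nat_lit 801), (nat_lit 826), (nat_lit 333), (nat_lit 334), (nat_lit 458), (nat_lit 907), (nat_lit 459), (nat_lit 549)])) (.leaf .df)))))) (.node (.node (.node (.node (.node (.leaf .df) (.leaf (.cyc (nat_lit 12) [(nat_lit 984), (nat_lit 1058), (nat_lit 211)]))) (.node (.leaf (.pin (nat_lit 13) [] [])) (.leaf .df))) (.node (.node (.leaf .df) (.leaf .df)) (.node (.leaf (.cyc (nat_lit 46) [(nat_lit 221),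 (nat_lit 102), (nat_lit 101), (nat_lit 216), (nat_lit 337)])) (.leaf .df)))) (.node (.node (.node (.leaf .df) (.leaf (.cyc (nat_lit 15) [(nat_lit 182), (nat_lit 1205), (nat_lit 1185)]))) (.node (.leaf (.cyc (nat_lit 48) [(nat_lit 89), (nat_lit 26), (nat_lit 145)])) (.leaf .df))) (.node (.node (.leaf .df) (.leaf .df)) (.node (.leaf (.cyc (nat_lit 40) [(nat_lit 518), (nat_lit 881), (nat_lit 521)])) (.leaf .df))))) (.node (.node (.node (.node (.leaf .df) (.leaf (.cyc (nat_lit 13) [(nat_lit 993), (nat_lit 1102), (nat_lit 551)]))) (.node (.leaf (.cyc (nat_lit 13) [(nat_lit 19), (nat_lit 634)])) (.leaf .df))) (.node (.node (.leaf .df) (.leaf .df)) (.node (.leaf (.cyc (nat_lit 40) [(nat_lit 320), (nat_lit 818), (nat_lit 438)])) (.leaf .df)))) (.node (.node (.node (.leaf .df) (.leaf .df)) (.node (.leaf (.cyc (nat_lit 61) [(nat_lit 763), (nat_lit 119), (nat_lit 697), (nat_lit 127), (nat_lit 126)])) (.leaf .df))) (.node (.node (.leaf .df)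 (.leaf .df)) (.node (.leaf (.cyc (nat_lit 15) [(nat_lit 524), (nat_lit 1011), (nat_lit 793)])) (.leaf .df))))))))
noncomputable def kTP001 : BT Pf := .node kTP0010 kTP0011
noncomputable def kTP00 : BT Pf := .node kTP000 kTP001
noncomputable def kTP0100 : BT Pf := (.node (.node (.node (.node (.node (.node (.node (.leaf .df) (.leaf (.cyc (nat_lit 15) [(nat_lit 485), (nat_lit 1016), (nat_lit 734)]))) (.node (.leaf .df) (.leaf .df))) (.node (.node (.leaf .df) (.leaf .df)) (.node (.leaf (.cyc (nat_lit 62) [(nat_lit 200), (nat_lit 698), (nat_lit 118), (nat_lit 763), (nat_lit 764), (nat_lit 125), (nat_lit 124), (nat_lit 236), (nat_lit 769), (nat_lit 151), (nat_lit 33), (nat_lit 690), (nat_lit 594), (nat_lit 649), (nat_lit 684), (nat_lit 588), (nat_lit 567), (nat_lit 564), (nat_lit 559), (nat_lit 567), (nat_lit 658), (nat_lit 657), (nat_lit 23), (nat_lit 18), (nat_lit 636), (nat_lit 121), (nat_lit 122), (nat_lit 705), (nat_lit 769)]))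 (.leaf .df)))) (.node (.node (.node (.leaf .df) (.leaf (.cyc (nat_lit 11) [(nat_lit 68), (nat_lit 1106), (nat_lit 638)]))) (.node (.leaf (.cyc (nat_lit 24) [(nat_lit 35), (nat_lit 640), (nat_lit 609), (nat_lit 640), (nat_lit 35)])) (.leaf .df))) (.node (.node (.leaf .df) (.leaf .df)) (.node (.leaf (.cyc (nat_lit 54) [(nat_lit 870), (nat_lit 871), (nat_lit 443)])) (.leaf .df))))) (.node (.node (.node (.node (.leaf .df) (.leaf (.cyc (nat_lit 91) [(nat_lit 1086), (nat_lit 1066)]))) (.node (.leaf (.pin (nat_lit 19) [(nat_lit 573), (nat_lit 14), (nat_lit 20)] [(nat_lit 1)])) (.leaf .df))) (.node (.node (.leaf .df) (.leaf .df)) (.node (.leaf (.cyc (nat_lit 66) [(nat_lit 832), (nat_lit 350), (nat_lit 227), (nat_lit 112), (nat_lit 612), (nat_lit 603), (nat_lit 604), (nat_lit 120), (nat_lit 119), (nat_lit 233), (nat_lit 353)])) (.leaf .df)))) (.node (.node (.node (.leaf .df) (.leaf (.cyc (nat_lit 13) [(nat_lit 308), (nat_lit 1217), (nat_lit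 13)]))) (.node (.leaf (.cyc (nat_lit 29) [(nat_lit 46), (nat_lit 45), (nat_lit 36), (nat_lit 638), (nat_lit 152)])) (.leaf .df))) (.node (.node (.leaf .df) (.leaf .df)) (.node (.leaf (.cyc (nat_lit 41) [(nat_lit 474), (nat_lit 832), (nat_lit 910), (nat_lit 909), (nat_lit 526)])) (.leaf .df)))))) (.node (.node (.node (.node (.node (.leaf .df) (.leaf (.cyc (nat_lit 13) [(nat_lit 985), (nat_lit 1040), (nat_lit 774)]))) (.node (.leaf .df) (.leaf .df))) (.node (.node (.leaf .df) (.leaf .df)) (.node (.leaf (.cyc (nat_lit 49) [(nat_lit 220), (nat_lit 731), (nat_lit 284)])) (.leaf .df)))) (.node (.node (.node (.leaf .df) (.leaf (.cyc (nat_lit 12) [(nat_lit 37), (nat_lit 1131), (nat_lit 594)]))) (.node (.leaf (.cyc (nat_lit 38) [(nat_lit 607), (nat_lit 600), (nat_lit 673), (nat_lit 631), (nat_lit 602)])) (.leaf .df))) (.node (.node (.leaf .df) (.leaf .df)) (.node (.leaf (.cyc (nat_lit 79) [(nat_lit 929), (nat_lit 883), (nat_lit 409),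 (nat_lit 290), (nat_lit 175), (nat_lit 63), (nat_lit 43), (nat_lit 42), (nat_lit 659), (nat_lit 90), (nat_lit 129), (nat_lit 130), (nat_lit 131), (nat_lit 132), (nat_lit 248), (nat_lit 373), (nat_lit 495)])) (.leaf .df))))) (.node (.node (.node (.node (.leaf .df) (.leaf (.cyc (nat_lit 15) [(nat_lit 704), (nat_lit 1085), (nat_lit 33)]))) (.node (.leaf (.cyc (nat_lit 2) [(nat_lit 113), (nat_lit 23), (nat_lit 18)])) (.leaf .df))) (.node (.node (.leaf .df) (.leaf .df)) (.node (.leaf (.cyc (nat_lit 66) [(nat_lit 359), (nat_lit 240), (nat_lit 127), (nat_lit 128), (nat_lit 605), (nat_lit 648), (nat_lit 691), (nat_lit 50), (nat_lit 167), (nat_lit 279), (nat_lit 865)])) (.leaf .df)))) (.node (.node (.node (.leaf .df) (.leaf (.cyc (nat_lit 14) [(nat_lit 414), (nat_lit 1235), (nat_lit 1176)]))) (.node (.leaf (.cyc (nat_lit 40) [(nat_lit 180), (nat_lit 70), (nat_lit 183)])) (.leaf .df))) (.node (.node (.leaf .df) (.leaf .df)) (.node (.leaf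 (.cyc (nat_lit 19) [(nat_lit 473), (nat_lit 348), (nat_lit 347), (nat_lit 472), (nat_lit 555)])) (.leaf .df))))))) (.node (.node (.node (.node (.node (.node (.leaf .df) (.leaf (.cyc (nat_lit 14) [(nat_lit 968), (nat_lit 1028), (nat_lit 744)]))) (.node (.leaf .df) (.leaf .df))) (.node (.node (.leaf .df) (.leaf .df)) (.node (.leaf (.cyc (nat_lit 48) [(nat_lit 265), (nat_lit 711), (nat_lit 268)])) (.leaf .df)))) (.node (.node (.node (.leaf .df) (.leaf (.cyc (nat_lit 11) [(nat_lit 924), (nat_lit 1119), (nat_lit 209)]))) (.node (.leaf (.cyc (nat_lit 15) [(nat_lit 580), (nat_lit 656)])) (.leaf .df))) (.node (.node (.leaf .df) (.leaf .df)) (.node (.leaf (.cyc (nat_lit 49) [(nat_lit 474), (nat_lit 834), (nat_lit 477)])) (.leaf .df))))) (.node (.node (.node (.node (.leaf .df) (.leaf (.cyc (nat_lit 15) [(nat_lit 1086), (nat_lit 712), (nat_lit 1071), (nat_lit 669)]))) (.node (.leaf (.pin (nat_lit 35) [(nat_lit 573), (nat_lit 571), (nat_lit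 15), (nat_lit 21), (nat_lit 22), (nat_lit 39), (nat_lit 61), (nat_lit 62)] [(nat_lit 5), (nat_lit 566)])) (.leaf .df))) (.node (.node (.leaf .df) (.leaf .df)) (.node (.leaf (.cyc (nat_lit 17) [(nat_lit 847), (nat_lit 376), (nat_lit 249), (nat_lit 250), (nat_lit 378)])) (.leaf .df)))) (.node (.node (.node (.leaf .df) (.leaf (.cyc (nat_lit 12) [(nat_lit 298), (nat_lit 1211), (nat_lit 625)]))) (.node (.leaf (.cyc (nat_lit 53) [(nat_lit 137), (nat_lit 67), (nat_lit 42), (nat_lit 43), (nat_lit 160)])) (.leaf .df))) (.node (.node (.leaf .df) (.leaf .df)) (.node (.leaf (.cyc (nat_lit 57) [(nat_lit 488), (nat_lit 364), (nat_lit 822), (nat_lit 447), (nat_lit 541)])) (.leaf .df)))))) (.node (.node (.node (.node (.node (.leaf .df) (.leaf (.cyc (nat_lit 12) [(nat_lit 923), (nat_lit 1050), (nat_lit 647)]))) (.node (.leaf (.pin (nat_lit 3) [(nat_lit 1)] [])) (.leaf .df))) (.node (.node (.leaf .df) (.leaf .df)) (.node (.leaf (.cyc (nat_lit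 50) [(nat_lit 202), (nat_lit 86), (nat_lit 85), (nat_lit 197), (nat_lit 316)])) (.leaf .df)))) (.node (.node (.node (.leaf .df) (.leaf (.cyc (nat_lit 91) [(nat_lit 1192), (nat_lit 1152)]))) (.node (.leaf (.cyc (nat_lit 44) [(nat_lit 594), (nat_lit 604), (nat_lit 687), (nat_lit 600), (nat_lit 591)])) (.leaf .df))) (.node (.node (.leaf .df) (.leaf .df)) (.node (.leaf (.cyc (nat_lit 82) [(nat_lit 514), (nat_lit 391), (nat_lit 265), (nat_lit 711), (nat_lit 155), (nat_lit 39), (nat_lit 40), (nat_lit 158), (nat_lit 719), (nat_lit 91), (nat_lit 204), (nat_lit 749), (nat_lit 244), (nat_lit 364), (nat_lit 840), (nat_lit 374), (nat_lit 497)])) (.leaf .df))))) (.node (.node (.node (.node (.leaf .df) (.leaf (.cyc (nat_lit 13) [(nat_lit 367), (nat_lit 1095), (nat_lit 690)]))) (.node (.leaf (.cyc (nat_lit 15) [(nat_lit 576), (nat_lit 622)])) (.leaf .df))) (.node (.node (.leaf .df) (.leaf .df)) (.node (.leaf (.cyc (nat_lit 48) [(nat_lit 416),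 (nat_lit 810), (nat_lit 418)])) (.leaf .df)))) (.node (.node (.node (.leaf .df) (.leaf (.cyc (nat_lit 91) [(nat_lit 1263), (nat_lit 1250)]))) (.node (.leaf (.cyc (nat_lit 29) [(nat_lit 148), (nat_lit 695), (nat_lit 32), (nat_lit 632), (nat_lit 213)])) (.leaf .df))) (.node (.node (.leaf .df) (.leaf .df)) (.node (.leaf (.cyc (nat_lit 15) [(nat_lit 875), (nat_lit 1005), (nat_lit 311)])) (.leaf .df))))))))
noncomputable def kTP0101 : BT Pf := (.node (.node (.node (.node (.node (.node (.node (.leaf .df) (.leaf (.cyc (nat_lit 14) [(nat_lit 375), (nat_lit 1022), (nat_lit 648)]))) (.node (.leaf .df) (.leaf .df))) (.node (.node (.leaf .df) (.leaf .df)) (.node (.leaf (.cyc (nat_lit 29) [(nat_lit 165), (nat_lit 164), (nat_lit 768), (nat_lit 767), (nat_lit 262)])) (.leaf .df)))) (.node (.node (.node (.leaf .df) (.leaf (.cyc (nat_lit 91) [(nat_lit 1161), (nat_lit 1114)]))) (.node (.leaf (.cyc (nat_lit 18) [(nat_lit 587), (nat_lit 649), (nat_lit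 62)])) (.leaf .df))) (.node (.node (.leaf .df) (.leaf .df)) (.node (.leaf (.cyc (nat_lit 58) [(nat_lit 453), (nat_lit 452), (nat_lit 905), (nat_lit 455), (nat_lit 456)])) (.leaf .df))))) (.node (.node (.node (.node (.leaf .df) (.leaf (.cyc (nat_lit 11) [(nat_lit 823), (nat_lit 1068), (nat_lit 83)]))) (.node (.leaf (.pin (nat_lit 27) [(nat_lit 571), (nat_lit 15), (nat_lit 21), (nat_lit 22), (nat_lit 39)] [(nat_lit 5), (nat_lit 566)])) (.leaf .df))) (.node (.node (.leaf .df) (.leaf .df)) (.node (.leaf (.cyc (nat_lit 46) [(nat_lit 325), (nat_lit 749), (nat_lit 132), (nat_lit 246), (nat_lit 367)])) (.leaf .df)))) (.node (.node (.node (.leaf .df) (.leaf (.cyc (nat_lit 11) [(nat_lit 817), (nat_lit 1193), (nat_lit 621)]))) (.node (.leaf (.cyc (nat_lit 46) [(nat_lit 146), (nat_lit 26), (nat_lit 22), (nat_lit 39), (nat_lit 156)])) (.leaf .df))) (.node (.node (.leaf .df) (.leaf .df)) (.node (.leaf (.cyc (nat_lit 46) [(nat_lit 944), (nat_lit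 521), (nat_lit 969), (nat_lit 531), (nat_lit 532)])) (.leaf .df)))))) (.node (.node (.node (.node (.node (.leaf .df) (.leaf (.cyc (nat_lit 14) [(nat_lit 372), (nat_lit 1064), (nat_lit 148)]))) (.node (.leaf .df) (.leaf .df))) (.node (.node (.leaf .df) (.leaf .df)) (.node (.leaf (.cyc (nat_lit 46) [(nat_lit 300), (nat_lit 183), (nat_lit 71), (nat_lit 184), (nat_lit 301)])) (.leaf .df)))) (.node (.node (.node (.leaf .df) (.leaf (.cyc (nat_lit 13) [(nat_lit 158), (nat_lit 1144), (nat_lit 13)]))) (.node (.leaf (.cyc (nat_lit 7) [(nat_lit 96), (nat_lit 681), (nat_lit 128)])) (.leaf .df))) (.node (.node (.leaf .df) (.leaf .df)) (.node (.leaf (.cyc (nat_lit 49) [(nat_lit 445), (nat_lit 855), (nat_lit 509)])) (.leaf .df))))) (.node (.node (.node (.node (.leaf .df) (.leaf (.cyc (nat_lit 15) [(nat_lit 655), (nat_lit 1088), (nat_lit 627)]))) (.node (.leaf (.cyc (nat_lit 9) [(nat_lit 106), (nat_lit 105), (nat_lit 53), (nat_lit 54), (nat_lit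 55)])) (.leaf .df))) (.node (.node (.leaf .df) (.leaf .df)) (.node (.leaf (.cyc (nat_lit 51) [(nat_lit 291), (nat_lit 176), (nat_lit 175), (nat_lit 290), (nat_lit 408)])) (.leaf .df)))) (.node (.node (.node (.leaf .df) (.leaf (.cyc (nat_lit 91) [(nat_lit 1255), (nat_lit 1253)]))) (.node (.leaf (.cyc (nat_lit 48) [(nat_lit 723), (nat_lit 83), (nat_lit 196)])) (.leaf .df))) (.node (.node (.leaf .df) (.leaf .df)) (.node (.leaf (.cyc (nat_lit 89) [(nat_lit 505), (nat_lit 506), (nat_lit 939), (nat_lit 938), (nat_lit 972), (nat_lit 973), (nat_lit 540), (nat_lit 1001), (nat_lit 999), (nat_lit 1000), (nat_lit 964), (nat_lit 886), (nat_lit 964), (nat_lit 1000), (nat_lit 999), (nat_lit 1001), (nat_lit 540), (nat_lit 973), (nat_lit 972), (nat_lit 938), (nat_lit 939), (nat_lit 506), (nat_lit 505)])) (.leaf .df))))))) (.node (.node (.node (.node (.node (.node (.leaf .df) (.leaf (.cyc (nat_lit 11) [(nat_lit 374), (nat_lit 1034), (nat_lit 11)])))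 (.node (.leaf .df) (.leaf .df))) (.node (.node (.leaf .df) (.leaf .df)) (.node (.leaf (.cyc (nat_lit 46) [(nat_lit 177), (nat_lit 65), (nat_lit 48), (nat_lit 164), (nat_lit 275)])) (.leaf .df)))) (.node (.node (.node (.leaf .df) (.leaf (.cyc (nat_lit 13) [(nat_lit 390), (nat_lit 1125), (nat_lit 636)]))) (.node (.leaf (.cyc (nat_lit 14) [(nat_lit 592), (nat_lit 665), (nat_lit 10)])) (.leaf .df))) (.node (.node (.leaf .df) (.leaf .df)) (.node (.leaf (.cyc (nat_lit 4) [(nat_lit 852), (nat_lit 380), (nat_lit 253), (nat_lit 135), (nat_lit 134), (nat_lit 133), (nat_lit 247), (nat_lit 839), (nat_lit 362), (nat_lit 363), (nat_lit 487)])) (.leaf .df))))) (.node (.node (.node (.node (.leaf .df) (.leaf (.cyc (nat_lit 13) [(nat_lit 263), (nat_lit 1078), (nat_lit 53)]))) (.node (.leaf (.pin (nat_lit 43) [(nat_lit 14), (nat_lit 16), (nat_lit 97), (nat_lit 98), (nat_lit 99), (nat_lit 100), (nat_lit 101), (nat_lit 102), (nat_lit 103), (nat_lit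 104)] [(nat_lit 593), (nat_lit 569), (nat_lit 1)])) (.leaf .df))) (.node (.node (.leaf .df) (.leaf .df)) (.node (.leaf (.cyc (nat_lit 23) [(nat_lit 394), (nat_lit 268), (nat_lit 713), (nat_lit 268), (nat_lit 394)])) (.leaf .df)))) (.node (.node (.node (.leaf .df) (.leaf (.cyc (nat_lit 13) [(nat_lit 222), (nat_lit 1224), (nat_lit 668)]))) (.node (.leaf (.cyc (nat_lit 29) [(nat_lit 77), (nat_lit 76), (nat_lit 75), (nat_lit 54), (nat_lit 169)])) (.leaf .df))) (.node (.node (.leaf .df) (.leaf .df)) (.node (.leaf (.cyc (nat_lit 33) [(nat_lit 457), (nat_lit 330), (nat_lit 329), (nat_lit 456), (nat_lit 547)])) (.leaf .df)))))) (.node (.node (.node (.node (.node (.leaf .df) (.leaf (.cyc (nat_lit 11) [(nat_lit 885), (nat_lit 1056), (nat_lit 76)]))) (.node (.leaf (.pin (nat_lit 11) [(nat_lit 4), (nat_lit 9), (nat_lit 10), (nat_lit 11), (nat_lit 12), (nat_lit 13)] [(nat_lit 561)])) (.leaf .df))) (.node (.node (.leaf .df) (.leaf .df)) (.node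 (.leaf (.cyc (nat_lit 65) [(nat_lit 801), (nat_lit 223), (nat_lit 107), (nat_lit 628), (nat_lit 165), (nat_lit 778), (nat_lit 262), (nat_lit 702), (nat_lit 99), (nat_lit 214), (nat_lit 333)])) (.leaf .df)))) (.node (.node (.node (.leaf .df) (.leaf (.cyc (nat_lit 11) [(nat_lit 778), (nat_lit 1163), (nat_lit 9)]))) (.node (.leaf (.cyc (nat_lit 44) [(nat_lit 86), (nat_lit 87), (nat_lit 689), (nat_lit 119), (nat_lit 118)])) (.leaf .df))) (.node (.node (.leaf .df) (.leaf .df)) (.node (.leaf (.cyc (nat_lit 18) [(nat_lit 409), (nat_lit 407), (nat_lit 519)])) (.leaf .df))))) (.node (.node (.node (.node (.leaf .df) (.leaf (.cyc (nat_lit 11) [(nat_lit 555), (nat_lit 1101), (nat_lit 894)]))) (.node (.leaf (.cyc (nat_lit 22) [(nat_lit 121), (nat_lit 633), (nat_lit 32), (nat_lit 33), (nat_lit 583), (nat_lit 577)])) (.leaf .df))) (.node (.node (.leaf .df) (.leaf .df)) (.node (.leaf (.cyc (nat_lit 18) [(nat_lit 311), (nat_lit 309), (nat_lit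 429)])) (.leaf .df)))) (.node (.node (.node (.leaf .df) (.leaf .df)) (.node (.leaf (.cyc (nat_lit 60) [(nat_lit 229), (nat_lit 115), (nat_lit 641), (nat_lit 115), (nat_lit 229)])) (.leaf .df))) (.node (.node (.leaf .df) (.leaf .df)) (.node (.leaf (.cyc (nat_lit 13) [(nat_lit 816), (nat_lit 1010), (nat_lit 193)])) (.leaf .df))))))))
noncomputable def kTP010 : BT Pf := .node kTP0100 kTP0101
noncomputable def kTP0110 : BT Pf := (.node (.node (.node (.node (.node (.node (.node (.leaf .df) (.leaf (.cyc (nat_lit 11) [(nat_lit 494), (nat_lit 1019), (nat_lit 159)]))) (.node (.leaf .df) (.leaf .df))) (.node (.node (.leaf .df) (.leaf .df)) (.node (.leaf (.cyc (nat_lit 41) [(nat_lit 211), (nat_lit 95), (nat_lit 682), (nat_lit 127), (nat_lit 241)])) (.leaf .df)))) (.node (.node (.node (.leaf .df) (.leaf (.cyc (nat_lit 11) [(nat_lit 541), (nat_lit 1157), (nat_lit 695)]))) (.node (.leaf (.cyc (nat_lit 21) [(nat_lit 91), (nat_lit 644), (nat_lit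 83)])) (.leaf .df))) (.node (.node (.leaf .df) (.leaf .df)) (.node (.leaf (.cyc (nat_lit 18) [(nat_lit 365), (nat_lit 822), (nat_lit 448)])) (.leaf .df))))) (.node (.node (.node (.node (.leaf .df) (.leaf (.cyc (nat_lit 15) [(nat_lit 891), (nat_lit 1062), (nat_lit 104)]))) (.node (.leaf (.pin (nat_lit 23) [(nat_lit 15), (nat_lit 21), (nat_lit 26), (nat_lit 27), (nat_lit 28)] [(nat_lit 568), (nat_lit 0)])) (.leaf .df))) (.node (.node (.leaf .df) (.leaf .df)) (.node (.leaf (.cyc (nat_lit 53) [(nat_lit 359), (nat_lit 240), (nat_lit 127), (nat_lit 242), (nat_lit 361)])) (.leaf .df)))) (.node (.node (.node (.leaf .df) (.leaf (.cyc (nat_lit 12) [(nat_lit 396), (nat_lit 1221), (nat_lit 639)]))) (.node (.leaf (.cyc (nat_lit 51) [(nat_lit 129), (nat_lit 90), (nat_lit 645), (nat_lit 38), (nat_lit 154)])) (.leaf .df))) (.node (.node (.leaf .df) (.leaf .df)) (.node (.leaf (.cyc (nat_lit 23) [(nat_lit 963), (nat_lit 434), (nat_lit 816), (nat_lit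 430), (nat_lit 530)])) (.leaf .df)))))) (.node (.node (.node (.node (.node (.leaf .df) (.leaf (.cyc (nat_lit 12) [(nat_lit 432), (nat_lit 1043), (nat_lit 677)]))) (.node (.leaf .df) (.leaf .df))) (.node (.node (.leaf .df) (.leaf .df)) (.node (.leaf (.cyc (nat_lit 64) [(nat_lit 289), (nat_lit 790), (nat_lit 270), (nat_lit 159), (nat_lit 653), (nat_lit 53), (nat_lit 20), (nat_lit 16), (nat_lit 624), (nat_lit 16), (nat_lit 20), (nat_lit 53), (nat_lit 653), (nat_lit 159), (nat_lit 270), (nat_lit 790), (nat_lit 289)])) (.leaf .df)))) (.node (.node (.node (.leaf .df) (.leaf (.cyc (nat_lit 91) [(nat_lit 1164), (nat_lit 1151)]))) (.node (.leaf (.cyc (nat_lit 3) [(nat_lit 602), (nat_lit 675), (nat_lit 597), (nat_lit 12), (nat_lit 648)])) (.leaf .df))) (.node (.node (.leaf .df) (.leaf .df)) (.node (.leaf (.cyc (nat_lit 40) [(nat_lit 385), (nat_lit 854), (nat_lit 504)])) (.leaf .df))))) (.node (.node (.node (.node (.leaf .df) (.leaf (.cyc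 (nat_lit 13) [(nat_lit 777), (nat_lit 1123), (nat_lit 640)]))) (.node (.leaf (.cyc (nat_lit 6) [(nat_lit 606), (nat_lit 611), (nat_lit 612), (nat_lit 611), (nat_lit 606)])) (.leaf .df))) (.node (.node (.leaf .df) (.leaf .df)) (.node (.leaf (.cyc (nat_lit 72) [(nat_lit 405), (nat_lit 285), (nat_lit 171), (nat_lit 59), (nat_lit 154), (nat_lit 710), (nat_lit 129), (nat_lit 91), (nat_lit 204), (nat_lit 325), (nat_lit 825)])) (.leaf .df)))) (.node (.node (.node (.leaf .df) (.leaf (.cyc (nat_lit 14) [(nat_lit 427), (nat_lit 1238), (nat_lit 1247)]))) (.node (.leaf (.cyc (nat_lit 56) [(nat_lit 182), (nat_lit 69), (nat_lit 664), (nat_lit 77), (nat_lit 190)])) (.leaf .df))) (.node (.node (.leaf .df) (.leaf .df)) (.node (.leaf (.cyc (nat_lit 51) [(nat_lit 965), (nat_lit 530), (nat_lit 967), (nat_lit 962), (nat_lit 557)])) (.leaf .df))))))) (.node (.node (.node (.node (.node (.node (.leaf .df) (.leaf (.cyc (nat_lit 15) [(nat_lit 845), (nat_lit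 1030), (nat_lit 655)]))) (.node (.leaf .df) (.leaf .df))) (.node (.node (.leaf .df) (.leaf .df)) (.node (.leaf (.cyc (nat_lit 29) [(nat_lit 175), (nat_lit 63), (nat_lit 43), (nat_lit 159), (nat_lit 270)])) (.leaf .df)))) (.node (.node (.node (.leaf .df) (.leaf (.cyc (nat_lit 15) [(nat_lit 52), (nat_lit 1121), (nat_lit 662)]))) (.node (.leaf (.cyc (nat_lit 35) [(nat_lit 30), (nat_lit 29), (nat_lit 14), (nat_lit 15), (nat_lit 18), (nat_lit 637), (nat_lit 2), (nat_lit 560), (nat_lit 3), (nat_lit 566), (nat_lit 561), (nat_lit 626), (nat_lit 16), (nat_lit 29), (nat_lit 661), (nat_lit 22), (nat_lit 26)])) (.leaf .df))) (.node (.node (.leaf .df) (.leaf .df)) (.node (.leaf (.cyc (nat_lit 60) [(nat_lit 389), (nat_lit 261), (nat_lit 771), (nat_lit 356), (nat_lit 482)])) (.leaf .df))))) (.node (.node (.node (.node (.leaf .df) (.leaf (.cyc (nat_lit 11) [(nat_lit 822), (nat_lit 1075), (nat_lit 629)]))) (.node (.leaf (.pin (nat_lit 39) [(nat_lit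 573), (nat_lit 15), (nat_lit 23), (nat_lit 36), (nat_lit 45), (nat_lit 46), (nat_lit 47), (nat_lit 48), (nat_lit 74)] [(nat_lit 12), (nat_lit 13), (nat_lit 570), (nat_lit 0)])) (.leaf .df))) (.node (.node (.leaf .df) (.leaf .df)) (.node (.leaf (.cyc (nat_lit 50) [(nat_lit 258), (nat_lit 141), (nat_lit 140), (nat_lit 255), (nat_lit 382)])) (.leaf .df)))) (.node (.node (.node (.leaf .df) (.leaf (.cyc (nat_lit 15) [(nat_lit 814), (nat_lit 1218), (nat_lit 581)]))) (.node (.leaf (.cyc (nat_lit 7) [(nat_lit 628), (nat_lit 47), (nat_lit 163)])) (.leaf .df))) (.node (.node (.leaf .df) (.leaf .df)) (.node (.leaf (.cyc (nat_lit 57) [(nat_lit 489), (nat_lit 366), (nat_lit 823), (nat_lit 451), (nat_lit 544)])) (.leaf .df)))))) (.node (.node (.node (.node (.node (.leaf .df) (.leaf (.cyc (nat_lit 15) [(nat_lit 1063), (nat_lit 932), (nat_lit 1053), (nat_lit 780)]))) (.node (.leaf (.pin (nat_lit 7) [(nat_lit 3)] [])) (.leaf .df))) (.node (.node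 (.leaf .df) (.leaf .df)) (.node (.leaf (.cyc (nat_lit 48) [(nat_lit 244), (nat_lit 749), (nat_lit 324)])) (.leaf .df)))) (.node (.node (.node (.leaf .df) (.leaf (.cyc (nat_lit 13) [(nat_lit 179), (nat_lit 1154), (nat_lit 657)]))) (.node (.leaf (.cyc (nat_lit 47) [(nat_lit 583), (nat_lit 2), (nat_lit 4), (nat_lit 567), (nat_lit 559), (nat_lit 564), (nat_lit 562), (nat_lit 629), (nat_lit 570), (nat_lit 568), (nat_lit 590), (nat_lit 692), (nat_lit 673), (nat_lit 596), (nat_lit 12), (nat_lit 691), (nat_lit 590)])) (.leaf .df))) (.node (.node (.leaf .df) (.leaf .df)) (.node (.leaf (.cyc (nat_lit 80) [(nat_lit 878), (nat_lit 411), (nat_lit 863), (nat_lit 401), (nat_lit 275), (nat_lit 728), (nat_lit 706), (nat_lit 46), (nat_lit 45), (nat_lit 37), (nat_lit 38), (nat_lit 683), (nat_lit 63), (nat_lit 175), (nat_lit 790), (nat_lit 396), (nat_lit 516)])) (.leaf .df))))) (.node (.node (.node (.node (.leaf .df) (.leaf (.cyc (nat_lit 91) [(nat_lit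 1111), (nat_lit 1099)]))) (.node (.leaf (.cyc (nat_lit 19) [(nat_lit 629), (nat_lit 562), (nat_lit 564), (nat_lit 562), (nat_lit 629)])) (.leaf .df))) (.node (.node (.leaf .df) (.leaf .df)) (.node (.leaf (.cyc (nat_lit 73) [(nat_lit 425), (nat_lit 306), (nat_lit 189), (nat_lit 78), (nat_lit 617), (nat_lit 225), (nat_lit 787), (nat_lit 394), (nat_lit 858), (nat_lit 394), (nat_lit 787), (nat_lit 225), (nat_lit 617), (nat_lit 78), (nat_lit 189), (nat_lit 306), (nat_lit 425)])) (.leaf .df)))) (.node (.node (.node (.leaf .df) (.leaf .df)) (.node (.leaf (.cyc (nat_lit 59) [(nat_lit 741), (nat_lit 154), (nat_lit 585), (nat_lit 8), (nat_lit 649), (nat_lit 603), (nat_lit 112), (nat_lit 111), (nat_lit 757), (nat_lit 218), (nat_lit 219)])) (.leaf .df))) (.node (.node (.leaf .df) (.leaf .df)) (.node (.leaf (.cyc (nat_lit 15) [(nat_lit 429), (nat_lit 1007), (nat_lit 413)])) (.leaf .df))))))))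
noncomputable def kTP0111 : BT Pf := (.node (.node (.node (.node (.node (.node (.node (.leaf .df) (.leaf (.cyc (nat_lit 12) [(nat_lit 966), (nat_lit 1025), (nat_lit 189)]))) (.node (.leaf .df) (.leaf .df))) (.node (.node (.leaf .df) (.leaf .df)) (.node (.leaf (.cyc (nat_lit 60) [(nat_lit 743), (nat_lit 166), (nat_lit 49), (nat_lit 148), (nat_lit 264)])) (.leaf .df)))) (.node (.node (.node (.leaf .df) (.leaf (.cyc (nat_lit 13) [(nat_lit 71), (nat_lit 1115), (nat_lit 690)]))) (.node (.leaf (.cyc (nat_lit 31) [(nat_lit 53), (nat_lit 578), (nat_lit 569), (nat_lit 585), (nat_lit 38)])) (.leaf .df))) (.node (.node (.leaf .df) (.leaf .df)) (.node (.leaf (.cyc (nat_lit 70) [(nat_lit 465), (nat_lit 340), (nat_lit 758), (nat_lit 188), (nat_lit 77), (nat_lit 78), (nat_lit 617), (nat_lit 110), (nat_lit 111), (nat_lit 227), (nat_lit 350)])) (.leaf .df))))) (.node (.node (.node (.node (.leaf .df) (.leaf (.cyc (nat_lit 15) [(nat_lit 549), (nat_lit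 1070), (nat_lit 460)]))) (.node (.leaf (.pin (nat_lit 31) [(nat_lit 573), (nat_lit 15), (nat_lit 21), (nat_lit 26), (nat_lit 27), (nat_lit 28), (nat_lit 49), (nat_lit 50)] [(nat_lit 568), (nat_lit 0)])) (.leaf .df))) (.node (.node (.leaf .df) (.leaf .df)) (.node (.leaf (.cyc (nat_lit 51) [(nat_lit 253), (nat_lit 135), (nat_lit 134), (nat_lit 249), (nat_lit 375)])) (.leaf .df)))) (.node (.node (.node (.leaf .df) (.leaf (.cyc (nat_lit 13) [(nat_lit 287), (nat_lit 1204)]))) (.node (.leaf (.cyc (nat_lit 53) [(nat_lit 158), (nat_lit 157), (nat_lit 717), (nat_lit 157), (nat_lit 158)])) (.leaf .df))) (.node (.node (.leaf .df) (.leaf .df)) (.node (.leaf (.cyc (nat_lit 60) [(nat_lit 477), (nat_lit 835), (nat_lit 478), (nat_lit 915), (nat_lit 535)])) (.leaf .df)))))) (.node (.node (.node (.node (.node (.leaf .df) (.leaf (.cyc (nat_lit 11) [(nat_lit 548), (nat_lit 1048), (nat_lit 335)]))) (.node (.leaf .df) (.leaf .df))) (.node (.node (.leaf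 .df) (.leaf .df)) (.node (.leaf (.cyc (nat_lit 17) [(nat_lit 307), (nat_lit 190), (nat_lit 78), (nat_lit 191), (nat_lit 308)])) (.leaf .df)))) (.node (.node (.node (.leaf .df) (.leaf (.cyc (nat_lit 14) [(nat_lit 550), (nat_lit 1197), (nat_lit 14)]))) (.node (.leaf (.cyc (nat_lit 43) [(nat_lit 643), (nat_lit 670), (nat_lit 10), (nat_lit 9), (nat_lit 588), (nat_lit 684), (nat_lit 8), (nat_lit 593), (nat_lit 602), (nat_lit 674), (nat_lit 607)])) (.leaf .df))) (.node (.node (.leaf .df) (.leaf .df)) (.node (.leaf (.cyc (nat_lit 57) [(nat_lit 463), (nat_lit 338), (nat_lit 781), (nat_lit 390), (nat_lit 511)])) (.leaf .df))))) (.node (.node (.node (.node (.leaf .df) (.leaf (.cyc (nat_lit 11) [(nat_lit 1133), (nat_lit 518), (nat_lit 1093), (nat_lit 882)]))) (.node (.leaf (.cyc (nat_lit 12) [(nat_lit 619), (nat_lit 620), (nat_lit 25)])) (.leaf .df))) (.node (.node (.leaf .df) (.leaf .df)) (.node (.leaf (.cyc (nat_lit 29) [(nat_lit 411),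 (nat_lit 863), (nat_lit 864), (nat_lit 863), (nat_lit 411)])) (.leaf .df)))) (.node (.node (.node (.leaf .df) (.leaf (.cyc (nat_lit 91) [(nat_lit 1260), (nat_lit 1245)]))) (.node (.leaf (.cyc (nat_lit 48) [(nat_lit 719), (nat_lit 91), (nat_lit 205)])) (.leaf .df))) (.node (.node (.leaf .df) (.leaf .df)) (.node (.leaf (.cyc (nat_lit 13) [(nat_lit 883), (nat_lit 1004), (nat_lit 290)])) (.leaf .df))))))) (.node (.node (.node (.node (.node (.node (.leaf .df) (.leaf (.cyc (nat_lit 11) [(nat_lit 512), (nat_lit 1037), (nat_lit 786)]))) (.node (.leaf .df) (.leaf .df))) (.node (.node (.leaf .df) (.leaf .df)) (.node (.leaf (.cyc (nat_lit 19) [(nat_lit 276), (nat_lit 166), (nat_lit 696), (nat_lit 168), (nat_lit 280)])) (.leaf .df)))) (.node (.node (.node (.leaf .df) (.leaf (.cyc (nat_lit 12) [(nat_lit 1177), (nat_lit 743), (nat_lit 1181), (nat_lit 12)]))) (.node (.leaf (.cyc (nat_lit 13) [(nat_lit 601), (nat_lit 666)])) (.leaf .df))) (.node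 (.node (.leaf .df) (.leaf .df)) (.node (.leaf (.cyc (nat_lit 33) [(nat_lit 372), (nat_lit 248), (nat_lit 247), (nat_lit 371), (nat_lit 492)])) (.leaf .df))))) (.node (.node (.node (.node (.leaf .df) (.leaf (.cyc (nat_lit 14) [(nat_lit 1110), (nat_lit 446), (nat_lit 1083), (nat_lit 327)]))) (.node (.leaf (.pin (nat_lit 47) [(nat_lit 15), (nat_lit 21), (nat_lit 89), (nat_lit 90), (nat_lit 129), (nat_lit 130), (nat_lit 131), (nat_lit 132), (nat_lit 133), (nat_lit 134), (nat_lit 135), (nat_lit 136)] [(nat_lit 599), (nat_lit 590), (nat_lit 568), (nat_lit 0)])) (.leaf .df))) (.node (.node (.leaf .df) (.leaf .df)) (.node (.leaf (.cyc (nat_lit 70) [(nat_lit 400), (nat_lit 275), (nat_lit 768), (nat_lit 235), (nat_lit 121), (nat_lit 636), (nat_lit 121), (nat_lit 235), (nat_lit 768), (nat_lit 275), (nat_lit 400)])) (.leaf .df)))) (.node (.node (.node (.leaf .df) (.leaf (.cyc (nat_lit 12) [(nat_lit 292), (nat_lit 1228), (nat_lit 625)])))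 (.node (.leaf (.cyc (nat_lit 17) [(nat_lit 127), (nat_lit 128), (nat_lit 605), (nat_lit 64), (nat_lit 176)])) (.leaf .df))) (.node (.node (.leaf .df) (.leaf .df)) (.node (.leaf (.cyc (nat_lit 87) [(nat_lit 989), (nat_lit 463), (nat_lit 464)])) (.leaf .df)))))) (.node (.node (.node (.node (.node (.leaf .df) (.leaf (.cyc (nat_lit 14) [(nat_lit 67), (nat_lit 1059), (nat_lit 148)]))) (.node (.leaf (.pin (nat_lit 15) [] [])) (.leaf .df))) (.node (.node (.leaf .df) (.leaf .df)) (.node (.leaf (.cyc (nat_lit 46) [(nat_lit 224), (nat_lit 109), (nat_lit 108), (nat_lit 223), (nat_lit 344)])) (.leaf .df)))) (.node (.node (.node (.leaf .df) (.leaf (.cyc (nat_lit 15) [(nat_lit 453), (nat_lit 1169), (nat_lit 574)]))) (.node (.leaf (.cyc (nat_lit 49) [(nat_lit 98), (nat_lit 627), (nat_lit 147)])) (.leaf .df))) (.node (.node (.leaf .df) (.leaf .df)) (.node (.leaf (.cyc (nat_lit 18) [(nat_lit 420), (nat_lit 419), (nat_lit 524)])) (.leaf .df)))))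 (.node (.node (.node (.node (.leaf .df) (.leaf (.cyc (nat_lit 11) [(nat_lit 39), (nat_lit 1104), (nat_lit 11)]))) (.node (.leaf (.cyc (nat_lit 11) [(nat_lit 113), (nat_lit 635)])) (.leaf .df))) (.node (.node (.leaf .df) (.leaf .df)) (.node (.leaf (.cyc (nat_lit 18) [(nat_lit 398), (nat_lit 819), (nat_lit 440)])) (.leaf .df)))) (.node (.node (.node (.leaf .df) (.leaf .df)) (.node (.leaf (.cyc (nat_lit 7) [(nat_lit 733), (nat_lit 118), (nat_lit 232)])) (.leaf .df))) (.node (.node (.leaf .df) (.leaf .df)) (.node (.leaf (.cyc (nat_lit 15) [(nat_lit 499), (nat_lit 1012), (nat_lit 64)])) (.leaf .df))))))))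
noncomputable def kTP011 : BT Pf := .node kTP0110 kTP0111
noncomputable def kTP01 : BT Pf := .node kTP010 kTP011
noncomputable def kTP0 : BT Pf := .node kTP00 kTP01
noncomputable def kTP1000 : BT Pf := (.node (.node (.node (.node (.node (.node (.node (.leaf .df) (.leaf (.cyc (nat_lit 13) [(nat_lit 530), (nat_lit 1015), (nat_lit 306)]))) (.node (.leaf .df) (.leaf .df))) (.node (.node (.leaf .df) (.leaf .df)) (.node (.leaf (.cyc (nat_lit 40) [(nat_lit 705), (nat_lit 123), (nat_lit 236)])) (.leaf .df)))) (.node (.node (.node (.leaf .df) (.leaf (.cyc (nat_lit 14) [(nat_lit 787), (nat_lit 1105), (nat_lit 583)]))) (.node (.leaf (.cyc (nat_lit 23) [(nat_lit 640), (nat_lit 639), (nat_lit 636), (nat_lit 639), (nat_lit 640)])) (.leaf .df))) (.node (.node (.leaf .df) (.leaf .df)) (.node (.leaf (.cyc (nat_lit 47) [(nat_lit 395), (nat_lit 788), (nat_lit 771), (nat_lit 146), (nat_lit 145), (nat_lit 700), (nat_lit 645), (nat_lit 153), (nat_lit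 708), (nat_lit 161), (nat_lit 272), (nat_lit 791), (nat_lit 316), (nat_lit 438), (nat_lit 892), (nat_lit 442), (nat_lit 896)])) (.leaf .df))))) (.node (.node (.node (.node (.leaf .df) (.leaf (.cyc (nat_lit 15) [(nat_lit 659), (nat_lit 1059), (nat_lit 582)]))) (.node (.leaf (.pin (nat_lit 18) [(nat_lit 15), (nat_lit 18), (nat_lit 19)] [(nat_lit 565)])) (.leaf .df))) (.node (.node (.leaf .df) (.leaf .df)) (.node (.leaf (.cyc (nat_lit 48) [(nat_lit 229), (nat_lit 228), (nat_lit 351)])) (.leaf .df)))) (.node (.node (.node (.leaf .df) (.leaf (.cyc (nat_lit 91) [(nat_lit 1182), (nat_lit 1177)]))) (.node (.leaf (.cyc (nat_lit 46) [(nat_lit 122), (nat_lit 608), (nat_lit 28), (nat_lit 695), (nat_lit 151)])) (.leaf .df))) (.node (.node (.leaf .df) (.leaf .df)) (.node (.leaf (.cyc (nat_lit 0) [(nat_lit 960), (nat_lit 925), (nat_lit 844), (nat_lit 851), (nat_lit 501)])) (.leaf .df)))))) (.node (.node (.node (.node (.node (.leaf .df) (.leaf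 (.cyc (nat_lit 12) [(nat_lit 904), (nat_lit 1039), (nat_lit 358)]))) (.node (.leaf .df) (.leaf .df))) (.node (.node (.leaf .df) (.leaf .df)) (.node (.leaf (.cyc (nat_lit 19) [(nat_lit 223), (nat_lit 107), (nat_lit 618), (nat_lit 170), (nat_lit 283)])) (.leaf .df)))) (.node (.node (.node (.leaf .df) (.leaf (.cyc (nat_lit 15) [(nat_lit 627), (nat_lit 1130)]))) (.node (.leaf (.cyc (nat_lit 8) [(nat_lit 647), (nat_lit 10), (nat_lit 667), (nat_lit 583), (nat_lit 591)])) (.leaf .df))) (.node (.node (.leaf .df) (.leaf .df)) (.node (.leaf (.cyc (nat_lit 56) [(nat_lit 420), (nat_lit 848), (nat_lit 376), (nat_lit 375), (nat_lit 499)])) (.leaf .df))))) (.node (.node (.node (.node (.leaf .df) (.leaf (.cyc (nat_lit 12) [(nat_lit 150), (nat_lit 1085), (nat_lit 51)]))) (.node (.leaf (.cyc (nat_lit 1) [(nat_lit 114), (nat_lit 113), (nat_lit 24), (nat_lit 580), (nat_lit 567), (nat_lit 564), (nat_lit 567), (nat_lit 580), (nat_lit 24), (nat_lit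 113), (nat_lit 114)])) (.leaf .df))) (.node (.node (.leaf .df) (.leaf .df)) (.node (.leaf (.cyc (nat_lit 51) [(nat_lit 279), (nat_lit 167), (nat_lit 166), (nat_lit 277), (nat_lit 402)])) (.leaf .df)))) (.node (.node (.node (.leaf .df) (.leaf (.cyc (nat_lit 14) [(nat_lit 1232), (nat_lit 1233), (nat_lit 1248)]))) (.node (.leaf (.cyc (nat_lit 19) [(nat_lit 703), (nat_lit 67), (nat_lit 68), (nat_lit 69), (nat_lit 180)])) (.leaf .df))) (.node (.node (.leaf .df) (.leaf .df)) (.node (.leaf (.cyc (nat_lit 52) [(nat_lit 988), (nat_lit 463), (nat_lit 829), (nat_lit 339), (nat_lit 218), (nat_lit 102), (nat_lit 103), (nat_lit 222), (nat_lit 343), (nat_lit 468), (nat_lit 992)])) (.leaf .df))))))) (.node (.node (.node (.node (.node (.node (.leaf .df) (.leaf (.cyc (nat_lit 14) [(nat_lit 377), (nat_lit 1027), (nat_lit 166)]))) (.node (.leaf .df) (.leaf .df))) (.node (.node (.leaf .df) (.leaf .df)) (.node (.leaf (.cyc (nat_lit 53) [(nat_lit 151),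 (nat_lit 32), (nat_lit 31), (nat_lit 149), (nat_lit 266)])) (.leaf .df)))) (.node (.node (.node (.leaf .df) (.leaf (.cyc (nat_lit 14) [(nat_lit 327), (nat_lit 1118), (nat_lit 562)]))) (.node (.leaf (.cyc (nat_lit 13) [(nat_lit 24), (nat_lit 656)])) (.leaf .df))) (.node (.node (.leaf .df) (.leaf .df)) (.node (.leaf (.cyc (nat_lit 70) [(nat_lit 912), (nat_lit 899), (nat_lit 395), (nat_lit 269), (nat_lit 715), (nat_lit 156), (nat_lit 155), (nat_lit 268), (nat_lit 787), (nat_lit 346), (nat_lit 470)])) (.leaf .df))))) (.node (.node (.node (.node (.leaf .df) (.leaf (.cyc (nat_lit 12) [(nat_lit 268), (nat_lit 1071), (nat_lit 667)]))) (.node (.leaf (.pin (nat_lit 34) [(nat_lit 571), (nat_lit 15), (nat_lit 23), (nat_lit 36), (nat_lit 37), (nat_lit 38), (nat_lit 59), (nat_lit 60)] [(nat_lit 569), (nat_lit 1)])) (.leaf .df))) (.node (.node (.leaf .df) (.leaf .df)) (.node (.leaf (.cyc (nat_lit 33) [(nat_lit 313), (nat_lit 745), (nat_lit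 134), (nat_lit 250), (nat_lit 377)])) (.leaf .df)))) (.node (.node (.node (.leaf .df) (.leaf (.cyc (nat_lit 14) [(nat_lit 1210), (nat_lit 165), (nat_lit 1209), (nat_lit 1232)]))) (.node (.leaf (.cyc (nat_lit 54) [(nat_lit 45), (nat_lit 655), (nat_lit 159)])) (.leaf .df))) (.node (.node (.leaf .df) (.leaf .df)) (.node (.leaf (.cyc (nat_lit 60) [(nat_lit 471), (nat_lit 470), (nat_lit 913), (nat_lit 912), (nat_lit 539)])) (.leaf .df)))))) (.node (.node (.node (.node (.node (.leaf .df) (.leaf (.cyc (nat_lit 13) [(nat_lit 945), (nat_lit 1049), (nat_lit 567)]))) (.node (.leaf (.pin (nat_lit 2) [(nat_lit 0)] [])) (.leaf .df))) (.node (.node (.leaf .df) (.leaf .df)) (.node (.leaf (.cyc (nat_lit 29) [(nat_lit 254), (nat_lit 138), (nat_lit 722), (nat_lit 746), (nat_lit 315)])) (.leaf .df)))) (.node (.node (.node (.leaf .df) (.leaf (.cyc (nat_lit 15) [(nat_lit 66), (nat_lit 1190), (nat_lit 1185)]))) (.node (.leaf (.cyc (nat_lit 7) [(nat_lit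 120), (nat_lit 687), (nat_lit 88)])) (.leaf .df))) (.node (.node (.leaf .df) (.leaf .df)) (.node (.leaf (.cyc (nat_lit 41) [(nat_lit 392), (nat_lit 266), (nat_lit 265), (nat_lit 391), (nat_lit 514)])) (.leaf .df))))) (.node (.node (.node (.node (.leaf .df) (.leaf (.cyc (nat_lit 14) [(nat_lit 1136), (nat_lit 501), (nat_lit 1094), (nat_lit 602)]))) (.node (.leaf (.cyc (nat_lit 12) [(nat_lit 25), (nat_lit 622)])) (.leaf .df))) (.node (.node (.leaf .df) (.leaf .df)) (.node (.leaf (.cyc (nat_lit 70) [(nat_lit 415), (nat_lit 300), (nat_lit 784), (nat_lit 265), (nat_lit 149), (nat_lit 31), (nat_lit 32), (nat_lit 51), (nat_lit 168), (nat_lit 281), (nat_lit 404)])) (.leaf .df)))) (.node (.node (.node (.leaf .df) (.leaf (.cyc (nat_lit 14) [(nat_lit 1256), (nat_lit 411), (nat_lit 1264), (nat_lit 0)]))) (.node (.leaf (.cyc (nat_lit 40) [(nat_lit 206), (nat_lit 93), (nat_lit 209)])) (.leaf .df))) (.node (.node (.leaf .df) (.leaf .df)) (.node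 (.leaf (.cyc (nat_lit 13) [(nat_lit 874), (nat_lit 1005), (nat_lit 867)])) (.leaf .df))))))))
noncomputable def kTP1001 : BT Pf := (.node (.node (.node (.node (.node (.node (.node (.leaf .df) (.leaf (.cyc (nat_lit 15) [(nat_lit 931), (nat_lit 1021), (nat_lit 44)]))) (.node (.leaf .df) (.leaf .df))) (.node (.node (.leaf .df) (.leaf .df)) (.node (.leaf (.cyc (nat_lit 51) [(nat_lit 148), (nat_lit 28), (nat_lit 27), (nat_lit 146), (nat_lit 261)])) (.leaf .df)))) (.node (.node (.node (.leaf .df) (.leaf (.cyc (nat_lit 14) [(nat_lit 75), (nat_lit 1112), (nat_lit 10)]))) (.node (.leaf (.cyc (nat_lit 28) [(nat_lit 594), (nat_lit 5), (nat_lit 7)])) (.leaf .df))) (.node (.node (.leaf .df) (.leaf .df)) (.node (.leaf (.cyc (nat_lit 66) [(nat_lit 452), (nat_lit 327), (nat_lit 804), (nat_lit 803), (nat_lit 764), (nat_lit 125), (nat_lit 124), (nat_lit 237), (nat_lit 772), (nat_lit 329), (nat_lit 455)])) (.leaf .df))))) (.node (.node (.node (.node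 (.leaf .df) (.leaf (.cyc (nat_lit 13) [(nat_lit 132), (nat_lit 1067), (nat_lit 568)]))) (.node (.leaf (.pin (nat_lit 26) [(nat_lit 15), (nat_lit 23), (nat_lit 36), (nat_lit 37), (nat_lit 38)] [(nat_lit 569), (nat_lit 1)])) (.leaf .df))) (.node (.node (.leaf .df) (.leaf .df)) (.node (.leaf (.cyc (nat_lit 7) [(nat_lit 245), (nat_lit 244), (nat_lit 365)])) (.leaf .df)))) (.node (.node (.node (.leaf .df) (.leaf (.cyc (nat_lit 15) [(nat_lit 330), (nat_lit 1191), (nat_lit 1185)]))) (.node (.leaf (.cyc (nat_lit 52) [(nat_lit 155), (nat_lit 39), (nat_lit 661), (nat_lit 29), (nat_lit 14), (nat_lit 571), (nat_lit 14), (nat_lit 29), (nat_lit 661), (nat_lit 39), (nat_lit 155)])) (.leaf .df))) (.node (.node (.leaf .df) (.leaf .df)) (.node (.leaf (.cyc (nat_lit 52) [(nat_lit 957), (nat_lit 522), (nat_lit 417), (nat_lit 301), (nat_lit 744), (nat_lit 192), (nat_lit 80), (nat_lit 194), (nat_lit 313), (nat_lit 433), (nat_lit 968)])) (.leaf .df))))))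 (.node (.node (.node (.node (.node (.leaf .df) (.leaf (.cyc (nat_lit 11) [(nat_lit 843), (nat_lit 1064), (nat_lit 695)]))) (.node (.leaf .df) (.leaf .df))) (.node (.node (.leaf .df) (.leaf .df)) (.node (.leaf (.cyc (nat_lit 41) [(nat_lit 185), (nat_lit 71), (nat_lit 70), (nat_lit 181), (nat_lit 298)])) (.leaf .df)))) (.node (.node (.node (.leaf .df) (.leaf (.cyc (nat_lit 14) [(nat_lit 315), (nat_lit 1143), (nat_lit 663)]))) (.node (.leaf (.cyc (nat_lit 30) [(nat_lit 605), (nat_lit 678), (nat_lit 631), (nat_lit 647), (nat_lit 670)])) (.leaf .df))) (.node (.node (.leaf .df) (.leaf .df)) (.node (.leaf (.cyc (nat_lit 57) [(nat_lit 936), (nat_lit 507), (nat_lit 385), (nat_lit 386), (nat_lit 508)])) (.leaf .df))))) (.node (.node (.node (.node (.leaf .df) (.leaf (.cyc (nat_lit 14) [(nat_lit 43), (nat_lit 1088), (nat_lit 27)]))) (.node (.leaf (.cyc (nat_lit 8) [(nat_lit 110), (nat_lit 111), (nat_lit 616), (nat_lit 80), (nat_lit 79)]))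 (.leaf .df))) (.node (.node (.leaf .df) (.leaf .df)) (.node (.leaf (.cyc (nat_lit 29) [(nat_lit 297), (nat_lit 296), (nat_lit 872), (nat_lit 407), (nat_lit 408)])) (.leaf .df)))) (.node (.node (.node (.leaf .df) (.leaf (.cyc (nat_lit 11) [(nat_lit 342), (nat_lit 1242), (nat_lit 9)]))) (.node (.leaf (.cyc (nat_lit 17) [(nat_lit 135), (nat_lit 136), (nat_lit 606), (nat_lit 81), (nat_lit 194)])) (.leaf .df))) (.node (.node (.leaf .df) (.leaf .df)) (.node (.leaf (.cyc (nat_lit 88) [(nat_lit 999), (nat_lit 558), (nat_lit 997), (nat_lit 557), (nat_lit 914), (nat_lit 974), (nat_lit 535), (nat_lit 437), (nat_lit 315), (nat_lit 746), (nat_lit 722), (nat_lit 137), (nat_lit 716), (nat_lit 157), (nat_lit 587), (nat_lit 8), (nat_lit 679), (nat_lit 684), (nat_lit 8), (nat_lit 593), (nat_lit 602), (nat_lit 674), (nat_lit 676), (nat_lit 607), (nat_lit 88), (nat_lit 203), (nat_lit 322), (nat_lit 444), (nat_lit 540)])) (.leaf .df))))))) (.node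 (.node (.node (.node (.node (.node (.leaf .df) (.leaf (.cyc (nat_lit 14) [(nat_lit 948), (nat_lit 1033), (nat_lit 588)]))) (.node (.leaf .df) (.leaf .df))) (.node (.node (.leaf .df) (.leaf .df)) (.node (.leaf (.cyc (nat_lit 33) [(nat_lit 270), (nat_lit 721), (nat_lit 46), (nat_lit 163), (nat_lit 274)])) (.leaf .df)))) (.node (.node (.node (.leaf .df) (.leaf (.cyc (nat_lit 14) [(nat_lit 782), (nat_lit 1125), (nat_lit 121)]))) (.node (.leaf (.cyc (nat_lit 21) [(nat_lit 35), (nat_lit 638), (nat_lit 658), (nat_lit 9)])) (.leaf .df))) (.node (.node (.leaf .df) (.leaf .df)) (.node (.leaf (.cyc (nat_lit 78) [(nat_lit 479), (nat_lit 355), (nat_lit 769), (nat_lit 151), (nat_lit 33), (nat_lit 690), (nat_lit 594), (nat_lit 603), (nat_lit 611), (nat_lit 606), (nat_lit 136), (nat_lit 135), (nat_lit 252), (nat_lit 844), (nat_lit 370), (nat_lit 839), (nat_lit 486)])) (.leaf .df))))) (.node (.node (.node (.node (.leaf .df) (.leaf (.cyc (nat_lit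 11) [(nat_lit 961), (nat_lit 1077), (nat_lit 706)]))) (.node (.leaf (.pin (nat_lit 42) [(nat_lit 15), (nat_lit 21), (nat_lit 89), (nat_lit 90), (nat_lit 91), (nat_lit 92), (nat_lit 93), (nat_lit 94), (nat_lit 95), (nat_lit 96)] [(nat_lit 592), (nat_lit 584), (nat_lit 565)])) (.leaf .df))) (.node (.node (.leaf .df) (.leaf .df)) (.node (.leaf (.cyc (nat_lit 69) [(nat_lit 369), (nat_lit 247), (nat_lit 132), (nat_lit 131), (nat_lit 130), (nat_lit 129), (nat_lit 90), (nat_lit 645), (nat_lit 153), (nat_lit 267), (nat_lit 393)])) (.leaf .df)))) (.node (.node (.node (.leaf .df) (.leaf (.cyc (nat_lit 13) [(nat_lit 516), (nat_lit 1222), (nat_lit 640)]))) (.node (.leaf (.cyc (nat_lit 33) [(nat_lit 80), (nat_lit 81), (nat_lit 599), (nat_lit 50), (nat_lit 166)])) (.leaf .df))) (.node (.node (.leaf .df) (.leaf .df)) (.node (.leaf (.cyc (nat_lit 85) [(nat_lit 546), (nat_lit 976), (nat_lit 977), (nat_lit 911), (nat_lit 406), (nat_lit 287), (nat_lit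 173), (nat_lit 62), (nat_lit 603), (nat_lit 612), (nat_lit 611), (nat_lit 606), (nat_lit 693), (nat_lit 128), (nat_lit 242), (nat_lit 361), (nat_lit 484)])) (.leaf .df)))))) (.node (.node (.node (.node (.node (.leaf .df) (.leaf (.cyc (nat_lit 15) [(nat_lit 515), (nat_lit 1079), (nat_lit 575)]))) (.node (.leaf (.pin (nat_lit 10) [(nat_lit 3), (nat_lit 7), (nat_lit 8)] [(nat_lit 562)])) (.leaf .df))) (.node (.node (.leaf .df) (.leaf .df)) (.node (.leaf (.cyc (nat_lit 53) [(nat_lit 325), (nat_lit 204), (nat_lit 92), (nat_lit 207), (nat_lit 328)])) (.leaf .df)))) (.node (.node (.node (.leaf .df) (.leaf (.cyc (nat_lit 15) [(nat_lit 628), (nat_lit 1160), (nat_lit 662)]))) (.node (.leaf (.cyc (nat_lit 48) [(nat_lit 682), (nat_lit 688), (nat_lit 689)])) (.leaf .df))) (.node (.node (.leaf .df) (.leaf .df)) (.node (.leaf (.cyc (nat_lit 54) [(nat_lit 466), (nat_lit 868), (nat_lit 518)])) (.leaf .df))))) (.node (.node (.node (.node (.leaf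 .df) (.leaf (.cyc (nat_lit 15) [(nat_lit 644), (nat_lit 1100), (nat_lit 626)]))) (.node (.leaf (.cyc (nat_lit 21) [(nat_lit 632), (nat_lit 627), (nat_lit 608)])) (.leaf .df))) (.node (.node (.leaf .df) (.leaf .df)) (.node (.leaf (.cyc (nat_lit 29) [(nat_lit 880), (nat_lit 879), (nat_lit 310), (nat_lit 309), (nat_lit 428)])) (.leaf .df)))) (.node (.node (.node (.leaf .df) (.leaf .df)) (.node (.leaf (.cyc (nat_lit 57) [(nat_lit 199), (nat_lit 698), (nat_lit 117), (nat_lit 116), (nat_lit 228)])) (.leaf .df))) (.node (.node (.leaf .df) (.leaf .df)) (.node (.leaf (.cyc (nat_lit 15) [(nat_lit 403), (nat_lit 1009), (nat_lit 410)])) (.leaf .df))))))))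
noncomputable def kTP100 : BT Pf := .node kTP1000 kTP1001
noncomputable def kTP1010 : BT Pf := (.node (.node (.node (.node (.node (.node (.node (.leaf .df) (.leaf (.cyc (nat_lit 14) [(nat_lit 313), (nat_lit 1018), (nat_lit 80)]))) (.node (.leaf .df) (.leaf .df))) (.node (.node (.leaf .df) (.leaf .df)) (.node (.leaf (.cyc (nat_lit 41) [(nat_lit 235), (nat_lit 122), (nat_lit 123), (nat_lit 124), (nat_lit 239)])) (.leaf .df)))) (.node (.node (.node (.leaf .df) (.leaf (.cyc (nat_lit 91) [(nat_lit 1137), (nat_lit 1109)]))) (.node (.leaf (.cyc (nat_lit 26) [(nat_lit 89), (nat_lit 22), (nat_lit 579), (nat_lit 566), (nat_lit 1), (nat_lit 562), (nat_lit 559), (nat_lit 567), (nat_lit 580), (nat_lit 24), (nat_lit 23), (nat_lit 21), (nat_lit 89), (nat_lit 90), (nat_lit 644), (nat_lit 82), (nat_lit 37)])) (.leaf .df))) (.node (.node (.leaf .df) (.leaf .df)) (.node (.leaf (.cyc (nat_lit 64) [(nat_lit 358), (nat_lit 836), (nat_lit 357), (nat_lit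 238), (nat_lit 239), (nat_lit 773), (nat_lit 235), (nat_lit 608), (nat_lit 27), (nat_lit 26), (nat_lit 89), (nat_lit 90), (nat_lit 719), (nat_lit 750), (nat_lit 327), (nat_lit 824), (nat_lit 900)])) (.leaf .df))))) (.node (.node (.node (.node (.leaf .df) (.leaf (.cyc (nat_lit 12) [(nat_lit 956), (nat_lit 1061), (nat_lit 418)]))) (.node (.leaf (.pin (nat_lit 22) [(nat_lit 573), (nat_lit 14), (nat_lit 16), (nat_lit 17), (nat_lit 25)] [(nat_lit 570), (nat_lit 0)])) (.leaf .df))) (.node (.node (.leaf .df) (.leaf .df)) (.node (.leaf (.cyc (nat_lit 60) [(nat_lit 332), (nat_lit 212), (nat_lit 682), (nat_lit 242), (nat_lit 360)])) (.leaf .df)))) (.node (.node (.node (.leaf .df) (.leaf (.cyc (nat_lit 91) [(nat_lit 1216), (nat_lit 1184)]))) (.node (.leaf (.cyc (nat_lit 50) [(nat_lit 75), (nat_lit 653), (nat_lit 43), (nat_lit 683), (nat_lit 154)])) (.leaf .df))) (.node (.node (.leaf .df) (.leaf .df)) (.node (.leaf (.cyc (nat_lit 60) [(nat_lit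 430), (nat_lit 310), (nat_lit 813), (nat_lit 425), (nat_lit 529)])) (.leaf .df)))))) (.node (.node (.node (.node (.node (.leaf .df) (.leaf (.cyc (nat_lit 13) [(nat_lit 969), (nat_lit 1042), (nat_lit 301)]))) (.node (.leaf .df) (.leaf .df))) (.node (.node (.leaf .df) (.leaf .df)) (.node (.leaf (.cyc (nat_lit 60) [(nat_lit 284), (nat_lit 171), (nat_lit 680), (nat_lit 175), (nat_lit 289)])) (.leaf .df)))) (.node (.node (.node (.leaf .df) (.leaf (.cyc (nat_lit 14) [(nat_lit 602), (nat_lit 1137), (nat_lit 1176)]))) (.node (.leaf (.cyc (nat_lit 7) [(nat_lit 104), (nat_lit 675), (nat_lit 73)])) (.leaf .df))) (.node (.node (.leaf .df) (.leaf .df)) (.node (.leaf (.cyc (nat_lit 41) [(nat_lit 496), (nat_lit 373), (nat_lit 775), (nat_lit 378), (nat_lit 500)])) (.leaf .df))))) (.node (.node (.node (.node (.leaf .df) (.leaf (.cyc (nat_lit 12) [(nat_lit 264), (nat_lit 1123), (nat_lit 639)]))) (.node (.leaf (.cyc (nat_lit 5) [(nat_lit 604),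 (nat_lit 603), (nat_lit 612), (nat_lit 603), (nat_lit 604)])) (.leaf .df))) (.node (.node (.leaf .df) (.leaf .df)) (.node (.leaf (.cyc (nat_lit 51) [(nat_lit 286), (nat_lit 172), (nat_lit 171), (nat_lit 285), (nat_lit 405)])) (.leaf .df)))) (.node (.node (.node (.leaf .df) (.leaf (.cyc (nat_lit 91) [(nat_lit 1251), (nat_lit 1244)]))) (.node (.leaf (.cyc (nat_lit 48) [(nat_lit 709), (nat_lit 76), (nat_lit 188)])) (.leaf .df))) (.node (.node (.leaf .df) (.leaf .df)) (.node (.leaf (.cyc (nat_lit 50) [(nat_lit 475), (nat_lit 349), (nat_lit 348), (nat_lit 474), (nat_lit 557)])) (.leaf .df))))))) (.node (.node (.node (.node (.node (.node (.leaf .df) (.leaf (.cyc (nat_lit 13) [(nat_lit 373), (nat_lit 1030), (nat_lit 42)]))) (.node (.leaf .df) (.leaf .df))) (.node (.node (.leaf .df) (.leaf .df)) (.node (.leaf (.cyc (nat_lit 41) [(nat_lit 766), (nat_lit 174), (nat_lit 61), (nat_lit 156), (nat_lit 269)])) (.leaf .df)))) (.node (.node (.node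 (.leaf .df) (.leaf (.cyc (nat_lit 15) [(nat_lit 295), (nat_lit 1172), (nat_lit 587)]))) (.node (.leaf (.cyc (nat_lit 34) [(nat_lit 40), (nat_lit 587), (nat_lit 7), (nat_lit 3), (nat_lit 4), (nat_lit 658), (nat_lit 23), (nat_lit 21), (nat_lit 89), (nat_lit 659), (nat_lit 41)])) (.leaf .df))) (.node (.node (.leaf .df) (.leaf .df)) (.node (.leaf (.cyc (nat_lit 53) [(nat_lit 441), (nat_lit 319), (nat_lit 770), (nat_lit 355), (nat_lit 480)])) (.leaf .df))))) (.node (.node (.node (.node (.leaf .df) (.leaf (.cyc (nat_lit 13) [(nat_lit 978), (nat_lit 1074), (nat_lit 631)]))) (.node (.leaf (.pin (nat_lit 38) [(nat_lit 14), (nat_lit 29), (nat_lit 41), (nat_lit 67), (nat_lit 68), (nat_lit 69), (nat_lit 70), (nat_lit 71), (nat_lit 72), (nat_lit 73)] [(nat_lit 13), (nat_lit 570), (nat_lit 0)])) (.leaf .df))) (.node (.node (.leaf .df) (.leaf .df)) (.node (.leaf (.cyc (nat_lit 53) [(nat_lit 256), (nat_lit 140), (nat_lit 139), (nat_lit 254),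 (nat_lit 381)])) (.leaf .df)))) (.node (.node (.node (.leaf .df) (.leaf (.cyc (nat_lit 13) [(nat_lit 906), (nat_lit 1214), (nat_lit 567)]))) (.node (.leaf (.cyc (nat_lit 18) [(nat_lit 707), (nat_lit 706), (nat_lit 163)])) (.leaf .df))) (.node (.node (.leaf .df) (.leaf .df)) (.node (.leaf (.cyc (nat_lit 84) [(nat_lit 543), (nat_lit 450), (nat_lit 325), (nat_lit 204), (nat_lit 92), (nat_lit 208), (nat_lit 752), (nat_lit 317), (nat_lit 439), (nat_lit 536), (nat_lit 975)])) (.leaf .df)))))) (.node (.node (.node (.node (.node (.leaf .df) (.leaf (.cyc (nat_lit 13) [(nat_lit 525), (nat_lit 1053), (nat_lit 162)]))) (.node (.leaf (.pin (nat_lit 6) [(nat_lit 2)] [])) (.leaf .df))) (.node (.node (.leaf .df) (.leaf .df)) (.node (.leaf (.cyc (nat_lit 53) [(nat_lit 321), (nat_lit 202), (nat_lit 87), (nat_lit 203), (nat_lit 323)])) (.leaf .df)))) (.node (.node (.node (.leaf .df) (.leaf (.cyc (nat_lit 91) [(nat_lit 1186), (nat_lit 1165)])))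 (.node (.leaf (.cyc (nat_lit 5) [(nat_lit 605), (nat_lit 648), (nat_lit 691), (nat_lit 599), (nat_lit 606)])) (.leaf .df))) (.node (.node (.leaf .df) (.leaf .df)) (.node (.leaf (.cyc (nat_lit 58) [(nat_lit 464), (nat_lit 338), (nat_lit 783), (nat_lit 391), (nat_lit 515)])) (.leaf .df))))) (.node (.node (.node (.node (.leaf .df) (.leaf (.cyc (nat_lit 12) [(nat_lit 903), (nat_lit 1098), (nat_lit 196)]))) (.node (.leaf (.cyc (nat_lit 18) [(nat_lit 581), (nat_lit 621), (nat_lit 578)])) (.leaf .df))) (.node (.node (.leaf .df) (.leaf .df)) (.node (.leaf (.cyc (nat_lit 48) [(nat_lit 363), (nat_lit 811), (nat_lit 423)])) (.leaf .df)))) (.node (.node (.node (.leaf .df) (.leaf .df)) (.node (.leaf (.cyc (nat_lit 29) [(nat_lit 111), (nat_lit 652), (nat_lit 103), (nat_lit 102), (nat_lit 218)])) (.leaf .df))) (.node (.node (.leaf .df) (.leaf .df)) (.node (.leaf (.cyc (nat_lit 15) [(nat_lit 420), (nat_lit 1006), (nat_lit 739)])) (.leaf .df))))))))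
noncomputable def kTP1011 : BT Pf := (.node (.node (.node (.node (.node (.node (.node (.leaf .df) (.leaf (.cyc (nat_lit 13) [(nat_lit 943), (nat_lit 1024), (nat_lit 394)]))) (.node (.leaf .df) (.leaf .df))) (.node (.node (.leaf .df) (.leaf .df)) (.node (.leaf (.cyc (nat_lit 48) [(nat_lit 756), (nat_lit 754), (nat_lit 264)])) (.leaf .df)))) (.node (.node (.node (.leaf .df) (.leaf (.cyc (nat_lit 12) [(nat_lit 70), (nat_lit 1115), (nat_lit 594)]))) (.node (.leaf (.cyc (nat_lit 30) [(nat_lit 53), (nat_lit 20), (nat_lit 29), (nat_lit 41), (nat_lit 42)])) (.leaf .df))) (.node (.node (.leaf .df) (.leaf .df)) (.node (.leaf (.cyc (nat_lit 51) [(nat_lit 422), (nat_lit 304), (nat_lit 758), (nat_lit 340), (nat_lit 465)])) (.leaf .df))))) (.node (.node (.node (.node (.leaf .df) (.leaf (.cyc (nat_lit 15) [(nat_lit 556), (nat_lit 1069), (nat_lit 398)]))) (.node (.leaf (.pin (nat_lit 30) [(nat_lit 15), (nat_lit 23), (nat_lit 36), (nat_lit 45),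 (nat_lit 46), (nat_lit 47), (nat_lit 48)] [(nat_lit 13), (nat_lit 570), (nat_lit 0)])) (.leaf .df))) (.node (.node (.leaf .df) (.leaf .df)) (.node (.leaf (.cyc (nat_lit 17) [(nat_lit 366), (nat_lit 245), (nat_lit 132), (nat_lit 248), (nat_lit 373)])) (.leaf .df)))) (.node (.node (.node (.leaf .df) (.leaf (.cyc (nat_lit 14) [(nat_lit 115), (nat_lit 1203), (nat_lit 1223)]))) (.node (.leaf (.cyc (nat_lit 4) [(nat_lit 157), (nat_lit 40), (nat_lit 661), (nat_lit 29), (nat_lit 14), (nat_lit 573), (nat_lit 14), (nat_lit 29), (nat_lit 661), (nat_lit 40), (nat_lit 157)])) (.leaf .df))) (.node (.node (.leaf .df) (.leaf .df)) (.node (.leaf (.cyc (nat_lit 30) [(nat_lit 972), (nat_lit 445), (nat_lit 323), (nat_lit 322), (nat_lit 444)])) (.leaf .df)))))) (.node (.node (.node (.node (.node (.leaf .df) (.leaf (.cyc (nat_lit 14) [(nat_lit 996), (nat_lit 1047), (nat_lit 271)]))) (.node (.leaf .df) (.leaf .df))) (.node (.node (.leaf .df) (.leaf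 .df)) (.node (.leaf (.cyc (nat_lit 23) [(nat_lit 193), (nat_lit 79), (nat_lit 78), (nat_lit 189), (nat_lit 306)])) (.leaf .df)))) (.node (.node (.node (.leaf .df) (.leaf (.cyc (nat_lit 91) [(nat_lit 1167), (nat_lit 1147)]))) (.node (.leaf (.cyc (nat_lit 42) [(nat_lit 605), (nat_lit 595), (nat_lit 684), (nat_lit 649), (nat_lit 604)])) (.leaf .df))) (.node (.node (.leaf .df) (.leaf .df)) (.node (.leaf (.cyc (nat_lit 81) [(nat_lit 503), (nat_lit 853), (nat_lit 256), (nat_lit 141), (nat_lit 142), (nat_lit 143), (nat_lit 144), (nat_lit 607), (nat_lit 600), (nat_lit 591), (nat_lit 690), (nat_lit 6), (nat_lit 582), (nat_lit 148), (nat_lit 777), (nat_lit 389), (nat_lit 510)])) (.leaf .df))))) (.node (.node (.node (.node (.leaf .df) (.leaf (.cyc (nat_lit 12) [(nat_lit 881), (nat_lit 1132), (nat_lit 1)]))) (.node (.leaf (.cyc (nat_lit 11) [(nat_lit 105), (nat_lit 620)])) (.leaf .df))) (.node (.node (.leaf .df) (.leaf .df)) (.node (.leaf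 (.cyc (nat_lit 58) [(nat_lit 849), (nat_lit 816), (nat_lit 875), (nat_lit 874), (nat_lit 410)])) (.leaf .df)))) (.node (.node (.node (.leaf .df) (.leaf (.cyc (nat_lit 13) [(nat_lit 1240), (nat_lit 1258), (nat_lit 568)]))) (.node (.leaf (.cyc (nat_lit 29) [(nat_lit 131), (nat_lit 130), (nat_lit 129), (nat_lit 91), (nat_lit 204)])) (.leaf .df))) (.node (.node (.leaf .df) (.leaf .df)) (.node (.leaf (.cyc (nat_lit 14) [(nat_lit 876), (nat_lit 1004), (nat_lit 408)])) (.leaf .df))))))) (.node (.node (.node (.node (.node (.node (.leaf .df) (.leaf (.cyc (nat_lit 12) [(nat_lit 421), (nat_lit 1036), (nat_lit 740)]))) (.node (.leaf .df) (.leaf .df))) (.node (.node (.leaf .df) (.leaf .df)) (.node (.leaf (.cyc (nat_lit 29) [(nat_lit 279), (nat_lit 278), (nat_lit 796), (nat_lit 278), (nat_lit 279)])) (.leaf .df)))) (.node (.node (.node (.leaf .df) (.leaf (.cyc (nat_lit 91) [(nat_lit 1150), (nat_lit 1127)]))) (.node (.leaf (.cyc (nat_lit 15)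 [(nat_lit 35), (nat_lit 665)])) (.leaf .df))) (.node (.node (.leaf .df) (.leaf .df)) (.node (.leaf (.cyc (nat_lit 48) [(nat_lit 370), (nat_lit 369), (nat_lit 491)])) (.leaf .df))))) (.node (.node (.node (.node (.leaf .df) (.leaf (.cyc (nat_lit 13) [(nat_lit 949), (nat_lit 1081), (nat_lit 15)]))) (.node (.leaf (.pin (nat_lit 46) [(nat_lit 15), (nat_lit 18), (nat_lit 121), (nat_lit 122), (nat_lit 123), (nat_lit 124), (nat_lit 125), (nat_lit 126), (nat_lit 127), (nat_lit 128)] [(nat_lit 595), (nat_lit 588), (nat_lit 567)])) (.leaf .df))) (.node (.node (.leaf .df) (.leaf .df)) (.node (.leaf (.cyc (nat_lit 69) [(nat_lit 383), (nat_lit 853), (nat_lit 381), (nat_lit 254), (nat_lit 138), (nat_lit 722), (nat_lit 160), (nat_lit 43), (nat_lit 159), (nat_lit 270), (nat_lit 397)])) (.leaf .df)))) (.node (.node (.node (.leaf .df) (.leaf (.cyc (nat_lit 11) [(nat_lit 1199), (nat_lit 1227), (nat_lit 30)]))) (.node (.leaf (.cyc (nat_lit 17) [(nat_lit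 119), (nat_lit 120), (nat_lit 604), (nat_lit 62), (nat_lit 174)])) (.leaf .df))) (.node (.node (.leaf .df) (.leaf .df)) (.node (.leaf (.cyc (nat_lit 33) [(nat_lit 988), (nat_lit 549), (nat_lit 459), (nat_lit 460), (nat_lit 550)])) (.leaf .df)))))) (.node (.node (.node (.node (.node (.leaf .df) (.leaf (.cyc (nat_lit 11) [(nat_lit 703), (nat_lit 1059), (nat_lit 695)]))) (.node (.leaf (.pin (nat_lit 14) [] [])) (.leaf .df))) (.node (.node (.leaf .df) (.leaf .df)) (.node (.leaf (.cyc (nat_lit 53) [(nat_lit 338), (nat_lit 217), (nat_lit 101), (nat_lit 218), (nat_lit 339)])) (.leaf .df)))) (.node (.node (.node (.leaf .df) (.leaf (.cyc (nat_lit 12) [(nat_lit 185), (nat_lit 1166), (nat_lit 591), (nat_lit 1174)]))) (.node (.leaf (.cyc (nat_lit 17) [(nat_lit 122), (nat_lit 633), (nat_lit 31), (nat_lit 662), (nat_lit 146)])) (.leaf .df))) (.node (.node (.leaf .df) (.leaf .df)) (.node (.leaf (.cyc (nat_lit 19) [(nat_lit 521), (nat_lit 415),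 (nat_lit 810), (nat_lit 417), (nat_lit 522)])) (.leaf .df))))) (.node (.node (.node (.node (.leaf .df) (.leaf (.cyc (nat_lit 14) [(nat_lit 149), (nat_lit 1103), (nat_lit 588)]))) (.node (.leaf (.cyc (nat_lit 15) [(nat_lit 577), (nat_lit 634)])) (.leaf .df))) (.node (.node (.leaf .df) (.leaf .df)) (.node (.leaf (.cyc (nat_lit 64) [(nat_lit 892), (nat_lit 320), (nat_lit 202), (nat_lit 201), (nat_lit 747), (nat_lit 761), (nat_lit 351), (nat_lit 833), (nat_lit 762), (nat_lit 833), (nat_lit 351), (nat_lit 761), (nat_lit 747), (nat_lit 201), (nat_lit 202), (nat_lit 320), (nat_lit 892)])) (.leaf .df)))) (.node (.node (.node (.leaf .df) (.leaf .df)) (.node (.leaf (.cyc (nat_lit 51) [(nat_lit 195), (nat_lit 84), (nat_lit 85), (nat_lit 698), (nat_lit 231)])) (.leaf .df))) (.node (.node (.leaf .df) (.leaf .df)) (.node (.leaf (.cyc (nat_lit 11) [(nat_lit 930), (nat_lit 1012), (nat_lit 63)])) (.leaf .df))))))))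
noncomputable def kTP101 : BT Pf := .node kTP1010 kTP1011
noncomputable def kTP10 : BT Pf := .node kTP100 kTP101
noncomputable def kTP1100 : BT Pf := (.node (.node (.node (.node (.node (.node (.node (.leaf .df) (.leaf (.cyc (nat_lit 13) [(nat_lit 877), (nat_lit 1017), (nat_lit 277)]))) (.node (.leaf .df) (.leaf .df))) (.node (.node (.leaf .df) (.leaf .df)) (.node (.leaf (.cyc (nat_lit 7) [(nat_lit 701), (nat_lit 123), (nat_lit 237)])) (.leaf .df)))) (.node (.node (.node (.leaf .df) (.leaf (.cyc (nat_lit 12) [(nat_lit 1120), (nat_lit 738), (nat_lit 1107), (nat_lit 7)]))) (.node (.leaf (.cyc (nat_lit 5) [(nat_lit 601), (nat_lit 592), (nat_lit 642), (nat_lit 592), (nat_lit 601)])) (.leaf .df))) (.node (.node (.leaf .df) (.leaf .df)) (.node (.leaf (.cyc (nat_lit 57) [(nat_lit 897), (nat_lit 442), (nat_lit 320), (nat_lit 321), (nat_lit 443)])) (.leaf .df))))) (.node (.node (.node (.node (.leaf .df) (.leaf (.cyc (nat_lit 13) [(nat_lit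 532), (nat_lit 1060), (nat_lit 71)]))) (.node (.leaf (.pin (nat_lit 20) [(nat_lit 15), (nat_lit 21), (nat_lit 22)] [(nat_lit 566)])) (.leaf .df))) (.node (.node (.leaf .df) (.leaf .df)) (.node (.leaf (.cyc (nat_lit 53) [(nat_lit 353), (nat_lit 233), (nat_lit 119), (nat_lit 234), (nat_lit 354)])) (.leaf .df)))) (.node (.node (.node (.leaf .df) (.leaf (.cyc (nat_lit 12) [(nat_lit 940), (nat_lit 1178), (nat_lit 639)]))) (.node (.leaf (.cyc (nat_lit 33) [(nat_lit 57), (nat_lit 671), (nat_lit 10), (nat_lit 669), (nat_lit 152)])) (.leaf .df))) (.node (.node (.leaf .df) (.leaf .df)) (.node (.leaf (.cyc (nat_lit 83) [(nat_lit 434), (nat_lit 313), (nat_lit 745), (nat_lit 134), (nat_lit 133), (nat_lit 132), (nat_lit 131), (nat_lit 130), (nat_lit 129), (nat_lit 90), (nat_lit 89), (nat_lit 21), (nat_lit 575), (nat_lit 3), (nat_lit 7), (nat_lit 684), (nat_lit 588), (nat_lit 9), (nat_lit 10), (nat_lit 670), (nat_lit 681), (nat_lit 693), (nat_lit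 136), (nat_lit 253), (nat_lit 380), (nat_lit 922), (nat_lit 487), (nat_lit 885), (nat_lit 527)])) (.leaf .df)))))) (.node (.node (.node (.node (.node (.leaf .df) (.leaf (.cyc (nat_lit 12) [(nat_lit 1045), (nat_lit 775), (nat_lit 1041), (nat_lit 49)]))) (.node (.leaf .df) (.leaf .df))) (.node (.node (.leaf .df) (.leaf .df)) (.node (.leaf (.cyc (nat_lit 54) [(nat_lit 763), (nat_lit 733), (nat_lit 288)])) (.leaf .df)))) (.node (.node (.node (.leaf .df) (.leaf (.cyc (nat_lit 11) [(nat_lit 882), (nat_lit 1134), (nat_lit 629)]))) (.node (.leaf (.cyc (nat_lit 39) [(nat_lit 597), (nat_lit 13), (nat_lit 630), (nat_lit 570), (nat_lit 0), (nat_lit 565), (nat_lit 583), (nat_lit 591), (nat_lit 673), (nat_lit 631), (nat_lit 602)])) (.leaf .df))) (.node (.node (.leaf .df) (.leaf .df)) (.node (.leaf (.cyc (nat_lit 21) [(nat_lit 930), (nat_lit 499), (nat_lit 498)])) (.leaf .df))))) (.node (.node (.node (.node (.leaf .df) (.leaf (.cyc (nat_lit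 91) [(nat_lit 1106), (nat_lit 1086)]))) (.node (.leaf (.cyc (nat_lit 3) [(nat_lit 603), (nat_lit 594), (nat_lit 6), (nat_lit 590), (nat_lit 599)])) (.leaf .df))) (.node (.node (.leaf .df) (.leaf .df)) (.node (.leaf (.cyc (nat_lit 58) [(nat_lit 311), (nat_lit 193), (nat_lit 729), (nat_lit 277), (nat_lit 403)])) (.leaf .df)))) (.node (.node (.node (.leaf .df) (.leaf (.cyc (nat_lit 13) [(nat_lit 1230), (nat_lit 1236), (nat_lit 1240), (nat_lit 1244)]))) (.node (.leaf (.cyc (nat_lit 33) [(nat_lit 175), (nat_lit 64), (nat_lit 648), (nat_lit 598), (nat_lit 186)])) (.leaf .df))) (.node (.node (.leaf .df) (.leaf .df)) (.node (.leaf (.cyc (nat_lit 52) [(nat_lit 991), (nat_lit 466), (nat_lit 341), (nat_lit 221), (nat_lit 103), (nat_lit 652), (nat_lit 111), (nat_lit 226), (nat_lit 348), (nat_lit 473), (nat_lit 994)])) (.leaf .df))))))) (.node (.node (.node (.node (.node (.node (.leaf .df) (.leaf (.cyc (nat_lit 11) [(nat_lit 312), (nat_lit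 1029), (nat_lit 699)]))) (.node (.leaf .df) (.leaf .df))) (.node (.node (.leaf .df) (.leaf .df)) (.node (.leaf (.cyc (nat_lit 60) [(nat_lit 760), (nat_lit 173), (nat_lit 61), (nat_lit 155), (nat_lit 268)])) (.leaf .df)))) (.node (.node (.node (.leaf .df) (.leaf (.cyc (nat_lit 13) [(nat_lit 979), (nat_lit 1119), (nat_lit 210)]))) (.node (.leaf (.cyc (nat_lit 16) [(nat_lit 42), (nat_lit 655), (nat_lit 82), (nat_lit 644), (nat_lit 90)])) (.leaf .df))) (.node (.node (.leaf .df) (.leaf .df)) (.node (.leaf (.cyc (nat_lit 76) [(nat_lit 437), (nat_lit 315), (nat_lit 196), (nat_lit 195), (nat_lit 765), (nat_lit 231), (nat_lit 118), (nat_lit 233), (nat_lit 353), (nat_lit 835), (nat_lit 478)])) (.leaf .df))))) (.node (.node (.node (.node (.leaf .df) (.leaf (.cyc (nat_lit 14) [(nat_lit 784), (nat_lit 1072), (nat_lit 3)]))) (.node (.leaf (.pin (nat_lit 36) [(nat_lit 571), (nat_lit 14), (nat_lit 29), (nat_lit 41), (nat_lit 42), (nat_lit 43),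 (nat_lit 63), (nat_lit 64)] [(nat_lit 588), (nat_lit 567)])) (.leaf .df))) (.node (.node (.leaf .df) (.leaf .df)) (.node (.leaf (.cyc (nat_lit 48) [(nat_lit 252), (nat_lit 251), (nat_lit 379)])) (.leaf .df)))) (.node (.node (.node (.leaf .df) (.leaf (.cyc (nat_lit 13) [(nat_lit 299), (nat_lit 1212), (nat_lit 28)]))) (.node (.leaf (.cyc (nat_lit 23) [(nat_lit 82), (nat_lit 37), (nat_lit 38), (nat_lit 683), (nat_lit 160)])) (.leaf .df))) (.node (.node (.leaf .df) (.leaf .df)) (.node (.leaf (.cyc (nat_lit 41) [(nat_lit 449), (nat_lit 325), (nat_lit 324), (nat_lit 447), (nat_lit 542)])) (.leaf .df)))))) (.node (.node (.node (.node (.node (.leaf .df) (.leaf (.cyc (nat_lit 13) [(nat_lit 364), (nat_lit 1051), (nat_lit 13)]))) (.node (.leaf (.pin (nat_lit 4) [] [])) (.leaf .df))) (.node (.node (.leaf .df) (.leaf .df)) (.node (.leaf (.cyc (nat_lit 29) [(nat_lit 271), (nat_lit 724), (nat_lit 85), (nat_lit 199), (nat_lit 318)])) (.leaf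 .df)))) (.node (.node (.node (.leaf .df) (.leaf (.cyc (nat_lit 11) [(nat_lit 1179), (nat_lit 714), (nat_lit 1202), (nat_lit 621)]))) (.node (.leaf (.cyc (nat_lit 45) [(nat_lit 599), (nat_lit 611), (nat_lit 603), (nat_lit 604), (nat_lit 613), (nat_lit 687), (nat_lit 607), (nat_lit 674), (nat_lit 602), (nat_lit 678), (nat_lit 648)])) (.leaf .df))) (.node (.node (.leaf .df) (.leaf .df)) (.node (.leaf (.cyc (nat_lit 2) [(nat_lit 946), (nat_lit 514), (nat_lit 512)])) (.leaf .df))))) (.node (.node (.node (.node (.leaf .df) (.leaf (.cyc (nat_lit 91) [(nat_lit 1112), (nat_lit 1096)]))) (.node (.leaf (.cyc (nat_lit 16) [(nat_lit 97), (nat_lit 626), (nat_lit 568), (nat_lit 582), (nat_lit 28)])) (.leaf .df))) (.node (.node (.leaf .df) (.leaf .df)) (.node (.leaf (.cyc (nat_lit 58) [(nat_lit 409), (nat_lit 290), (nat_lit 739), (nat_lit 302), (nat_lit 420)])) (.leaf .df)))) (.node (.node (.node (.leaf .df) (.leaf (.cyc (nat_lit 91) [(nat_lit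 1265), (nat_lit 1254)]))) (.node (.leaf (.cyc (nat_lit 33) [(nat_lit 149), (nat_lit 662), (nat_lit 27), (nat_lit 627), (nat_lit 213)])) (.leaf .df))) (.node (.node (.leaf .df) (.leaf .df)) (.node (.leaf (.cyc (nat_lit 11) [(nat_lit 958), (nat_lit 1006), (nat_lit 790)])) (.leaf .df))))))))
noncomputable def kTP1101 : BT Pf := (.node (.node (.node (.node (.node (.node (.node (.leaf .df) (.leaf (.cyc (nat_lit 13) [(nat_lit 846), (nat_lit 1022), (nat_lit 605)]))) (.node (.leaf .df) (.leaf .df))) (.node (.node (.leaf .df) (.leaf .df)) (.node (.leaf (.cyc (nat_lit 23) [(nat_lit 167), (nat_lit 49), (nat_lit 28), (nat_lit 147), (nat_lit 263)])) (.leaf .df)))) (.node (.node (.node (.leaf .df) (.leaf (.cyc (nat_lit 14) [(nat_lit 262), (nat_lit 1162), (nat_lit 10)]))) (.node (.leaf (.cyc (nat_lit 29) [(nat_lit 602), (nat_lit 593), (nat_lit 8), (nat_lit 649), (nat_lit 603)])) (.leaf .df))) (.node (.node (.leaf .df) (.leaf .df)) (.node (.leaf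 (.cyc (nat_lit 57) [(nat_lit 335), (nat_lit 215), (nat_lit 214), (nat_lit 334), (nat_lit 458)])) (.leaf .df))))) (.node (.node (.node (.node (.leaf .df) (.leaf (.cyc (nat_lit 12) [(nat_lit 841), (nat_lit 1068), (nat_lit 723)]))) (.node (.leaf (.pin (nat_lit 28) [(nat_lit 573), (nat_lit 15), (nat_lit 21), (nat_lit 22), (nat_lit 40)] [(nat_lit 7), (nat_lit 566)])) (.leaf .df))) (.node (.node (.leaf .df) (.leaf .df)) (.node (.leaf (.cyc (nat_lit 18) [(nat_lit 248), (nat_lit 246), (nat_lit 368)])) (.leaf .df)))) (.node (.node (.node (.leaf .df) (.leaf (.cyc (nat_lit 13) [(nat_lit 551), (nat_lit 1198), (nat_lit 29)]))) (.node (.leaf (.cyc (nat_lit 53) [(nat_lit 156), (nat_lit 155), (nat_lit 713), (nat_lit 155), (nat_lit 156)])) (.leaf .df))) (.node (.node (.leaf .df) (.leaf .df)) (.node (.leaf (.cyc (nat_lit 77) [(nat_lit 445), (nat_lit 821), (nat_lit 321), (nat_lit 202), (nat_lit 86), (nat_lit 85), (nat_lit 84), (nat_lit 195), (nat_lit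 314), (nat_lit 435), (nat_lit 533)])) (.leaf .df)))))) (.node (.node (.node (.node (.node (.leaf .df) (.leaf (.cyc (nat_lit 15) [(nat_lit 248), (nat_lit 1064), (nat_lit 582)]))) (.node (.leaf .df) (.leaf .df))) (.node (.node (.leaf .df) (.leaf .df)) (.node (.leaf (.cyc (nat_lit 46) [(nat_lit 243), (nat_lit 130), (nat_lit 710), (nat_lit 741), (nat_lit 304)])) (.leaf .df)))) (.node (.node (.node (.leaf .df) (.leaf (.cyc (nat_lit 13) [(nat_lit 82), (nat_lit 1145)]))) (.node (.leaf (.cyc (nat_lit 40) [(nat_lit 59), (nat_lit 680), (nat_lit 63)])) (.leaf .df))) (.node (.node (.leaf .df) (.leaf .df)) (.node (.leaf (.cyc (nat_lit 41) [(nat_lit 506), (nat_lit 384), (nat_lit 776), (nat_lit 387), (nat_lit 509)])) (.leaf .df))))) (.node (.node (.node (.node (.leaf .df) (.leaf (.cyc (nat_lit 14) [(nat_lit 645), (nat_lit 1089), (nat_lit 6)]))) (.node (.leaf (.cyc (nat_lit 2) [(nat_lit 105), (nat_lit 20), (nat_lit 16)])) (.leaf .df))) (.node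 (.node (.leaf .df) (.leaf .df)) (.node (.leaf (.cyc (nat_lit 73) [(nat_lit 310), (nat_lit 193), (nat_lit 79), (nat_lit 78), (nat_lit 77), (nat_lit 664), (nat_lit 69), (nat_lit 181), (nat_lit 298), (nat_lit 809), (nat_lit 759), (nat_lit 802), (nat_lit 805), (nat_lit 806), (nat_lit 289), (nat_lit 290), (nat_lit 408)])) (.leaf .df)))) (.node (.node (.node (.leaf .df) (.leaf (.cyc (nat_lit 91) [(nat_lit 1255), (nat_lit 1243)]))) (.node (.leaf (.cyc (nat_lit 40) [(nat_lit 199), (nat_lit 86), (nat_lit 201)])) (.leaf .df))) (.node (.node (.leaf .df) (.leaf .df)) (.node (.leaf (.cyc (nat_lit 90) [(nat_lit 952), (nat_lit 951), (nat_lit 502), (nat_lit 853), (nat_lit 256), (nat_lit 257), (nat_lit 384), (nat_lit 505), (nat_lit 1002), (nat_lit 505), (nat_lit 384), (nat_lit 257), (nat_lit 256), (nat_lit 853), (nat_lit 502), (nat_lit 951), (nat_lit 952), (nat_lit 519)])) (.leaf .df))))))) (.node (.node (.node (.node (.node (.node (.leaf .df)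 (.leaf (.cyc (nat_lit 12) [(nat_lit 840), (nat_lit 1034), (nat_lit 12)]))) (.node (.leaf .df) (.leaf .df))) (.node (.node (.leaf .df) (.leaf .df)) (.node (.leaf (.cyc (nat_lit 54) [(nat_lit 192), (nat_lit 729), (nat_lit 276)])) (.leaf .df)))) (.node (.node (.node (.leaf .df) (.leaf (.cyc (nat_lit 14) [(nat_lit 261), (nat_lit 1126), (nat_lit 115)]))) (.node (.leaf (.cyc (nat_lit 12) [(nat_lit 584), (nat_lit 665)])) (.leaf .df))) (.node (.node (.leaf .df) (.leaf .df)) (.node (.leaf (.cyc (nat_lit 40) [(nat_lit 374), (nat_lit 840), (nat_lit 488)])) (.leaf .df))))) (.node (.node (.node (.node (.leaf .df) (.leaf (.cyc (nat_lit 11) [(nat_lit 1091), (nat_lit 970), (nat_lit 1080), (nat_lit 5)]))) (.node (.leaf (.pin (nat_lit 44) [(nat_lit 14), (nat_lit 20), (nat_lit 105), (nat_lit 106), (nat_lit 107), (nat_lit 108), (nat_lit 109), (nat_lit 110), (nat_lit 111), (nat_lit 112)] [(nat_lit 594), (nat_lit 5), (nat_lit 566)])) (.leaf .df)))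 (.node (.node (.leaf .df) (.leaf .df)) (.node (.leaf (.cyc (nat_lit 48) [(nat_lit 289), (nat_lit 790), (nat_lit 396)])) (.leaf .df)))) (.node (.node (.node (.leaf .df) (.leaf (.cyc (nat_lit 14) [(nat_lit 457), (nat_lit 1225), (nat_lit 27)]))) (.node (.leaf (.cyc (nat_lit 33) [(nat_lit 103), (nat_lit 104), (nat_lit 602), (nat_lit 60), (nat_lit 171)])) (.leaf .df))) (.node (.node (.leaf .df) (.leaf .df)) (.node (.leaf (.cyc (nat_lit 19) [(nat_lit 461), (nat_lit 336), (nat_lit 335), (nat_lit 459), (nat_lit 548)])) (.leaf .df)))))) (.node (.node (.node (.node (.node (.leaf .df) (.leaf (.cyc (nat_lit 13) [(nat_lit 452), (nat_lit 1057), (nat_lit 901)]))) (.node (.leaf (.pin (nat_lit 12) [] [])) (.leaf .df))) (.node (.node (.leaf .df) (.leaf .df)) (.node (.leaf (.cyc (nat_lit 51) [(nat_lit 274), (nat_lit 727), (nat_lit 99), (nat_lit 215), (nat_lit 336)])) (.leaf .df)))) (.node (.node (.node (.leaf .df) (.leaf (.cyc (nat_lit 13) [(nat_lit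 181), (nat_lit 1205), (nat_lit 1195)]))) (.node (.leaf (.cyc (nat_lit 28) [(nat_lit 677), (nat_lit 652), (nat_lit 616)])) (.leaf .df))) (.node (.node (.leaf .df) (.leaf .df)) (.node (.leaf (.cyc (nat_lit 49) [(nat_lit 430), (nat_lit 875), (nat_lit 520)])) (.leaf .df))))) (.node (.node (.node (.node (.leaf .df) (.leaf (.cyc (nat_lit 14) [(nat_lit 988), (nat_lit 1102), (nat_lit 550)]))) (.node (.leaf (.cyc (nat_lit 12) [(nat_lit 34), (nat_lit 634), (nat_lit 610)])) (.leaf .df))) (.node (.node (.leaf .df) (.leaf .df)) (.node (.leaf (.cyc (nat_lit 49) [(nat_lit 379), (nat_lit 815), (nat_lit 432)])) (.leaf .df)))) (.node (.node (.node (.leaf .df) (.leaf .df)) (.node (.leaf (.cyc (nat_lit 48) [(nat_lit 118), (nat_lit 117), (nat_lit 230)])) (.leaf .df))) (.node (.node (.leaf .df) (.leaf .df)) (.node (.leaf (.cyc (nat_lit 14) [(nat_lit 959), (nat_lit 1011), (nat_lit 270)])) (.leaf .df))))))))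
noncomputable def kTP110 : BT Pf := .node kTP1100 kTP1101
noncomputable def kTP1110 : BT Pf := (.node (.node (.node (.node (.node (.node (.node (.leaf .df) (.leaf (.cyc (nat_lit 15) [(nat_lit 928), (nat_lit 1019), (nat_lit 721)]))) (.node (.leaf .df) (.leaf .df))) (.node (.node (.leaf .df) (.leaf .df)) (.node (.leaf (.cyc (nat_lit 7) [(nat_lit 248), (nat_lit 133), (nat_lit 250)])) (.leaf .df)))) (.node (.node (.node (.leaf .df) (.leaf (.cyc (nat_lit 13) [(nat_lit 1158), (nat_lit 447), (nat_lit 1110), (nat_lit 569)]))) (.node (.leaf (.cyc (nat_lit 2) [(nat_lit 596), (nat_lit 12), (nat_lit 11)])) (.leaf .df))) (.node (.node (.leaf .df) (.leaf .df)) (.node (.leaf (.cyc (nat_lit 7) [(nat_lit 326), (nat_lit 324), (nat_lit 448)])) (.leaf .df))))) (.node (.node (.node (.node (.leaf .df) (.leaf (.cyc (nat_lit 15) [(nat_lit 368), (nat_lit 1065), (nat_lit 33)]))) (.node (.leaf (.pin (nat_lit 24) [(nat_lit 14), (nat_lit 29), (nat_lit 30),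 (nat_lit 31), (nat_lit 32), (nat_lit 33)] [(nat_lit 565)])) (.leaf .df))) (.node (.node (.leaf .df) (.leaf .df)) (.node (.leaf (.cyc (nat_lit 51) [(nat_lit 247), (nat_lit 132), (nat_lit 131), (nat_lit 243), (nat_lit 362)])) (.leaf .df)))) (.node (.node (.node (.leaf .df) (.leaf (.cyc (nat_lit 14) [(nat_lit 1196), (nat_lit 991), (nat_lit 1188)]))) (.node (.leaf (.cyc (nat_lit 29) [(nat_lit 149), (nat_lit 30), (nat_lit 661), (nat_lit 39), (nat_lit 155)])) (.leaf .df))) (.node (.node (.leaf .df) (.leaf .df)) (.node (.leaf (.cyc (nat_lit 77) [(nat_lit 526), (nat_lit 422), (nat_lit 304), (nat_lit 758), (nat_lit 812), (nat_lit 305), (nat_lit 306), (nat_lit 425), (nat_lit 529), (nat_lit 965), (nat_lit 530)])) (.leaf .df)))))) (.node (.node (.node (.node (.node (.leaf .df) (.leaf (.cyc (nat_lit 13) [(nat_lit 933), (nat_lit 1044), (nat_lit 53)]))) (.node (.leaf .df) (.leaf .df))) (.node (.node (.leaf .df) (.leaf .df)) (.node (.leaf (.cyc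 (nat_lit 23) [(nat_lit 290), (nat_lit 289), (nat_lit 806), (nat_lit 289), (nat_lit 290)])) (.leaf .df)))) (.node (.node (.node (.leaf .df) (.leaf (.cyc (nat_lit 12) [(nat_lit 1170), (nat_lit 490), (nat_lit 1138), (nat_lit 594), (nat_lit 1186)]))) (.node (.leaf (.cyc (nat_lit 40) [(nat_lit 595), (nat_lit 678), (nat_lit 593)])) (.leaf .df))) (.node (.node (.leaf .df) (.leaf .df)) (.node (.leaf (.cyc (nat_lit 80) [(nat_lit 481), (nat_lit 356), (nat_lit 788), (nat_lit 269), (nat_lit 156), (nat_lit 61), (nat_lit 650), (nat_lit 157), (nat_lit 735), (nat_lit 178), (nat_lit 179), (nat_lit 293), (nat_lit 808), (nat_lit 382), (nat_lit 504), (nat_lit 934), (nat_lit 507)])) (.leaf .df))))) (.node (.node (.node (.node (.leaf .df) (.leaf (.cyc (nat_lit 14) [(nat_lit 166), (nat_lit 1087), (nat_lit 661)]))) (.node (.leaf (.cyc (nat_lit 7) [(nat_lit 136), (nat_lit 614), (nat_lit 136)])) (.leaf .df))) (.node (.node (.leaf .df) (.leaf .df)) (.node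 (.leaf (.cyc (nat_lit 66) [(nat_lit 321), (nat_lit 202), (nat_lit 87), (nat_lit 88), (nat_lit 600), (nat_lit 673), (nat_lit 631), (nat_lit 60), (nat_lit 172), (nat_lit 286), (nat_lit 869)])) (.leaf .df)))) (.node (.node (.node (.leaf .df) (.leaf (.cyc (nat_lit 15) [(nat_lit 1251), (nat_lit 503), (nat_lit 1239), (nat_lit 582)]))) (.node (.leaf (.cyc (nat_lit 7) [(nat_lit 729), (nat_lit 79), (nat_lit 191)])) (.leaf .df))) (.node (.node (.leaf .df) (.leaf .df)) (.node (.leaf (.cyc (nat_lit 53) [(nat_lit 554), (nat_lit 469), (nat_lit 831), (nat_lit 475), (nat_lit 558)])) (.leaf .df))))))) (.node (.node (.node (.node (.node (.node (.leaf .df) (.leaf (.cyc (nat_lit 13) [(nat_lit 982), (nat_lit 1031), (nat_lit 161)]))) (.node (.leaf .df) (.leaf .df))) (.node (.node (.leaf .df) (.leaf .df)) (.node (.leaf (.cyc (nat_lit 48) [(nat_lit 197), (nat_lit 724), (nat_lit 272)])) (.leaf .df)))) (.node (.node (.node (.leaf .df) (.leaf (.cyc (nat_lit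 14) [(nat_lit 260), (nat_lit 1122), (nat_lit 583)]))) (.node (.leaf (.cyc (nat_lit 36) [(nat_lit 53), (nat_lit 653), (nat_lit 42), (nat_lit 67), (nat_lit 660), (nat_lit 75), (nat_lit 53), (nat_lit 20), (nat_lit 29), (nat_lit 661), (nat_lit 579), (nat_lit 3), (nat_lit 560), (nat_lit 4), (nat_lit 567), (nat_lit 562), (nat_lit 578)])) (.leaf .df))) (.node (.node (.leaf .df) (.leaf .df)) (.node (.leaf (.cyc (nat_lit 77) [(nat_lit 449), (nat_lit 825), (nat_lit 328), (nat_lit 207), (nat_lit 93), (nat_lit 94), (nat_lit 95), (nat_lit 212), (nat_lit 332), (nat_lit 837), (nat_lit 483)])) (.leaf .df))))) (.node (.node (.node (.node (.leaf .df) (.leaf (.cyc (nat_lit 15) [(nat_lit 1099), (nat_lit 365), (nat_lit 1075), (nat_lit 581)]))) (.node (.leaf (.pin (nat_lit 40) [(nat_lit 14), (nat_lit 20), (nat_lit 53), (nat_lit 75), (nat_lit 76), (nat_lit 77), (nat_lit 78), (nat_lit 79), (nat_lit 80), (nat_lit 81)] [(nat_lit 590), (nat_lit 568), (nat_lit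 0)])) (.leaf .df))) (.node (.node (.leaf .df) (.leaf .df)) (.node (.leaf (.cyc (nat_lit 17) [(nat_lit 323), (nat_lit 748), (nat_lit 142), (nat_lit 259), (nat_lit 387)])) (.leaf .df)))) (.node (.node (.node (.leaf .df) (.leaf (.cyc (nat_lit 14) [(nat_lit 941), (nat_lit 1219), (nat_lit 1176)]))) (.node (.leaf (.cyc (nat_lit 55) [(nat_lit 726), (nat_lit 623), (nat_lit 625), (nat_lit 97), (nat_lit 98)])) (.leaf .df))) (.node (.node (.leaf .df) (.leaf .df)) (.node (.leaf (.cyc (nat_lit 33) [(nat_lit 917), (nat_lit 538), (nat_lit 981), (nat_lit 980), (nat_lit 545)])) (.leaf .df)))))) (.node (.node (.node (.node (.node (.leaf .df) (.leaf (.cyc (nat_lit 91) [(nat_lit 1072), (nat_lit 1054)]))) (.node (.leaf (.pin (nat_lit 8) [(nat_lit 4)] [])) (.leaf .df))) (.node (.node (.leaf .df) (.leaf .df)) (.node (.leaf (.cyc (nat_lit 18) [(nat_lit 245), (nat_lit 749), (nat_lit 326)])) (.leaf .df)))) (.node (.node (.node (.leaf .df) (.leaf (.cyc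 (nat_lit 91) [(nat_lit 1194), (nat_lit 1173)]))) (.node (.leaf (.cyc (nat_lit 18) [(nat_lit 582), (nat_lit 694), (nat_lit 33)])) (.leaf .df))) (.node (.node (.leaf .df) (.leaf .df)) (.node (.leaf (.cyc (nat_lit 19) [(nat_lit 502), (nat_lit 853), (nat_lit 383), (nat_lit 861), (nat_lit 517)])) (.leaf .df))))) (.node (.node (.node (.node (.leaf .df) (.leaf (.cyc (nat_lit 11) [(nat_lit 1141), (nat_lit 902), (nat_lit 1142), (nat_lit 621)]))) (.node (.leaf (.cyc (nat_lit 20) [(nat_lit 593), (nat_lit 569), (nat_lit 629), (nat_lit 13), (nat_lit 596)])) (.leaf .df))) (.node (.node (.leaf .df) (.leaf .df)) (.node (.leaf (.cyc (nat_lit 7) [(nat_lit 311), (nat_lit 813), (nat_lit 426)])) (.leaf .df)))) (.node (.node (.node (.leaf .df) (.leaf .df)) (.node (.leaf (.cyc (nat_lit 60) [(nat_lit 185), (nat_lit 72), (nat_lit 677), (nat_lit 103), (nat_lit 220)])) (.leaf .df))) (.node (.node (.leaf .df) (.leaf .df)) (.node (.leaf (.cyc (nat_lit 15)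 [(nat_lit 955), (nat_lit 1008), (nat_lit 426)])) (.leaf .df))))))))
noncomputable def kTP1111 : BT Pf := (.node (.node (.node (.node (.node (.node (.node (.leaf .df) (.leaf (.cyc (nat_lit 14) [(nat_lit 838), (nat_lit 1026), (nat_lit 240)]))) (.node (.leaf .df) (.leaf .df))) (.node (.node (.leaf .df) (.leaf .df)) (.node (.leaf (.cyc (nat_lit 49) [(nat_lit 756), (nat_lit 755), (nat_lit 265)])) (.leaf .df)))) (.node (.node (.node (.leaf .df) (.leaf (.cyc (nat_lit 11) [(nat_lit 1147), (nat_lit 990), (nat_lit 1117), (nat_lit 571)]))) (.node (.leaf (.cyc (nat_lit 32) [(nat_lit 37), (nat_lit 654), (nat_lit 653)])) (.leaf .df))) (.node (.node (.leaf .df) (.leaf .df)) (.node (.leaf (.cyc (nat_lit 41) [(nat_lit 406), (nat_lit 287), (nat_lit 760), (nat_lit 346), (nat_lit 471)])) (.leaf .df))))) (.node (.node (.node (.node (.leaf .df) (.leaf (.cyc (nat_lit 11) [(nat_lit 711), (nat_lit 1071), (nat_lit 9)]))) (.node (.leaf (.pin (nat_lit 32)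 [(nat_lit 573), (nat_lit 14), (nat_lit 29), (nat_lit 30), (nat_lit 31), (nat_lit 32), (nat_lit 51), (nat_lit 52)] [(nat_lit 583), (nat_lit 565)])) (.leaf .df))) (.node (.node (.leaf .df) (.leaf .df)) (.node (.leaf (.cyc (nat_lit 67) [(nat_lit 303), (nat_lit 187), (nat_lit 598), (nat_lit 691), (nat_lit 599), (nat_lit 606), (nat_lit 136), (nat_lit 135), (nat_lit 134), (nat_lit 249), (nat_lit 376)])) (.leaf .df)))) (.node (.node (.node (.leaf .df) (.leaf (.cyc (nat_lit 15) [(nat_lit 294), (nat_lit 1206), (nat_lit 658)]))) (.node (.leaf (.cyc (nat_lit 23) [(nat_lit 90), (nat_lit 89), (nat_lit 22), (nat_lit 40), (nat_lit 158)])) (.leaf .df))) (.node (.node (.leaf .df) (.leaf .df)) (.node (.leaf (.cyc (nat_lit 58) [(nat_lit 536), (nat_lit 439), (nat_lit 820), (nat_lit 441), (nat_lit 538)])) (.leaf .df)))))) (.node (.node (.node (.node (.node (.leaf .df) (.leaf (.cyc (nat_lit 11) [(nat_lit 1055), (nat_lit 946), (nat_lit 1049), (nat_lit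 9)]))) (.node (.leaf (.pin (nat_lit 0) [] [])) (.leaf .df))) (.node (.node (.leaf .df) (.leaf .df)) (.node (.leaf (.cyc (nat_lit 54) [(nat_lit 251), (nat_lit 745), (nat_lit 312)])) (.leaf .df)))) (.node (.node (.node (.leaf .df) (.leaf (.cyc (nat_lit 11) [(nat_lit 553), (nat_lit 1148)]))) (.node (.leaf (.cyc (nat_lit 2) [(nat_lit 686), (nat_lit 681), (nat_lit 685)])) (.leaf .df))) (.node (.node (.leaf .df) (.leaf .df)) (.node (.leaf (.cyc (nat_lit 57) [(nat_lit 889), (nat_lit 394), (nat_lit 786), (nat_lit 391), (nat_lit 512)])) (.leaf .df))))) (.node (.node (.node (.node (.leaf .df) (.leaf (.cyc (nat_lit 15) [(nat_lit 953), (nat_lit 1093), (nat_lit 523)]))) (.node (.leaf (.cyc (nat_lit 13) [(nat_lit 106), (nat_lit 620)])) (.leaf .df))) (.node (.node (.leaf .df) (.leaf .df)) (.node (.leaf (.cyc (nat_lit 18) [(nat_lit 875), (nat_lit 873), (nat_lit 413)])) (.leaf .df)))) (.node (.node (.node (.leaf .df) (.leaf (.cyc (nat_lit 14)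 [(nat_lit 1257), (nat_lit 467), (nat_lit 1262), (nat_lit 1176)]))) (.node (.leaf (.cyc (nat_lit 57) [(nat_lit 700), (nat_lit 90), (nat_lit 91), (nat_lit 92), (nat_lit 206)])) (.leaf .df))) (.node (.node (.leaf .df) (.leaf .df)) (.node (.leaf (.cyc (nat_lit 11) [(nat_lit 873), (nat_lit 1005), (nat_lit 890)])) (.leaf .df))))))) (.node (.node (.node (.node (.node (.node (.leaf .df) (.leaf (.cyc (nat_lit 12) [(nat_lit 947), (nat_lit 1037), (nat_lit 268)]))) (.node (.leaf .df) (.leaf .df))) (.node (.node (.leaf .df) (.leaf .df)) (.node (.leaf (.cyc (nat_lit 52) [(nat_lit 798), (nat_lit 276), (nat_lit 166), (nat_lit 167), (nat_lit 279), (nat_lit 797), (nat_lit 279), (nat_lit 167), (nat_lit 166), (nat_lit 276), (nat_lit 798)])) (.leaf .df)))) (.node (.node (.node (.leaf .df) (.leaf (.cyc (nat_lit 91) [(nat_lit 1182), (nat_lit 1128)]))) (.node (.leaf (.cyc (nat_lit 15) [(nat_lit 58), (nat_lit 666)])) (.leaf .df))) (.node (.node (.leaf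 .df) (.leaf .df)) (.node (.leaf (.cyc (nat_lit 17) [(nat_lit 921), (nat_lit 486), (nat_lit 839), (nat_lit 371), (nat_lit 493)])) (.leaf .df))))) (.node (.node (.node (.node (.leaf .df) (.leaf (.cyc (nat_lit 14) [(nat_lit 919), (nat_lit 1084), (nat_lit 94)]))) (.node (.leaf (.pin (nat_lit 48) [(nat_lit 14), (nat_lit 29), (nat_lit 41), (nat_lit 67), (nat_lit 137), (nat_lit 138), (nat_lit 139), (nat_lit 140), (nat_lit 141), (nat_lit 142), (nat_lit 143), (nat_lit 144)] [(nat_lit 600), (nat_lit 591), (nat_lit 583), (nat_lit 565)])) (.leaf .df))) (.node (.node (.leaf .df) (.leaf .df)) (.node (.leaf (.cyc (nat_lit 48) [(nat_lit 292), (nat_lit 794), (nat_lit 401)])) (.leaf .df)))) (.node (.node (.node (.leaf .df) (.leaf (.cyc (nat_lit 14) [(nat_lit 1223), (nat_lit 1229)]))) (.node (.leaf (.cyc (nat_lit 48) [(nat_lit 716), (nat_lit 68), (nat_lit 178)])) (.leaf .df))) (.node (.node (.leaf .df) (.leaf .df)) (.node (.leaf (.cyc (nat_lit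 19) [(nat_lit 466), (nat_lit 341), (nat_lit 828), (nat_lit 462), (nat_lit 552)])) (.leaf .df)))))) (.node (.node (.node (.node (.node (.leaf .df) (.leaf (.cyc (nat_lit 12) [(nat_lit 41), (nat_lit 1059), (nat_lit 49)]))) (.node (.leaf (.pin (nat_lit 16) [(nat_lit 15)] [])) (.leaf .df))) (.node (.node (.leaf .df) (.leaf .df)) (.node (.leaf (.cyc (nat_lit 41) [(nat_lit 345), (nat_lit 224), (nat_lit 110), (nat_lit 226), (nat_lit 349)])) (.leaf .df)))) (.node (.node (.node (.leaf .df) (.leaf (.cyc (nat_lit 14) [(nat_lit 856), (nat_lit 1207), (nat_lit 597)]))) (.node (.leaf (.cyc (nat_lit 48) [(nat_lit 41), (nat_lit 30), (nat_lit 150)])) (.leaf .df))) (.node (.node (.leaf .df) (.leaf .df)) (.node (.leaf (.cyc (nat_lit 27) [(nat_lit 958), (nat_lit 929), (nat_lit 930), (nat_lit 495), (nat_lit 494)])) (.leaf .df))))) (.node (.node (.node (.node (.leaf .df) (.leaf (.cyc (nat_lit 12) [(nat_lit 61), (nat_lit 1104), (nat_lit 647)]))) (.node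 (.leaf (.cyc (nat_lit 12) [(nat_lit 610), (nat_lit 635)])) (.leaf .df))) (.node (.node (.leaf .df) (.leaf .df)) (.node (.leaf (.cyc (nat_lit 75) [(nat_lit 441), (nat_lit 319), (nat_lit 200), (nat_lit 85), (nat_lit 84), (nat_lit 83), (nat_lit 82), (nat_lit 36), (nat_lit 658), (nat_lit 588), (nat_lit 684), (nat_lit 649), (nat_lit 604), (nat_lit 613), (nat_lit 120), (nat_lit 234), (nat_lit 354)])) (.leaf .df)))) (.node (.node (.node (.leaf .df) (.leaf .df)) (.node (.leaf (.cyc (nat_lit 48) [(nat_lit 147), (nat_lit 608), (nat_lit 235)])) (.leaf .df))) (.node (.node (.leaf .df) (.leaf .df)) (.node (.leaf (.cyc (nat_lit 14) [(nat_lit 848), (nat_lit 1013), (nat_lit 186)])) (.leaf .df))))))))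
noncomputable def kTP111 : BT Pf := .node kTP1110 kTP1111
noncomputable def kTP11 : BT Pf := .node kTP110 kTP111
noncomputable def kTP1 : BT Pf := .node kTP10 kTP11
noncomputable def kTP : BT Pf := .node kTP0 kTP1
noncomputable def kTR : BT (List ℕ × ℕ × List ℕ) := (.node (.node (.node (.node (.node (.node (.node (.leaf ([(nat_lit 0), (nat_lit 1), (nat_lit 0), (nat_lit 1), (nat_lit 0), (nat_lit 1)], (nat_lit 0), [])) (.leaf ([(nat_lit 3), (nat_lit 2), (nat_lit 0), (nat_lit 1), (nat_lit 0), (nat_lit 2), (nat_lit 3), (nat_lit 2), (nat_lit 0), (nat_lit 1), (nat_lit 0), (nat_lit 2), (nat_lit 3), (nat_lit 2), (nat_lit 0), (nat_lit 1), (nat_lit 0), (nat_lit 2)], (nat_lit 9), [(nat_lit 0), (nat_lit 2)]))) (.node (.leaf ([(nat_lit 4), (nat_lit 2), (nat_lit 4), (nat_lit 2)], (nat_lit 12), [(nat_lit 2), (nat_lit 4), (nat_lit 2)])) (.leaf ([], (nat_lit 1000000), [])))) (.node (.node (.leaf ([(nat_lit 4), (nat_lit 3), (nat_lit 4), (nat_lit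 3), (nat_lit 4), (nat_lit 3)], (nat_lit 15), [(nat_lit 4), (nat_lit 3), (nat_lit 4), (nat_lit 3)])) (.leaf ([(nat_lit 2), (nat_lit 0), (nat_lit 1), (nat_lit 0), (nat_lit 2), (nat_lit 3), (nat_lit 2), (nat_lit 0), (nat_lit 1), (nat_lit 0), (nat_lit 2), (nat_lit 3), (nat_lit 2), (nat_lit 0), (nat_lit 1), (nat_lit 0), (nat_lit 2), (nat_lit 3)], (nat_lit 9), [(nat_lit 0), (nat_lit 2), (nat_lit 3)]))) (.node (.leaf ([(nat_lit 0), (nat_lit 2), (nat_lit 0), (nat_lit 2)], (nat_lit 2), [(nat_lit 2)])) (.leaf ([], (nat_lit 1000000), []))))) (.node (.node (.node (.leaf ([(nat_lit 1), (nat_lit 2), (nat_lit 1), (nat_lit 2), (nat_lit 1), (nat_lit 2)], (nat_lit 1), [(nat_lit 1), (nat_lit 2), (nat_lit 1), (nat_lit 2)])) (.leaf ([(nat_lit 0), (nat_lit 1), (nat_lit 3), (nat_lit 1), (nat_lit 0), (nat_lit 1), (nat_lit 3), (nat_lit 1), (nat_lit 0), (nat_lit 1), (nat_lit 3), (nat_lit 1)], (nat_lit 7), [(nat_lit 1), (nat_lit 3), (nat_lit 1), (nat_lit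 0), (nat_lit 1), (nat_lit 3), (nat_lit 1), (nat_lit 0), (nat_lit 1), (nat_lit 3), (nat_lit 1)]))) (.node (.leaf ([(nat_lit 2), (nat_lit 0), (nat_lit 2), (nat_lit 0)], (nat_lit 2), [(nat_lit 2), (nat_lit 0)])) (.leaf ([], (nat_lit 1000000), [])))) (.node (.node (.leaf ([(nat_lit 3), (nat_lit 4), (nat_lit 3), (nat_lit 4), (nat_lit 3), (nat_lit 4)], (nat_lit 15), [(nat_lit 4), (nat_lit 3), (nat_lit 4), (nat_lit 3), (nat_lit 4)])) (.leaf ([(nat_lit 0), (nat_lit 1), (nat_lit 3), (nat_lit 2), (nat_lit 1), (nat_lit 4), (nat_lit 1), (nat_lit 2), (nat_lit 3), (nat_lit 1), (nat_lit 0), (nat_lit 1), (nat_lit 3), (nat_lit 2), (nat_lit 1), (nat_lit 4), (nat_lit 1), (nat_lit 2), (nat_lit 3), (nat_lit 1), (nat_lit 0), (nat_lit 1), (nat_lit 3), (nat_lit 2), (nat_lit 1), (nat_lit 4), (nat_lit 1), (nat_lit 2), (nat_lit 3), (nat_lit 1)], (nat_lit 39), [(nat_lit 1), (nat_lit 3), (nat_lit 2), (nat_lit 1), (nat_lit 4), (nat_lit 1), (nat_lit 2), (nat_lit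 3), (nat_lit 1), (nat_lit 0), (nat_lit 1), (nat_lit 3), (nat_lit 2), (nat_lit 1), (nat_lit 4), (nat_lit 1), (nat_lit 2), (nat_lit 3), (nat_lit 1), (nat_lit 0), (nat_lit 1), (nat_lit 3), (nat_lit 2), (nat_lit 1), (nat_lit 4), (nat_lit 1), (nat_lit 2), (nat_lit 3), (nat_lit 1)]))) (.node (.leaf ([(nat_lit 1), (nat_lit 4), (nat_lit 1), (nat_lit 4), (nat_lit 1), (nat_lit 4)], (nat_lit 14), [(nat_lit 4)])) (.leaf ([], (nat_lit 1000000), [])))))) (.node (.node (.node (.node (.leaf ([(nat_lit 3), (nat_lit 1), (nat_lit 2), (nat_lit 1), (nat_lit 3), (nat_lit 1), (nat_lit 2), (nat_lit 1), (nat_lit 3), (nat_lit 1), (nat_lit 2), (nat_lit 1)], (nat_lit 8), [(nat_lit 1)])) (.leaf ([(nat_lit 1), (nat_lit 3), (nat_lit 1), (nat_lit 3), (nat_lit 1), (nat_lit 3)], (nat_lit 5), [(nat_lit 3), (nat_lit 1), (nat_lit 3), (nat_lit 1), (nat_lit 3)]))) (.node (.leaf ([(nat_lit 1), (nat_lit 3), (nat_lit 2), (nat_lit 3), (nat_lit 1), (nat_lit 4), (nat_lit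 1), (nat_lit 3), (nat_lit 2), (nat_lit 3), (nat_lit 1), (nat_lit 4), (nat_lit 1), (nat_lit 3), (nat_lit 2), (nat_lit 3), (nat_lit 1), (nat_lit 4)], (nat_lit 28), [(nat_lit 3), (nat_lit 1), (nat_lit 4), (nat_lit 1), (nat_lit 3), (nat_lit 2), (nat_lit 3), (nat_lit 1), (nat_lit 4)])) (.leaf ([], (nat_lit 1000000), [])))) (.node (.node (.leaf ([(nat_lit 3), (nat_lit 0), (nat_lit 3), (nat_lit 0), (nat_lit 3), (nat_lit 0)], (nat_lit 4), [(nat_lit 3), (nat_lit 0), (nat_lit 3), (nat_lit 0)])) (.leaf ([(nat_lit 1), (nat_lit 3), (nat_lit 4), (nat_lit 3), (nat_lit 1), (nat_lit 3), (nat_lit 4), (nat_lit 3), (nat_lit 1), (nat_lit 3), (nat_lit 4), (nat_lit 3)], (nat_lit 19), [(nat_lit 3), (nat_lit 4), (nat_lit 3), (nat_lit 1), (nat_lit 3), (nat_lit 4), (nat_lit 3), (nat_lit 1), (nat_lit 3), (nat_lit 4), (nat_lit 3)]))) (.node (.leaf ([(nat_lit 3), (nat_lit 1), (nat_lit 0), (nat_lit 1), (nat_lit 3), (nat_lit 1), (nat_lit 0), (nat_lit 1), (nat_lit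 3), (nat_lit 1), (nat_lit 0), (nat_lit 1)], (nat_lit 7), [(nat_lit 1)])) (.leaf ([], (nat_lit 1000000), []))))) (.node (.node (.node (.leaf ([(nat_lit 2), (nat_lit 2)], (nat_lit 1000000), [])) (.leaf ([(nat_lit 1), (nat_lit 3), (nat_lit 1), (nat_lit 2), (nat_lit 1), (nat_lit 3), (nat_lit 1), (nat_lit 2), (nat_lit 1), (nat_lit 3), (nat_lit 1), (nat_lit 2)], (nat_lit 8), [(nat_lit 1), (nat_lit 3), (nat_lit 1), (nat_lit 2)]))) (.node (.leaf ([(nat_lit 3), (nat_lit 2), (nat_lit 3), (nat_lit 2), (nat_lit 3), (nat_lit 2)], (nat_lit 6), [(nat_lit 3), (nat_lit 2), (nat_lit 3), (nat_lit 2)])) (.leaf ([], (nat_lit 1000000), [])))) (.node (.node (.leaf ([(nat_lit 0), (nat_lit 2), (nat_lit 0), (nat_lit 2)], (nat_lit 2), [(nat_lit 2), (nat_lit 0), (nat_lit 2)])) (.leaf ([], (nat_lit 1000000), []))) (.node (.leaf ([(nat_lit 1), (nat_lit 2), (nat_lit 1), (nat_lit 2), (nat_lit 1), (nat_lit 2)], (nat_lit 1), [(nat_lit 1), (nat_lit 2)])) (.leaf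 ([], (nat_lit 1000000), []))))))) (.node (.node (.node (.node (.node (.leaf ([(nat_lit 2), (nat_lit 0), (nat_lit 2), (nat_lit 0)], (nat_lit 2), [])) (.leaf ([(nat_lit 4), (nat_lit 3), (nat_lit 1), (nat_lit 3), (nat_lit 4), (nat_lit 3), (nat_lit 1), (nat_lit 3), (nat_lit 4), (nat_lit 3), (nat_lit 1), (nat_lit 3)], (nat_lit 19), [(nat_lit 3)]))) (.node (.leaf ([(nat_lit 1), (nat_lit 2), (nat_lit 4), (nat_lit 2), (nat_lit 1), (nat_lit 2), (nat_lit 4), (nat_lit 2), (nat_lit 1), (nat_lit 2), (nat_lit 4), (nat_lit 2)], (nat_lit 18), [(nat_lit 2), (nat_lit 4), (nat_lit 2)])) (.leaf ([], (nat_lit 1000000), [])))) (.node (.node (.leaf ([(nat_lit 0), (nat_lit 4), (nat_lit 0), (nat_lit 4)], (nat_lit 10), [(nat_lit 0), (nat_lit 4)])) (.leaf ([(nat_lit 0), (nat_lit 2), (nat_lit 3), (nat_lit 2), (nat_lit 0), (nat_lit 1), (nat_lit 0), (nat_lit 2), (nat_lit 3), (nat_lit 2), (nat_lit 0), (nat_lit 1), (nat_lit 0), (nat_lit 2), (nat_lit 3), (nat_lit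 2), (nat_lit 0), (nat_lit 1)], (nat_lit 9), []))) (.node (.leaf ([(nat_lit 2), (nat_lit 1), (nat_lit 2), (nat_lit 1), (nat_lit 2), (nat_lit 1)], (nat_lit 1), [(nat_lit 1)])) (.leaf ([], (nat_lit 1000000), []))))) (.node (.node (.node (.leaf ([(nat_lit 4), (nat_lit 2), (nat_lit 1), (nat_lit 2), (nat_lit 4), (nat_lit 2), (nat_lit 1), (nat_lit 2), (nat_lit 4), (nat_lit 2), (nat_lit 1), (nat_lit 2)], (nat_lit 18), [(nat_lit 2)])) (.leaf ([(nat_lit 1), (nat_lit 3), (nat_lit 2), (nat_lit 3), (nat_lit 1), (nat_lit 4), (nat_lit 1), (nat_lit 3), (nat_lit 2), (nat_lit 3), (nat_lit 1), (nat_lit 4), (nat_lit 1), (nat_lit 3), (nat_lit 2), (nat_lit 3), (nat_lit 1), (nat_lit 4)], (nat_lit 28), [(nat_lit 3), (nat_lit 1), (nat_lit 4)]))) (.node (.leaf ([(nat_lit 0), (nat_lit 3), (nat_lit 0), (nat_lit 3), (nat_lit 0), (nat_lit 3)], (nat_lit 4), [(nat_lit 3), (nat_lit 0), (nat_lit 3)])) (.leaf ([], (nat_lit 1000000), [])))) (.node (.node (.leaf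 ([(nat_lit 1), (nat_lit 2), (nat_lit 3), (nat_lit 4), (nat_lit 3), (nat_lit 2), (nat_lit 1), (nat_lit 2), (nat_lit 3), (nat_lit 4), (nat_lit 3), (nat_lit 2), (nat_lit 1), (nat_lit 2), (nat_lit 3), (nat_lit 4), (nat_lit 3), (nat_lit 2)], (nat_lit 25), [(nat_lit 2), (nat_lit 3), (nat_lit 4), (nat_lit 3), (nat_lit 2)])) (.leaf ([(nat_lit 3), (nat_lit 1), (nat_lit 0), (nat_lit 1), (nat_lit 3), (nat_lit 4), (nat_lit 3), (nat_lit 1), (nat_lit 0), (nat_lit 1), (nat_lit 3), (nat_lit 4), (nat_lit 3), (nat_lit 1), (nat_lit 0), (nat_lit 1), (nat_lit 3), (nat_lit 4)], (nat_lit 22), [(nat_lit 1), (nat_lit 3), (nat_lit 4), (nat_lit 3), (nat_lit 1), (nat_lit 0), (nat_lit 1), (nat_lit 3), (nat_lit 4), (nat_lit 3), (nat_lit 1), (nat_lit 0), (nat_lit 1), (nat_lit 3), (nat_lit 4)]))) (.node (.leaf ([(nat_lit 3), (nat_lit 4), (nat_lit 3), (nat_lit 4), (nat_lit 3), (nat_lit 4)], (nat_lit 15), [(nat_lit 4)])) (.leaf ([], (nat_lit 1000000), []))))))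 (.node (.node (.node (.node (.leaf ([(nat_lit 2), (nat_lit 3), (nat_lit 2), (nat_lit 3), (nat_lit 2), (nat_lit 3)], (nat_lit 6), [(nat_lit 3), (nat_lit 2), (nat_lit 3)])) (.leaf ([(nat_lit 2), (nat_lit 1), (nat_lit 3), (nat_lit 1), (nat_lit 2), (nat_lit 1), (nat_lit 3), (nat_lit 1), (nat_lit 2), (nat_lit 1), (nat_lit 3), (nat_lit 1)], (nat_lit 8), [(nat_lit 1), (nat_lit 3), (nat_lit 1), (nat_lit 2), (nat_lit 1), (nat_lit 3), (nat_lit 1), (nat_lit 2), (nat_lit 1), (nat_lit 3), (nat_lit 1)]))) (.node (.leaf ([(nat_lit 3), (nat_lit 1), (nat_lit 3), (nat_lit 1), (nat_lit 3), (nat_lit 1)], (nat_lit 5), [(nat_lit 3), (nat_lit 1), (nat_lit 3), (nat_lit 1)])) (.leaf ([], (nat_lit 1000000), [])))) (.node (.node (.leaf ([(nat_lit 1), (nat_lit 4), (nat_lit 1), (nat_lit 4), (nat_lit 1), (nat_lit 4)], (nat_lit 14), [(nat_lit 4), (nat_lit 1), (nat_lit 4), (nat_lit 1), (nat_lit 4)])) (.leaf ([(nat_lit 1), (nat_lit 3), (nat_lit 0), (nat_lit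 3), (nat_lit 1), (nat_lit 4), (nat_lit 1), (nat_lit 3), (nat_lit 0), (nat_lit 3), (nat_lit 1), (nat_lit 4), (nat_lit 1), (nat_lit 3), (nat_lit 0), (nat_lit 3), (nat_lit 1), (nat_lit 4)], (nat_lit 23), [(nat_lit 3), (nat_lit 1), (nat_lit 4)]))) (.node (.leaf ([(nat_lit 4), (nat_lit 0), (nat_lit 4), (nat_lit 0)], (nat_lit 10), [(nat_lit 0)])) (.leaf ([], (nat_lit 1000000), []))))) (.node (.node (.node (.leaf ([(nat_lit 1), (nat_lit 1)], (nat_lit 1000000), [])) (.leaf ([(nat_lit 3), (nat_lit 2), (nat_lit 1), (nat_lit 2), (nat_lit 3), (nat_lit 4), (nat_lit 3), (nat_lit 2), (nat_lit 1), (nat_lit 2), (nat_lit 3), (nat_lit 4), (nat_lit 3), (nat_lit 2), (nat_lit 1), (nat_lit 2), (nat_lit 3), (nat_lit 4)], (nat_lit 25), [(nat_lit 2), (nat_lit 3), (nat_lit 4)]))) (.node (.leaf ([(nat_lit 0), (nat_lit 3), (nat_lit 0), (nat_lit 3), (nat_lit 0), (nat_lit 3)], (nat_lit 4), [(nat_lit 3)])) (.leaf ([], (nat_lit 1000000), [])))) (.node (.node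 (.leaf ([(nat_lit 2), (nat_lit 3), (nat_lit 2), (nat_lit 3), (nat_lit 2), (nat_lit 3)], (nat_lit 6), [(nat_lit 3), (nat_lit 2), (nat_lit 3), (nat_lit 2), (nat_lit 3)])) (.leaf ([], (nat_lit 1000000), []))) (.node (.leaf ([(nat_lit 3), (nat_lit 4), (nat_lit 3), (nat_lit 2), (nat_lit 0), (nat_lit 3), (nat_lit 1), (nat_lit 3), (nat_lit 0), (nat_lit 2), (nat_lit 3), (nat_lit 4), (nat_lit 3), (nat_lit 2), (nat_lit 0), (nat_lit 3), (nat_lit 1), (nat_lit 3), (nat_lit 0), (nat_lit 2), (nat_lit 3), (nat_lit 4), (nat_lit 3), (nat_lit 2), (nat_lit 0), (nat_lit 3), (nat_lit 1), (nat_lit 3), (nat_lit 0), (nat_lit 2)], (nat_lit 44), [(nat_lit 3), (nat_lit 0), (nat_lit 2), (nat_lit 3), (nat_lit 4), (nat_lit 3), (nat_lit 2), (nat_lit 0), (nat_lit 3), (nat_lit 1), (nat_lit 3), (nat_lit 0), (nat_lit 2), (nat_lit 3), (nat_lit 4), (nat_lit 3), (nat_lit 2), (nat_lit 0), (nat_lit 3), (nat_lit 1), (nat_lit 3), (nat_lit 0), (nat_lit 2)])) (.leaf ([],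 (nat_lit 1000000), [])))))))) (.node (.node (.node (.node (.node (.node (.leaf ([(nat_lit 4), (nat_lit 3), (nat_lit 0), (nat_lit 3), (nat_lit 4), (nat_lit 3), (nat_lit 0), (nat_lit 3), (nat_lit 4), (nat_lit 3), (nat_lit 0), (nat_lit 3)], (nat_lit 17), [(nat_lit 3)])) (.leaf ([(nat_lit 4), (nat_lit 1), (nat_lit 0), (nat_lit 1), (nat_lit 4), (nat_lit 1), (nat_lit 0), (nat_lit 1), (nat_lit 4), (nat_lit 1), (nat_lit 0), (nat_lit 1)], (nat_lit 16), [(nat_lit 1)]))) (.node (.leaf ([(nat_lit 4), (nat_lit 1), (nat_lit 4), (nat_lit 1), (nat_lit 4), (nat_lit 1)], (nat_lit 14), [(nat_lit 4), (nat_lit 1)])) (.leaf ([], (nat_lit 1000000), [])))) (.node (.node (.leaf ([(nat_lit 4), (nat_lit 3), (nat_lit 4), (nat_lit 3), (nat_lit 4), (nat_lit 3)], (nat_lit 15), [(nat_lit 4), (nat_lit 3)])) (.leaf ([(nat_lit 1), (nat_lit 4), (nat_lit 1), (nat_lit 3), (nat_lit 2), (nat_lit 3), (nat_lit 1), (nat_lit 4), (nat_lit 1), (nat_lit 3), (nat_lit 2), (nat_lit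 3), (nat_lit 1), (nat_lit 4), (nat_lit 1), (nat_lit 3), (nat_lit 2), (nat_lit 3)], (nat_lit 28), [(nat_lit 3)]))) (.node (.leaf ([(nat_lit 4), (nat_lit 2), (nat_lit 4), (nat_lit 2)], (nat_lit 12), [(nat_lit 2)])) (.leaf ([], (nat_lit 1000000), []))))) (.node (.node (.node (.leaf ([(nat_lit 0), (nat_lit 3), (nat_lit 0), (nat_lit 3), (nat_lit 0), (nat_lit 3)], (nat_lit 4), [(nat_lit 3), (nat_lit 0), (nat_lit 3), (nat_lit 0), (nat_lit 3)])) (.leaf ([(nat_lit 4), (nat_lit 1), (nat_lit 3), (nat_lit 2), (nat_lit 3), (nat_lit 1), (nat_lit 4), (nat_lit 1), (nat_lit 3), (nat_lit 2), (nat_lit 3), (nat_lit 1), (nat_lit 4), (nat_lit 1), (nat_lit 3), (nat_lit 2), (nat_lit 3), (nat_lit 1)], (nat_lit 28), [(nat_lit 3), (nat_lit 1)]))) (.node (.leaf ([(nat_lit 3), (nat_lit 2), (nat_lit 3), (nat_lit 2), (nat_lit 3), (nat_lit 2)], (nat_lit 6), [(nat_lit 3), (nat_lit 2)])) (.leaf ([], (nat_lit 1000000), [])))) (.node (.node (.leaf ([(nat_lit 4),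 (nat_lit 3), (nat_lit 2), (nat_lit 3), (nat_lit 4), (nat_lit 3), (nat_lit 2), (nat_lit 3), (nat_lit 4), (nat_lit 3), (nat_lit 2), (nat_lit 3)], (nat_lit 20), [(nat_lit 3)])) (.leaf ([(nat_lit 0), (nat_lit 1), (nat_lit 2), (nat_lit 3), (nat_lit 4), (nat_lit 3), (nat_lit 2), (nat_lit 1), (nat_lit 0), (nat_lit 1), (nat_lit 2), (nat_lit 3), (nat_lit 4), (nat_lit 3), (nat_lit 2), (nat_lit 1), (nat_lit 0), (nat_lit 1), (nat_lit 2), (nat_lit 3), (nat_lit 4), (nat_lit 3), (nat_lit 2), (nat_lit 1)], (nat_lit 29), [(nat_lit 1), (nat_lit 2), (nat_lit 3), (nat_lit 4), (nat_lit 3), (nat_lit 2), (nat_lit 1), (nat_lit 0), (nat_lit 1), (nat_lit 2), (nat_lit 3), (nat_lit 4), (nat_lit 3), (nat_lit 2), (nat_lit 1), (nat_lit 0), (nat_lit 1), (nat_lit 2), (nat_lit 3), (nat_lit 4), (nat_lit 3), (nat_lit 2), (nat_lit 1)]))) (.node (.leaf ([(nat_lit 3), (nat_lit 0), (nat_lit 3), (nat_lit 0), (nat_lit 3), (nat_lit 0)], (nat_lit 4), [(nat_lit 3), (nat_lit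 0)])) (.leaf ([], (nat_lit 1000000), [])))))) (.node (.node (.node (.node (.leaf ([(nat_lit 1), (nat_lit 3), (nat_lit 1), (nat_lit 3), (nat_lit 1), (nat_lit 3)], (nat_lit 5), [(nat_lit 3), (nat_lit 1), (nat_lit 3)])) (.leaf ([(nat_lit 1), (nat_lit 0), (nat_lit 1), (nat_lit 3), (nat_lit 1), (nat_lit 0), (nat_lit 1), (nat_lit 3), (nat_lit 1), (nat_lit 0), (nat_lit 1), (nat_lit 3)], (nat_lit 7), [(nat_lit 1), (nat_lit 3)]))) (.node (.leaf ([(nat_lit 4), (nat_lit 0), (nat_lit 1), (nat_lit 3), (nat_lit 2), (nat_lit 3), (nat_lit 1), (nat_lit 0), (nat_lit 4), (nat_lit 0), (nat_lit 1), (nat_lit 3), (nat_lit 2), (nat_lit 3), (nat_lit 1), (nat_lit 0), (nat_lit 4), (nat_lit 0), (nat_lit 1), (nat_lit 3), (nat_lit 2), (nat_lit 3), (nat_lit 1), (nat_lit 0)], (nat_lit 35), [(nat_lit 3), (nat_lit 1), (nat_lit 0), (nat_lit 4), (nat_lit 0), (nat_lit 1), (nat_lit 3), (nat_lit 2), (nat_lit 3), (nat_lit 1), (nat_lit 0), (nat_lit 4), (nat_lit 0),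 (nat_lit 1), (nat_lit 3), (nat_lit 2), (nat_lit 3), (nat_lit 1), (nat_lit 0)])) (.leaf ([], (nat_lit 1000000), [])))) (.node (.node (.leaf ([(nat_lit 4), (nat_lit 0), (nat_lit 4), (nat_lit 0)], (nat_lit 10), [(nat_lit 0), (nat_lit 4), (nat_lit 0)])) (.leaf ([(nat_lit 3), (nat_lit 1), (nat_lit 4), (nat_lit 1), (nat_lit 3), (nat_lit 2), (nat_lit 3), (nat_lit 1), (nat_lit 4), (nat_lit 1), (nat_lit 3), (nat_lit 2), (nat_lit 3), (nat_lit 1), (nat_lit 4), (nat_lit 1), (nat_lit 3), (nat_lit 2)], (nat_lit 28), []))) (.node (.leaf ([(nat_lit 1), (nat_lit 3), (nat_lit 1), (nat_lit 3), (nat_lit 1), (nat_lit 3)], (nat_lit 5), [(nat_lit 3)])) (.leaf ([], (nat_lit 1000000), []))))) (.node (.node (.node (.leaf ([(nat_lit 3), (nat_lit 3)], (nat_lit 1000000), [])) (.leaf ([(nat_lit 1), (nat_lit 2), (nat_lit 1), (nat_lit 3), (nat_lit 1), (nat_lit 2), (nat_lit 1), (nat_lit 3), (nat_lit 1), (nat_lit 2), (nat_lit 1), (nat_lit 3)], (nat_lit 8), [(nat_lit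 1), (nat_lit 3)]))) (.node (.leaf ([(nat_lit 3), (nat_lit 1), (nat_lit 2), (nat_lit 1), (nat_lit 3), (nat_lit 1), (nat_lit 2), (nat_lit 1), (nat_lit 3), (nat_lit 1), (nat_lit 2), (nat_lit 1)], (nat_lit 8), [(nat_lit 1), (nat_lit 3), (nat_lit 1), (nat_lit 2), (nat_lit 1), (nat_lit 3), (nat_lit 1), (nat_lit 2), (nat_lit 1)])) (.leaf ([], (nat_lit 1000000), [])))) (.node (.node (.leaf ([(nat_lit 0), (nat_lit 1), (nat_lit 0), (nat_lit 1), (nat_lit 0), (nat_lit 1)], (nat_lit 0), [(nat_lit 0), (nat_lit 1)])) (.leaf ([], (nat_lit 1000000), []))) (.node (.leaf ([(nat_lit 3), (nat_lit 0), (nat_lit 3), (nat_lit 0), (nat_lit 3), (nat_lit 0)], (nat_lit 4), [])) (.leaf ([], (nat_lit 1000000), []))))))) (.node (.node (.node (.node (.node (.leaf ([(nat_lit 2), (nat_lit 1), (nat_lit 2), (nat_lit 1), (nat_lit 2), (nat_lit 1)], (nat_lit 1), [(nat_lit 1), (nat_lit 2), (nat_lit 1), (nat_lit 2), (nat_lit 1)])) (.leaf ([(nat_lit 3), (nat_lit 1), (nat_lit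 3), (nat_lit 4), (nat_lit 3), (nat_lit 1), (nat_lit 3), (nat_lit 4), (nat_lit 3), (nat_lit 1), (nat_lit 3), (nat_lit 4)], (nat_lit 19), [(nat_lit 3), (nat_lit 4)]))) (.node (.leaf ([(nat_lit 4), (nat_lit 0), (nat_lit 3), (nat_lit 1), (nat_lit 3), (nat_lit 0), (nat_lit 4), (nat_lit 0), (nat_lit 3), (nat_lit 1), (nat_lit 3), (nat_lit 0), (nat_lit 4), (nat_lit 0), (nat_lit 3), (nat_lit 1), (nat_lit 3), (nat_lit 0)], (nat_lit 26), [(nat_lit 3), (nat_lit 0), (nat_lit 4), (nat_lit 0), (nat_lit 3), (nat_lit 1), (nat_lit 3), (nat_lit 0)])) (.leaf ([], (nat_lit 1000000), [])))) (.node (.node (.leaf ([(nat_lit 1), (nat_lit 0), (nat_lit 1), (nat_lit 0), (nat_lit 1), (nat_lit 0)], (nat_lit 0), [(nat_lit 0)])) (.leaf ([(nat_lit 3), (nat_lit 2), (nat_lit 1), (nat_lit 4), (nat_lit 1), (nat_lit 2), (nat_lit 3), (nat_lit 1), (nat_lit 0), (nat_lit 1), (nat_lit 3), (nat_lit 2), (nat_lit 1), (nat_lit 4), (nat_lit 1), (nat_lit 2), (nat_lit 3), (nat_lit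 1), (nat_lit 0), (nat_lit 1), (nat_lit 3), (nat_lit 2), (nat_lit 1), (nat_lit 4), (nat_lit 1), (nat_lit 2), (nat_lit 3), (nat_lit 1), (nat_lit 0), (nat_lit 1)], (nat_lit 39), [(nat_lit 1)]))) (.node (.leaf ([(nat_lit 3), (nat_lit 1), (nat_lit 3), (nat_lit 1), (nat_lit 3), (nat_lit 1)], (nat_lit 5), [(nat_lit 3), (nat_lit 1)])) (.leaf ([], (nat_lit 1000000), []))))) (.node (.node (.node (.leaf ([(nat_lit 0), (nat_lit 0)], (nat_lit 1000000), [])) (.leaf ([(nat_lit 0), (nat_lit 3), (nat_lit 1), (nat_lit 4), (nat_lit 1), (nat_lit 3), (nat_lit 0), (nat_lit 3), (nat_lit 1), (nat_lit 4), (nat_lit 1), (nat_lit 3), (nat_lit 0), (nat_lit 3), (nat_lit 1), (nat_lit 4), (nat_lit 1), (nat_lit 3)], (nat_lit 23), [(nat_lit 3), (nat_lit 1), (nat_lit 4), (nat_lit 1), (nat_lit 3), (nat_lit 0), (nat_lit 3), (nat_lit 1), (nat_lit 4), (nat_lit 1), (nat_lit 3), (nat_lit 0), (nat_lit 3), (nat_lit 1), (nat_lit 4), (nat_lit 1), (nat_lit 3)]))) (.node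 (.leaf ([(nat_lit 0), (nat_lit 1), (nat_lit 3), (nat_lit 1), (nat_lit 0), (nat_lit 1), (nat_lit 3), (nat_lit 1), (nat_lit 0), (nat_lit 1), (nat_lit 3), (nat_lit 1)], (nat_lit 7), [(nat_lit 1), (nat_lit 3), (nat_lit 1), (nat_lit 0), (nat_lit 1), (nat_lit 3), (nat_lit 1)])) (.leaf ([], (nat_lit 1000000), [])))) (.node (.node (.leaf ([(nat_lit 1), (nat_lit 0), (nat_lit 1), (nat_lit 0), (nat_lit 1), (nat_lit 0)], (nat_lit 0), [(nat_lit 0), (nat_lit 1), (nat_lit 0), (nat_lit 1), (nat_lit 0)])) (.leaf ([], (nat_lit 1000000), []))) (.node (.leaf ([(nat_lit 1), (nat_lit 0), (nat_lit 1), (nat_lit 4), (nat_lit 1), (nat_lit 0), (nat_lit 1), (nat_lit 4), (nat_lit 1), (nat_lit 0), (nat_lit 1), (nat_lit 4)], (nat_lit 16), [(nat_lit 1), (nat_lit 4)])) (.leaf ([], (nat_lit 1000000), [])))))) (.node (.node (.node (.node (.leaf ([(nat_lit 2), (nat_lit 4), (nat_lit 2), (nat_lit 4)], (nat_lit 12), [(nat_lit 2), (nat_lit 4)])) (.leaf ([(nat_lit 4),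 (nat_lit 1), (nat_lit 3), (nat_lit 0), (nat_lit 3), (nat_lit 1), (nat_lit 4), (nat_lit 1), (nat_lit 3), (nat_lit 0), (nat_lit 3), (nat_lit 1), (nat_lit 4), (nat_lit 1), (nat_lit 3), (nat_lit 0), (nat_lit 3), (nat_lit 1)], (nat_lit 23), [(nat_lit 3), (nat_lit 1)]))) (.node (.leaf ([(nat_lit 2), (nat_lit 1), (nat_lit 3), (nat_lit 1), (nat_lit 2), (nat_lit 1), (nat_lit 3), (nat_lit 1), (nat_lit 2), (nat_lit 1), (nat_lit 3), (nat_lit 1)], (nat_lit 8), [(nat_lit 1), (nat_lit 3), (nat_lit 1)])) (.leaf ([], (nat_lit 1000000), [])))) (.node (.node (.leaf ([(nat_lit 2), (nat_lit 3), (nat_lit 2), (nat_lit 3), (nat_lit 2), (nat_lit 3)], (nat_lit 6), [(nat_lit 3)])) (.leaf ([(nat_lit 0), (nat_lit 4), (nat_lit 0), (nat_lit 4)], (nat_lit 10), []))) (.node (.leaf ([(nat_lit 3), (nat_lit 2), (nat_lit 3), (nat_lit 2), (nat_lit 3), (nat_lit 2)], (nat_lit 6), [])) (.leaf ([], (nat_lit 1000000), []))))) (.node (.node (.node (.leaf ([(nat_lit 4),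 (nat_lit 4)], (nat_lit 1000000), [])) (.leaf ([(nat_lit 0), (nat_lit 1), (nat_lit 3), (nat_lit 4), (nat_lit 3), (nat_lit 1), (nat_lit 0), (nat_lit 1), (nat_lit 3), (nat_lit 4), (nat_lit 3), (nat_lit 1), (nat_lit 0), (nat_lit 1), (nat_lit 3), (nat_lit 4), (nat_lit 3), (nat_lit 1)], (nat_lit 22), [(nat_lit 1), (nat_lit 3), (nat_lit 4), (nat_lit 3), (nat_lit 1), (nat_lit 0), (nat_lit 1), (nat_lit 3), (nat_lit 4), (nat_lit 3), (nat_lit 1), (nat_lit 0), (nat_lit 1), (nat_lit 3), (nat_lit 4), (nat_lit 3), (nat_lit 1)]))) (.node (.leaf ([(nat_lit 0), (nat_lit 1), (nat_lit 0), (nat_lit 2), (nat_lit 3), (nat_lit 2), (nat_lit 0), (nat_lit 1), (nat_lit 0), (nat_lit 2), (nat_lit 3), (nat_lit 2), (nat_lit 0), (nat_lit 1), (nat_lit 0), (nat_lit 2), (nat_lit 3), (nat_lit 2)], (nat_lit 9), [(nat_lit 0), (nat_lit 2), (nat_lit 3), (nat_lit 2)])) (.leaf ([], (nat_lit 1000000), [])))) (.node (.node (.leaf ([(nat_lit 4), (nat_lit 3), (nat_lit 4),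 (nat_lit 3), (nat_lit 4), (nat_lit 3)], (nat_lit 15), [])) (.leaf ([], (nat_lit 1000000), []))) (.node (.leaf ([(nat_lit 1), (nat_lit 0), (nat_lit 2), (nat_lit 3), (nat_lit 2), (nat_lit 0), (nat_lit 1), (nat_lit 0), (nat_lit 2), (nat_lit 3), (nat_lit 2), (nat_lit 0), (nat_lit 1), (nat_lit 0), (nat_lit 2), (nat_lit 3), (nat_lit 2), (nat_lit 0)], (nat_lit 9), [(nat_lit 0), (nat_lit 2), (nat_lit 3), (nat_lit 2), (nat_lit 0), (nat_lit 1), (nat_lit 0), (nat_lit 2), (nat_lit 3), (nat_lit 2), (nat_lit 0), (nat_lit 1), (nat_lit 0), (nat_lit 2), (nat_lit 3), (nat_lit 2), (nat_lit 0)])) (.leaf ([], (nat_lit 1000000), [])))))))))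
noncomputable def kTQ : BT (ℕ × List ℕ × ℕ) := (.node (.node (.node (.node (.node (.node (.leaf ((nat_lit 2), [(nat_lit 2)], (nat_lit 2))) (.leaf ((nat_lit 4), [(nat_lit 2), (nat_lit 1), (nat_lit 3), (nat_lit 0), (nat_lit 3), (nat_lit 1), (nat_lit 2), (nat_lit 4), (nat_lit 2), (nat_lit 1), (nat_lit 3)], (nat_lit 0)))) (.node (.leaf ((nat_lit 4), [(nat_lit 3), (nat_lit 4)], (nat_lit 3))) (.leaf ((nat_lit 4), [(nat_lit 1), (nat_lit 3), (nat_lit 2), (nat_lit 1), (nat_lit 3), (nat_lit 0), (nat_lit 3), (nat_lit 1), (nat_lit 2), (nat_lit 3), (nat_lit 1), (nat_lit 4), (nat_lit 1), (nat_lit 3), (nat_lit 2), (nat_lit 1), (nat_lit 3)], (nat_lit 0))))) (.node (.node (.leaf ((nat_lit 3), [(nat_lit 2), (nat_lit 3)], (nat_lit 2))) (.leaf ((nat_lit 4), [(nat_lit 1), (nat_lit 2), (nat_lit 3), (nat_lit 1), (nat_lit 0), (nat_lit 1), (nat_lit 3), (nat_lit 2), (nat_lit 1), (nat_lit 4), (nat_lit 1), (nat_lit 2), (nat_lit 3), (nat_lit 1)], (nat_lit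 0)))) (.node (.leaf ((nat_lit 4), [(nat_lit 1), (nat_lit 3), (nat_lit 0), (nat_lit 3), (nat_lit 1), (nat_lit 4), (nat_lit 1), (nat_lit 3)], (nat_lit 0))) (.leaf ((nat_lit 0), [(nat_lit 0)], (nat_lit 0)))))) (.node (.node (.node (.leaf ((nat_lit 0), [(nat_lit 2)], (nat_lit 0))) (.leaf ((nat_lit 4), [(nat_lit 0), (nat_lit 1), (nat_lit 3), (nat_lit 2), (nat_lit 3), (nat_lit 1), (nat_lit 0), (nat_lit 4), (nat_lit 0), (nat_lit 1), (nat_lit 3)], (nat_lit 2)))) (.node (.leaf ((nat_lit 4), [(nat_lit 3), (nat_lit 1), (nat_lit 3), (nat_lit 4), (nat_lit 3)], (nat_lit 1))) (.leaf ((nat_lit 0), [(nat_lit 0)], (nat_lit 0))))) (.node (.node (.leaf ((nat_lit 4), [(nat_lit 0)], (nat_lit 4))) (.leaf ((nat_lit 4), [(nat_lit 1), (nat_lit 2), (nat_lit 0), (nat_lit 3), (nat_lit 1), (nat_lit 3), (nat_lit 0), (nat_lit 2), (nat_lit 1), (nat_lit 4), (nat_lit 1), (nat_lit 2), (nat_lit 0), (nat_lit 3)], (nat_lit 1)))) (.node (.leaf ((nat_lit 4), [(nat_lit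 2), (nat_lit 3), (nat_lit 1), (nat_lit 3), (nat_lit 2), (nat_lit 4), (nat_lit 2), (nat_lit 3)], (nat_lit 1))) (.leaf ((nat_lit 0), [(nat_lit 0)], (nat_lit 0))))))) (.node (.node (.node (.node (.leaf ((nat_lit 0), [(nat_lit 1), (nat_lit 0)], (nat_lit 1))) (.leaf ((nat_lit 4), [(nat_lit 0), (nat_lit 3), (nat_lit 2), (nat_lit 1), (nat_lit 2), (nat_lit 3), (nat_lit 0), (nat_lit 4), (nat_lit 0), (nat_lit 3), (nat_lit 2)], (nat_lit 1)))) (.node (.leaf ((nat_lit 4), [(nat_lit 3), (nat_lit 0), (nat_lit 3), (nat_lit 4), (nat_lit 3)], (nat_lit 0))) (.leaf ((nat_lit 0), [(nat_lit 0)], (nat_lit 0))))) (.node (.node (.leaf ((nat_lit 3), [(nat_lit 1), (nat_lit 2), (nat_lit 1), (nat_lit 3), (nat_lit 1)], (nat_lit 2))) (.leaf ((nat_lit 4), [(nat_lit 3), (nat_lit 1), (nat_lit 2), (nat_lit 3), (nat_lit 0), (nat_lit 3), (nat_lit 2), (nat_lit 1), (nat_lit 3), (nat_lit 4), (nat_lit 3), (nat_lit 1), (nat_lit 2), (nat_lit 3)], (nat_lit 0)))) (.node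 (.leaf ((nat_lit 4), [(nat_lit 3), (nat_lit 2), (nat_lit 1), (nat_lit 2), (nat_lit 3), (nat_lit 4), (nat_lit 3), (nat_lit 2)], (nat_lit 1))) (.leaf ((nat_lit 0), [(nat_lit 0)], (nat_lit 0)))))) (.node (.node (.node (.leaf ((nat_lit 3), [(nat_lit 0), (nat_lit 3)], (nat_lit 0))) (.leaf ((nat_lit 4), [(nat_lit 1), (nat_lit 3), (nat_lit 2), (nat_lit 1), (nat_lit 0), (nat_lit 1), (nat_lit 2), (nat_lit 3), (nat_lit 1), (nat_lit 4), (nat_lit 1), (nat_lit 3), (nat_lit 2), (nat_lit 1)], (nat_lit 0)))) (.node (.leaf ((nat_lit 4), [(nat_lit 2), (nat_lit 1), (nat_lit 0), (nat_lit 1), (nat_lit 2), (nat_lit 4), (nat_lit 2), (nat_lit 1)], (nat_lit 0))) (.leaf ((nat_lit 0), [(nat_lit 0)], (nat_lit 0))))) (.node (.node (.leaf ((nat_lit 4), [(nat_lit 2)], (nat_lit 4))) (.leaf ((nat_lit 4), [(nat_lit 3), (nat_lit 0), (nat_lit 1), (nat_lit 3), (nat_lit 2), (nat_lit 3), (nat_lit 1), (nat_lit 0), (nat_lit 3), (nat_lit 4), (nat_lit 3), (nat_lit 0),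 (nat_lit 1), (nat_lit 3)], (nat_lit 2)))) (.node (.leaf ((nat_lit 4), [(nat_lit 3), (nat_lit 2), (nat_lit 1), (nat_lit 0), (nat_lit 1), (nat_lit 2), (nat_lit 3), (nat_lit 4), (nat_lit 3), (nat_lit 2), (nat_lit 1)], (nat_lit 0))) (.leaf ((nat_lit 0), [(nat_lit 0)], (nat_lit 0)))))))) (.node (.node (.node (.node (.node (.leaf ((nat_lit 3), [(nat_lit 3)], (nat_lit 3))) (.leaf ((nat_lit 4), [(nat_lit 1), (nat_lit 2), (nat_lit 3), (nat_lit 0), (nat_lit 3), (nat_lit 2), (nat_lit 1), (nat_lit 4), (nat_lit 1), (nat_lit 2), (nat_lit 3)], (nat_lit 0)))) (.node (.leaf ((nat_lit 4), [(nat_lit 1), (nat_lit 0), (nat_lit 1), (nat_lit 4), (nat_lit 1)], (nat_lit 0))) (.leaf ((nat_lit 0), [(nat_lit 0)], (nat_lit 0))))) (.node (.node (.leaf ((nat_lit 3), [(nat_lit 1), (nat_lit 0), (nat_lit 1), (nat_lit 3), (nat_lit 1)], (nat_lit 0))) (.leaf ((nat_lit 4), [(nat_lit 3), (nat_lit 2), (nat_lit 1), (nat_lit 3), (nat_lit 0), (nat_lit 3), (nat_lit 1),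 (nat_lit 2), (nat_lit 3), (nat_lit 4), (nat_lit 3), (nat_lit 2), (nat_lit 1), (nat_lit 3)], (nat_lit 0)))) (.node (.leaf ((nat_lit 4), [(nat_lit 2), (nat_lit 3), (nat_lit 0), (nat_lit 3), (nat_lit 2), (nat_lit 4), (nat_lit 2), (nat_lit 3)], (nat_lit 0))) (.leaf ((nat_lit 0), [(nat_lit 0)], (nat_lit 0)))))) (.node (.node (.node (.leaf ((nat_lit 2), [(nat_lit 0)], (nat_lit 2))) (.leaf ((nat_lit 4), [(nat_lit 0), (nat_lit 3), (nat_lit 2), (nat_lit 1), (nat_lit 0), (nat_lit 1), (nat_lit 2), (nat_lit 3), (nat_lit 0), (nat_lit 4), (nat_lit 0), (nat_lit 3), (nat_lit 2), (nat_lit 1)], (nat_lit 0)))) (.node (.leaf ((nat_lit 4), [(nat_lit 3), (nat_lit 2), (nat_lit 3), (nat_lit 4), (nat_lit 3)], (nat_lit 2))) (.leaf ((nat_lit 0), [(nat_lit 0)], (nat_lit 0))))) (.node (.node (.leaf ((nat_lit 0), [(nat_lit 4)], (nat_lit 0))) (.leaf ((nat_lit 4), [(nat_lit 3), (nat_lit 2), (nat_lit 0), (nat_lit 3), (nat_lit 1), (nat_lit 3), (nat_lit 0), (nat_lit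 2), (nat_lit 3), (nat_lit 4), (nat_lit 3), (nat_lit 2), (nat_lit 0), (nat_lit 3)], (nat_lit 1)))) (.node (.leaf ((nat_lit 4), [(nat_lit 1), (nat_lit 3), (nat_lit 2), (nat_lit 3), (nat_lit 1), (nat_lit 4), (nat_lit 1), (nat_lit 3)], (nat_lit 2))) (.leaf ((nat_lit 0), [(nat_lit 0)], (nat_lit 0))))))) (.node (.node (.node (.node (.leaf ((nat_lit 1), [(nat_lit 2), (nat_lit 1)], (nat_lit 2))) (.leaf ((nat_lit 4), [(nat_lit 2), (nat_lit 0), (nat_lit 3), (nat_lit 1), (nat_lit 3), (nat_lit 0), (nat_lit 2), (nat_lit 4), (nat_lit 2), (nat_lit 0), (nat_lit 3)], (nat_lit 1)))) (.node (.leaf ((nat_lit 4), [(nat_lit 2), (nat_lit 1), (nat_lit 2), (nat_lit 4), (nat_lit 2)], (nat_lit 1))) (.leaf ((nat_lit 0), [(nat_lit 0)], (nat_lit 0))))) (.node (.node (.leaf ((nat_lit 3), [(nat_lit 2), (nat_lit 0), (nat_lit 1), (nat_lit 0), (nat_lit 2), (nat_lit 3), (nat_lit 2), (nat_lit 0)], (nat_lit 1))) (.leaf ((nat_lit 4), [(nat_lit 1), (nat_lit 0), (nat_lit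 3), (nat_lit 2), (nat_lit 1), (nat_lit 2), (nat_lit 3), (nat_lit 0), (nat_lit 1), (nat_lit 4), (nat_lit 1), (nat_lit 0), (nat_lit 3), (nat_lit 2)], (nat_lit 1)))) (.node (.leaf ((nat_lit 4), [(nat_lit 0), (nat_lit 3), (nat_lit 1), (nat_lit 3), (nat_lit 0), (nat_lit 4), (nat_lit 0), (nat_lit 3)], (nat_lit 1))) (.leaf ((nat_lit 0), [(nat_lit 0)], (nat_lit 0)))))) (.node (.node (.node (.leaf ((nat_lit 3), [(nat_lit 1), (nat_lit 3)], (nat_lit 1))) (.leaf ((nat_lit 4), [(nat_lit 2), (nat_lit 3), (nat_lit 2), (nat_lit 1), (nat_lit 0), (nat_lit 1), (nat_lit 2), (nat_lit 3), (nat_lit 2), (nat_lit 4), (nat_lit 2), (nat_lit 3), (nat_lit 2), (nat_lit 1)], (nat_lit 0)))) (.node (.leaf ((nat_lit 4), [(nat_lit 3), (nat_lit 1), (nat_lit 0), (nat_lit 1), (nat_lit 3), (nat_lit 4), (nat_lit 3), (nat_lit 1)], (nat_lit 0))) (.leaf ((nat_lit 0), [(nat_lit 0)], (nat_lit 0))))) (.node (.node (.leaf ((nat_lit 2), [(nat_lit 4)], (nat_lit 2))) (.leaf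 ((nat_lit 4), [(nat_lit 3), (nat_lit 1), (nat_lit 2), (nat_lit 3), (nat_lit 1), (nat_lit 0), (nat_lit 1), (nat_lit 3), (nat_lit 2), (nat_lit 1), (nat_lit 3), (nat_lit 4), (nat_lit 3), (nat_lit 1), (nat_lit 2), (nat_lit 3), (nat_lit 1)], (nat_lit 0)))) (.node (.leaf ((nat_lit 4), [(nat_lit 2), (nat_lit 3), (nat_lit 1), (nat_lit 0), (nat_lit 1), (nat_lit 3), (nat_lit 2), (nat_lit 4), (nat_lit 2), (nat_lit 3), (nat_lit 1)], (nat_lit 0))) (.leaf ((nat_lit 0), [(nat_lit 0)], (nat_lit 0)))))))))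
noncomputable def kTC : Cert := ⟨(nat_lit 5), (nat_lit 1269), kTF, kTP, kTR, kTQ⟩
noncomputable def kTh : List (Ex × Ex) := [((.t (.g 0) (.g 1)), (.t (.g 1) (.g 0))), ((.t (.g 1) (.g 2)), (.t (.g 2) (.g 1))), ((.t (.g 0) (.g 2)), (.g 0)), ((.t (.g 2) (.g 0)), (.g 2)), ((.t (.g 3) (.g 0)), (.t (.g 0) (.g 3))), ((.t (.g 3) (.g 1)), (.t (.g 1) (.g 3))), ((.t (.g 3) (.g 2)), (.t (.g 2) (.g 3))), ((.t (.g 3) (.t (.g 0) (.g 1))), (.t (.t (.g 0) (.g 1)) (.g 3))), ((.t (.g 3) (.t (.g 2) (.g 1))), (.t (.t (.g 2) (.g 1)) (.g 3))), ((.t (.g 3) (.t (.t (.g 1) (.g 0)) (.g 2))), (.t (.t (.t (.g 1) (.g 0)) (.g 2)) (.g 3))), ((.t (.g 4) (.g 0)), (.g 4)), ((.t (.g 0) (.g 4)), (.g 0)), ((.t (.g 4) (.g 2)), (.g 4)), ((.t (.g 2) (.g 4)), (.g 2))]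
noncomputable def kTx : List Ex := [(.g 1), (.g 3), (.t (.g 0) (.g 1)), (.t (.g 0) (.g 3)), (.t (.g 1) (.g 2)), (.t (.g 1) (.g 3)), (.t (.g 2) (.g 3)), (.t (.t (.g 0) (.g 1)) (.g 2)), (.t (.t (.g 0) (.g 1)) (.g 3)), (.t (.t (.g 0) (.g 3)) (.g 1)), (.t (.t (.g 0) (.g 3)) (.g 2)), (.t (.t (.g 1) (.g 2)) (.g 3)), (.t (.t (.g 1) (.g 3)) (.g 0)), (.t (.t (.g 1) (.g 3)) (.g 2)), (.t (.t (.g 2) (.g 3)) (.g 1)), (.t (.t (.t (.g 0) (.g 1)) (.g 2)) (.g 3)), (.t (.t (.t (.g 0) (.g 1)) (.g 3)) (.g 2)), (.t (.t (.t (.g 0) (.g 3)) (.g 1)) (.g 2)), (.t (.t (.t (.g 0) (.g 3)) (.g 2)) (.g 1)), (.t (.t (.t (.g 1) (.g 2)) (.g 3)) (.g 0)), (.t (.t (.t (.g 1) (.g 3)) (.g 0)) (.g 2)), (.t (.t (.t (.g 2) (.g 3)) (.g 1)) (.g 0)), (.t (.t (.t (.t (.g 0) (.g 1)) (.g 2)) (.g 3)) (.g 0)), (.t (.t (.t (.t (.g 0) (.g 1)) (.g 2)) (.g 3)) (.g 1)), (.t (.t (.t (.t (.g 0) (.g 1)) (.g 2)) (.g 3)) (.g 2)), (.t (.t (.t (.t (.g 0) (.g 1)) (.g 3)) (.g 2)) (.g 1)),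 (.t (.t (.t (.t (.g 0) (.g 3)) (.g 1)) (.g 2)) (.g 3)), (.t (.t (.t (.t (.g 0) (.g 3)) (.g 2)) (.g 1)) (.g 3)), (.t (.t (.t (.t (.g 1) (.g 2)) (.g 3)) (.g 0)) (.g 1)), (.t (.t (.t (.t (.g 1) (.g 3)) (.g 0)) (.g 2)) (.g 1)), (.t (.t (.t (.t (.g 1) (.g 3)) (.g 0)) (.g 2)) (.g 3)), (.t (.t (.t (.t (.g 2) (.g 3)) (.g 1)) (.g 0)) (.g 3)), (.t (.t (.t (.t (.t (.g 0) (.g 1)) (.g 3)) (.g 2)) (.g 1)) (.g 3)), (.t (.t (.t (.t (.t (.g 0) (.g 3)) (.g 1)) (.g 2)) (.g 3)) (.g 1))]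
theorem kTk : kTC.full 5 (kTh ++ kTx.map fun x => (.t (.g (nat_lit 4)) x, .t x (.g (nat_lit 4)))) [(.g 0, .g 2)] [[(nat_lit 1268)]] = true := by decide +kernel
noncomputable def kGFt : BT Nat := (.node (.node (.node (.node (.node (.node (.leaf (nat_lit 0x20001200004840008c000248000440000e100021000070800100000f8c0007c0007880003c0003a30001d0001c08000e0000d880006c00068600034000321000190001800000c0000b840005c0005860002c0002a2000150001408000a000098c0004c00010600024000222000110001000000800007840003c0003800001c0001210000d0000c10000600004040002c00028000014000102000090000308000400001800001c0000c40000c0000210000500000)) (.leaf (nat_lit 0x1000b2000b384005700059c0002b2002ce400166001661000b3000b30400598005980002cc002cc400165001651000b2800b28400594005940002ca002ca300164001640800aa800b2100058c0058c4002c6002c6100163001630000b1800b19000588005884002c4002c4100162001620000b1000b11000584005844002c2002c2100161001610000b0800b08c00580005804002aa002c0100156001600000a8800b00c0057c0057c4002a4002be10014f0015f)))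 (.node (.leaf (nat_lit 0x408004090001ac002042001000010030007c000801000400004004001fc001a88000d2000fe00005b0007f10003e8002d0c001e0001f48000b2000fa1000590007b2000290003d88001c0001e80000a2000f44000770007900003c8003c90001e0001e00000ee000ee200055000760800268003b0000158001d84000ea000ea1000500007500003a8003a80001d0001d0800096000e610007300073000039800399000198001986000ce000ce00006b0006b)) (.leaf (nat_lit 0)))) (.node (.node (.leaf (nat_lit 0x800920007b840048c003d8200244001ea100121000f1180090000780c0047c003bc40023c001dc10011d000ee18008e000768c0046c003b0600234001d4100119000e810008c00072840045c0039420022c001c8000115000e218008a00070840044c0037c200224001bc300111000dd2000880006e080043c0037020021c001b800010d000dc1800860006c800042c00364600214001b0100109000d8200084000688c0041c0034440020c001a2300105000d0)) (.leaf (nat_lit 0))) (.node (.leaf (nat_lit 0x80080000800c003f8003f84001e8001fc4000ce000fe1800690007e88003f4003f48001fa001fa0000c5000fb1800698007d08003e8003e80001f4001f44000fa000fa18007c8007c880034c003e48001a4001f23000f5000f720005f0007b80002f4003dc600178001ec4000eb000f61000668007b10003d4003d4000170001ea0000f4000ee18005c8007a1000388003d02001e6001e64000f3000f30000610007988003c8003c80001e4001e44000f2000f2))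 (.leaf (nat_lit 0))))) (.node (.node (.node (.leaf (nat_lit 0x5200033100028c00194600144000ca2000a10006510005000032000027c0019060013c000c640009d0006218004e00031100026c00184600134000c22000990006118004c00030100025c0017c60012c000be2000950005f00004a0002f880024c00178200124000bc0000910005e1800480002e900023c0017020011c000b800008d0005c1000460002d840022c0016c600114000b4400089000581000440002c000021c0016080010c000ae20008500057)) (.leaf (nat_lit 0))) (.node (.leaf (nat_lit 0x1800630006304002180031860018a0018a1000a0000c518006200062040021c00310600108001862000c3000c300006180061900030c0030c800184001841000c1000c12000548006080003040030460016c001804000a8000c0000046000600c002fc002fc4001120017e400088000bf18005f0005f00001f8002f86001500017a100088000bd20003f0005e840027c002f08000f8001784000b2000bb1000458005d8c001f8002e8200174001744000b6000ba)) (.leaf (nat_lit 0)))) (.node (.node (.leaf (nat_lit 0x180015800140000044000ac400044000540000240002a10000c0000c00000640006420002c0002c0000180001628000b0000b8c000a4000a420002a0005230002700027080013000138000050000980000180004a30002400024100009800120c000300008c40001a0004630002200022000009800110c000280008400001600042400005000052000090000910000180001860001c0001c20000e00007080009000090000048000188000180002a20001600016))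 (.leaf (nat_lit 0))) (.node (.leaf (nat_lit 0x8008d0009b8c004d4004d44002400026a0001100013518009a0009a04004cc004cc800266002662001330013310008d00099040043c004c86002240026210010b00131200093800988800464004c420023e00260300121001302000980009800004c0004c04002420025e00012e0012e2000970009708004b0004b02002580025800012c0012c080084000958000410004ac2002540025440012a0012a1000950009510004a4004a44002520025210012900129)) (.leaf (nat_lit 0)))))) (.node (.node (.node (.node (.leaf (nat_lit 0x1800320001d100018c000e44000c400072000061000392000300001c040017c000e06000bc0006e40005d0003618002e0001b0c0016c000d48000b4000682000590003408002c0001a0c0015c000c82000ac000644000550003018002a00017900014c000b86000a40005a4000510002c00002800016100013c000ac60009c0005440004d00028080026000140c0012c000986000940004a4000490002320002400010900011c0008000008c000404000450001f)) (.leaf (nat_lit 0))) (.node (.leaf (nat_lit 0x180055000550000284002a8600140001521000a9000a9000054800548c0029c0029c0000d40014e3000a6000a60000528005290002940029420014800148300068000a4200052000520800290002902000ce00146100095000a12000498005010002440027c40013c0013c1000740009e18004e8004e880018c002742000de0013a40009c0009c08004e0004e0000270002700000c6001363000990009910004d0004d04001dc002680000c40013240009800098))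 (.leaf (nat_lit 0)))) (.node (.node (.leaf (nat_lit 0x2000b2000aa0c0058c005506002c4002a6300161001522000b0000a8100057c005384002bc0029610015d0014b2000ae000a5100056c0051c8002b40028a400159001441000ac000a2000055c005100002ac002844001550013f0800aa0009f900054c004dc8002a400268400151001320000a800099100053c004bc20029c0025e20014d0012d0800a6000968c0052c004b060029400254000149001292000a4000940c0051c0049880028c0024a30014500124)) (.leaf (nat_lit 0))) (.node (.leaf (nat_lit 0x8008e0008e0000470004708002360023620011b0011b08008d8008d80004140046c600232002320000f80011920007e0008c8c003a000460200230002304001180011800008c0008c080045c0045c60021c0022e400117001172000848008b0c0038c004548001dc0022a2000ff0011520008a0008a080040000450200218002280001140011400008980089900044c0044c4002240022400011200112200089000890800444004442002220022200011100111)) (.leaf (nat_lit 0))))) (.node (.node (.node (.leaf (nat_lit 0x1000720004f800038c002786001c4001364000e1000990800700004c800037c002604001bc0012c4000dd0009518006e0004a900036c002504001b4001281000d90009310006c00048880035c002402001ac001200000d50009018006a00047900034c002384001a40011c0000d10008e20006800046840033c0023420019c001180000cd0008b10006600045040032c00228600194001123000c90008818006400043880031c0021c80018c001082000c500084))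 (.leaf (nat_lit 0))) (.node (.leaf (nat_lit 0x20006c000720000280003902001c6001c64000ab000e310007180071880038800338200176001c420009b000e108006b800708000274003848001c0001ae3000c1000e010006a0007000002b40038060013e001be4000df000df10006f8006f900037800378000162001bc200097000dd00006b0006e8c002d40036c4001ac001b610009b000db00004b8006d9000368003582001a8001b43000c2000da00004a8006d08003180036480018a001b2000093000d8)) (.leaf (nat_lit 0)))) (.node (.node (.leaf (nat_lit 0x1000268002984000bc0014c000092000a620004100051080028800288c0011800140400094000a020002d0004f0000188002790001380013840009c0009c00004e0004e0000148002688000c0001300000880009810004b0004b0000258002584001280012800008600094300033000491000148002484000900012420004400090000027000481000138002384001140011c2000560008c20002100046180020000228c001100011020004a0008830003f0003f)) (.leaf (nat_lit 0))) (.node (.leaf (nat_lit 0x180099800a8040050c0054040027e002a02001420014f0000a7000a28c00524005384002680029c30013b0014d00009b800a688005300051460025c002980001340014c0000a58009c10004b40052c4002860029400012f0014a0800a0800a490005240052440029200292200148001480800a4000a400005200052040028e0028e100147001470000a3800a388005180051820028c0028c000146001460800a2000a28c0050c0050c6002840028440012100142))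 (.leaf (nat_lit 0))))))) (.node (.node (.node (.node (.node (.leaf (nat_lit 0x1000220000f840010c000784000840003a1000410001d2000200000e08000fc0007000007c0003840003d0001b18001e0000d80000ec0006c800074000341000390001a00001c0000d10000dc0006440006c000324000350001818001a0000c10000cc000580000640002a400031000110800180000890000bc0004020005c0002040002d0000f1800160000788000ac0003c8000540001c4000290000d00001400006900009c0002c80004c000142000250000a)) (.leaf (nat_lit 0x10005a8005a84002d4002d410016a0016a0000b5000b510005a4005a44002d2002d2100169001690000b4800b48800564005a02002bc002d000016400168))) (.node (.leaf (nat_lit 0x10004c0004c04002600026060012e0012e1000600009720004b0004b0400258002580001060012c300076000940800308004a080021800248000124000fa1000910007c180045800491000214002486001220012220006a0008f180047000470c00234002344000d00011a30008c0008c20002d8004500001a4002282000b4001123000700008600002d000430400214001906000e80010a00005900085200041800419000208002082001040010430006a00081))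 (.leaf (nat_lit 0)))) (.node (.node (.leaf (nat_lit 0x1800a200091000050c00484200284002402001410011c2000a00008d00004fc0046800027c0022e30013d0011608009e0008a88004ec0044c600274002204001390010f20009c0008708004dc0043800026c0021c4001350010d08009a0008680004cc004306002640021600013100109100098000838c004bc0041820025c0020a30012d001042000960008190004ac00404000254001fa300129000fc1800940007d840049c003ec00024c001f2300125000f8)) (.leaf (nat_lit 0))) (.node (.leaf (nat_lit 0x18006f0008780003c40043c40021a001e23000f30010d200086000860800430004308001f6002162000e70010b20008500085080042800428200214002143001090010910007c00084900041c0041c600210002100000d30010808008380083800041c0041c0001a40020c40010500105100082800828400340004104002060020610010300103000081800818c00408004082001d60020430010100101080068800808c003fc003fc0002000020040010000100)) (.leaf (nat_lit 0))))) (.node (.node (.node (.leaf (nat_lit 0x6200042040030c0020c400184001042000c1000811000600003f84002fc001f840017c000f82000bd0007b00005e0003d8c002ec001e8400174000f21000b90007910005c0003c00002dc001e040016c000ee4000b50007510005a0003980002cc001c8600164000e23000b10006f1800580003710002bc001b460015c000da1000ad0006d200056000360c002ac001b0400154000d82000a90006b10005400034900029c001a020014c000d01000a500066))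 (.leaf (nat_lit 0))) (.node (.leaf (nat_lit 0x1800498006b8c00358003586001aa001aa400090000d40800478006984002a00034840014e001a000008f000d018005b80066840029c0033480014c0019a3000b8000cc2000460006600002a000330400196001643000b4000cb00005300065900022c0032c2001680019440009e000ca1000650006500002ac003288001920019220009c000c9000064800648000224002888001440010e2000c8000c80800640006400002680032060018e0018e000088000c7)) (.leaf (nat_lit 0)))) (.node (.node (.leaf (nat_lit 0x10000e8000e9400074001084000860005820001e0001e1800170002190001040010c20007a0008030003e0003e10001d0001e88000e0000ec600070000701000350003700001b8001b84000d8000d800006c0006c200035000350000198001a88000cc000cc2000660006640002500032100013000190c000c4000c440005e0006200001d0001d00000f0000f00000c00007c6000600006000002d0002f10001400017000008c000b82000540005a10002c0002c)) (.leaf (nat_lit 0))) (.node (.leaf (nat_lit 0x18008f000a0900050400504000282002823001400014018009f8009f8000438004b4a0026c0025a30012b0013e08009f0009f10004f8004f840027c0027c20012e0013d20009e8009e84004f4004f400027a0027a30013c0013c1000958009e000048c004f080023a0027810013b0013b20009d8009d80004ec004ec8002220027420013a0013a08009d0009d00004e8004e860027200272200110001390000900009c8c004e0004e02002200027030013700137))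 (.leaf (nat_lit 0)))))) (.node (.node (.node (.node (.leaf (nat_lit 0x800420002b8c0020c00158600104000aa100081000540000400002a0c001fc0014c4000fc000a410007d0005200003e000290c001ec001448000f4000a03000790004f08003c000270c001dc001348000ec000983000750004c10003a000258c001cc001206000e40008e400071000460000380002090001bc000fc8000dc0007c20006d0003e0800360001f0c001ac000f48000d4000781000690003c0000340001e100019c000ec6000cc000761000650003b)) (.leaf (nat_lit 0))) (.node (.leaf (nat_lit 0x5d0005d08002e4002e4800134001721000b8000b820005c0005c04002dc002dc80016e0016e1000b6000b600005b0005b08002d4002d42000f40016a0000b5000b520003a0005a00002d0002d020016600166400080000b31000598005990002c4002c4400106001621000b1000b1200058000580000208002c04000dc0015e00006f000af1000570005704002b8002b800015c0015c3000ad000ad08003700056000028c002b0400156001561000ab000ab)) (.leaf (nat_lit 0)))) (.node (.node (.leaf (nat_lit 0x18000a0000a1000050000206000400002020000b00020200001800099000008000084000080000840000100001080002000021000000000000000080000820000500012180003000068c000140002c6000040001230000100008180000000038000008000084000000000010000200006000000800029000010000106000060000620000200002080000800008000000000006002d4002d0300169001672000b4000ac100059c0055c6002cc002ac30016500155))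 (.leaf (nat_lit 0))) (.node (.leaf (nat_lit 0x1000940009404004a0004a0000250002503001270012710007e0009380004580049c2001fe0024c400106001261000840009308004940049420024a0024a0001250012510008b0009200003f0004908001f000248300113001231000820009190004080048c40024400244000122001222000910009110003c40048080023e0023e20011f0011f0000850008f8400418004788001fe0023c0000fe0011e10008e800808c003c8004740002040023a40011c0011c)) (.leaf (nat_lit 0))))) (.node (.node (.node (.leaf (nat_lit 0x200082000678c0040c0033c4002040019e000101000cf1800800006700003fc003382001fc001981000fd000c908007e0006388003ec003102001f4001841000f9000c008007c0005f08003dc002f00001ec001762000f5000b708007a0005908003cc002c02001e4001603000f1000af2000780005710003bc002b46001dc001584000ed000aa0800760005508003ac002984001d40014a3000e9000a310007400051040039c002888001cc001423000e5000a1)) (.leaf (nat_lit 0))) (.node (.leaf (nat_lit 0x1000780007804003c0003c00001e0001e02000d5000ef08005780077800035c003bc400158001da1000d5000ed0000730007690003b00035440015a001d80000d4000ec1800598007580002c8003ac2001d4001d44000ea000ea0000750007500002e4003a4800190001d22000e9000e908007480074900031c003a000017e001d03000a5000e70000630007390003100039c6001cc001cc2000a3000e608006e800731000394003940001ca001ca3000e4000e4))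 (.leaf (nat_lit 0)))) (.node (.node (.leaf (nat_lit 0x20002a0003908001c8001c82000d6000e42000480007108002780038800011c001c42000e0000e040004a00070100020000378000100001b800007e000da0000650006c1800208003488001800019c00007a000ce2000660006620002f0003204000e80018c20007e000c400003a0006010001b8002e8400174001740000ba000ba20003c0005c18002c8002c8c000e400160000068000ae200045000562000220002b04000c40015400008a000aa20005400054)) (.leaf (nat_lit 0))) (.node (.leaf (nat_lit 0xad000af8c005780057880029a002bc0001530015e1000ad000ae8c00574005740002a4002ba40014c0015d1800ae000ae08005580057000029e002b830014f0015b1000ad800ad840056c0056c0002b6002b63001460015a0800ac800ad0c00564005646002b0002b010014d001580000aa000ac080055c005506002ae002ae10014a001572000a1800ab000050000554400270002a61001400015308009a800a90c0052000544400280002a210013900151)) (.leaf (nat_lit 0))))))))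
noncomputable def kGF (p : Nat) : Nat := row kGFt (nat_lit 5) (nat_lit 31) (nat_lit 45) (nat_lit 35184372088831) p
noncomputable def kGP0000 : BT Pf := (.node (.node (.node (.node (.node (.node (.node (.leaf .df) (.leaf (.cyc (nat_lit 17) [(nat_lit 330), (nat_lit 329), (nat_lit 346)]))) (.node (.leaf (.cyc (nat_lit 39) [(nat_lit 509), (nat_lit 109), (nat_lit 454), (nat_lit 481), (nat_lit 482), (nat_lit 426), (nat_lit 482), (nat_lit 481), (nat_lit 454), (nat_lit 109), (nat_lit 509)])) (.leaf .df))) (.node (.node (.leaf .df) (.leaf .df)) (.node (.leaf (.cyc (nat_lit 30) [(nat_lit 237), (nat_lit 619), (nat_lit 237)])) (.leaf .df)))) (.node (.node (.node (.leaf .df) (.leaf .df)) (.node (.leaf (.cyc (nat_lit 50) [(nat_lit 177), (nat_lit 528), (nat_lit 181)])) (.leaf .df))) (.node (.node (.leaf (.cyc (nat_lit 3) [(nat_lit 17), (nat_lit 16), (nat_lit 383), (nat_lit 16), (nat_lit 17)])) (.leaf .df)) (.node (.leaf (.cyc (nat_lit 23) [(nat_lit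 292), (nat_lit 247), (nat_lit 673), (nat_lit 247), (nat_lit 292)])) (.leaf .df))))) (.node (.node (.node (.node (.leaf .df) (.leaf .df)) (.node (.leaf (.cyc (nat_lit 38) [(nat_lit 147), (nat_lit 91), (nat_lit 437), (nat_lit 91), (nat_lit 147)])) (.leaf .df))) (.node (.node (.leaf .df) (.leaf .df)) (.node (.leaf (.cyc (nat_lit 36) [(nat_lit 268), (nat_lit 715), (nat_lit 702), (nat_lit 715), (nat_lit 268)])) (.leaf .df)))) (.node (.node (.node (.leaf .df) (.leaf .df)) (.node (.leaf (.cyc (nat_lit 16) [(nat_lit 142), (nat_lit 140), (nat_lit 211)])) (.leaf .df))) (.node (.node (.leaf (.cyc (nat_lit 33) [(nat_lit 58), (nat_lit 24), (nat_lit 447), (nat_lit 24), (nat_lit 58)])) (.leaf .df)) (.node (.leaf (.cyc (nat_lit 30) [(nat_lit 284), (nat_lit 874), (nat_lit 317)])) (.leaf .df)))))) (.node (.node (.node (.node (.node (.leaf .df) (.leaf (.cyc (nat_lit 12) [(nat_lit 351), (nat_lit 1003), (nat_lit 355)]))) (.node (.leaf (.cyc (nat_lit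 11) [(nat_lit 538), (nat_lit 122), (nat_lit 478), (nat_lit 79), (nat_lit 124)])) (.leaf .df))) (.node (.node (.leaf .df) (.leaf .df)) (.node (.leaf (.cyc (nat_lit 38) [(nat_lit 251), (nat_lit 796), (nat_lit 798), (nat_lit 796), (nat_lit 251)])) (.leaf .df)))) (.node (.node (.node (.leaf .df) (.leaf .df)) (.node (.leaf (.cyc (nat_lit 16) [(nat_lit 131), (nat_lit 130), (nat_lit 194)])) (.leaf .df))) (.node (.node (.leaf (.cyc (nat_lit 23) [(nat_lit 39), (nat_lit 10), (nat_lit 389), (nat_lit 10), (nat_lit 39)])) (.leaf .df)) (.node (.leaf (.cyc (nat_lit 34) [(nat_lit 306), (nat_lit 849), (nat_lit 850), (nat_lit 849), (nat_lit 306)])) (.leaf .df))))) (.node (.node (.node (.node (.leaf .df) (.leaf .df)) (.node (.leaf (.cyc (nat_lit 23) [(nat_lit 166), (nat_lit 103), (nat_lit 440), (nat_lit 103), (nat_lit 166)])) (.leaf .df))) (.node (.node (.leaf .df) (.leaf .df)) (.node (.leaf (.cyc (nat_lit 38) [(nat_lit 279), (nat_lit 232), (nat_lit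 607), (nat_lit 232), (nat_lit 279)])) (.leaf .df)))) (.node (.node (.node (.leaf .df) (.leaf .df)) (.node (.leaf (.cyc (nat_lit 34) [(nat_lit 223), (nat_lit 721), (nat_lit 719), (nat_lit 721), (nat_lit 223)])) (.leaf .df))) (.node (.node (.leaf (.cyc (nat_lit 37) [(nat_lit 79), (nat_lit 425), (nat_lit 426), (nat_lit 425), (nat_lit 79)])) (.leaf .df)) (.node (.leaf (.cyc (nat_lit 17) [(nat_lit 308), (nat_lit 918), (nat_lit 332)])) (.leaf .df))))))) (.node (.node (.node (.node (.node (.node (.leaf .df) (.leaf (.cyc (nat_lit 23) [(nat_lit 350), (nat_lit 335), (nat_lit 955), (nat_lit 335), (nat_lit 350)]))) (.node (.leaf (.cyc (nat_lit 38) [(nat_lit 114), (nat_lit 72), (nat_lit 415), (nat_lit 74), (nat_lit 116)])) (.leaf .df))) (.node (.node (.leaf .df) (.leaf .df)) (.node (.leaf (.cyc (nat_lit 34) [(nat_lit 240), (nat_lit 695), (nat_lit 779), (nat_lit 781), (nat_lit 242)])) (.leaf .df)))) (.node (.node (.node (.leaf .df) (.leaf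 .df)) (.node (.leaf (.cyc (nat_lit 50) [(nat_lit 163), (nat_lit 537), (nat_lit 187)])) (.leaf .df))) (.node (.node (.leaf (.cyc (nat_lit 13) [(nat_lit 31), (nat_lit 369), (nat_lit 378), (nat_lit 369), (nat_lit 31)])) (.leaf .df)) (.node (.leaf (.cyc (nat_lit 34) [(nat_lit 909), (nat_lit 298), (nat_lit 257), (nat_lit 258), (nat_lit 299)])) (.leaf .df))))) (.node (.node (.node (.node (.leaf .df) (.leaf .df)) (.node (.leaf (.cyc (nat_lit 28) [(nat_lit 144), (nat_lit 90), (nat_lit 438), (nat_lit 96), (nat_lit 156)])) (.leaf .df))) (.node (.node (.leaf .df) (.leaf .df)) (.node (.leaf (.cyc (nat_lit 30) [(nat_lit 274), (nat_lit 738), (nat_lit 274)])) (.leaf .df)))) (.node (.node (.node (.leaf .df) (.leaf .df)) (.node (.leaf (.cyc (nat_lit 27) [(nat_lit 218), (nat_lit 576), (nat_lit 218)])) (.leaf .df))) (.node (.node (.leaf (.cyc (nat_lit 23) [(nat_lit 70), (nat_lit 403), (nat_lit 404), (nat_lit 403), (nat_lit 70)])) (.leaf .df)) (.node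 (.leaf (.cyc (nat_lit 36) [(nat_lit 298), (nat_lit 813), (nat_lit 795), (nat_lit 293), (nat_lit 325)])) (.leaf .df)))))) (.node (.node (.node (.node (.node (.leaf .df) (.leaf .df)) (.node (.leaf (.cyc (nat_lit 15) [(nat_lit 101), (nat_lit 488), (nat_lit 138)])) (.leaf .df))) (.node (.node (.leaf .df) (.leaf .df)) (.node (.leaf (.cyc (nat_lit 12) [(nat_lit 206), (nat_lit 204), (nat_lit 259)])) (.leaf .df)))) (.node (.node (.node (.leaf .df) (.leaf .df)) (.node (.leaf (.cyc (nat_lit 11) [(nat_lit 685), (nat_lit 197), (nat_lit 553), (nat_lit 133), (nat_lit 198)])) (.leaf .df))) (.node (.node (.leaf (.cyc (nat_lit 15) [(nat_lit 48), (nat_lit 411), (nat_lit 48)])) (.leaf .df)) (.node (.leaf (.cyc (nat_lit 11) [(nat_lit 311), (nat_lit 846), (nat_lit 733), (nat_lit 846), (nat_lit 311)])) (.leaf .df))))) (.node (.node (.node (.node (.leaf .df) (.leaf .df)) (.node (.leaf (.cyc (nat_lit 27) [(nat_lit 123), (nat_lit 511), (nat_lit 174)]))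 (.leaf .df))) (.node (.node (.leaf (.pin (nat_lit 10) [(nat_lit 3)] [])) (.leaf .df)) (.node (.leaf (.cyc (nat_lit 11) [(nat_lit 270), (nat_lit 721), (nat_lit 646), (nat_lit 781), (nat_lit 286)])) (.leaf .df)))) (.node (.node (.node (.leaf .df) (.leaf .df)) (.node (.leaf (.cyc (nat_lit 50) [(nat_lit 229), (nat_lit 598), (nat_lit 229)])) (.leaf .df))) (.node (.node (.leaf (.cyc (nat_lit 37) [(nat_lit 97), (nat_lit 438), (nat_lit 437), (nat_lit 438), (nat_lit 97)])) (.leaf .df)) (.node (.leaf (.cyc (nat_lit 13) [(nat_lit 321), (nat_lit 288), (nat_lit 881), (nat_lit 320), (nat_lit 341)])) (.leaf .df))))))))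
noncomputable def kGP0001 : BT Pf := (.node (.node (.node (.node (.node (.node (.node (.leaf .df) (.leaf (.cyc (nat_lit 23) [(nat_lit 348), (nat_lit 995), (nat_lit 926), (nat_lit 995), (nat_lit 348)]))) (.node (.leaf (.cyc (nat_lit 23) [(nat_lit 474), (nat_lit 453), (nat_lit 415), (nat_lit 71), (nat_lit 112)])) (.leaf .df))) (.node (.node (.leaf .df) (.leaf .df)) (.node (.leaf (.cyc (nat_lit 26) [(nat_lit 775), (nat_lit 750), (nat_lit 228), (nat_lit 610), (nat_lit 233)])) (.leaf .df)))) (.node (.node (.node (.leaf .df) (.leaf .df)) (.node (.leaf (.cyc (nat_lit 28) [(nat_lit 131), (nat_lit 83), (nat_lit 84), (nat_lit 532), (nat_lit 184)])) (.leaf .df))) (.node (.node (.leaf (.cyc (nat_lit 4) [(nat_lit 372), (nat_lit 391), (nat_lit 372)])) (.leaf .df)) (.node (.leaf (.cyc (nat_lit 12) [(nat_lit 295), (nat_lit 807), (nat_lit 295)])) (.leaf .df))))) (.node (.node (.node (.node (.leaf .df) (.leaf .df)) (.node (.leaf (.cyc (nat_lit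 49) [(nat_lit 151), (nat_lit 493), (nat_lit 58), (nat_lit 24), (nat_lit 60), (nat_lit 107), (nat_lit 505), (nat_lit 552), (nat_lit 566), (nat_lit 141), (nat_lit 89), (nat_lit 50), (nat_lit 21), (nat_lit 52), (nat_lit 93), (nat_lit 151), (nat_lit 583), (nat_lit 582), (nat_lit 583), (nat_lit 151), (nat_lit 93), (nat_lit 52), (nat_lit 21), (nat_lit 50), (nat_lit 89), (nat_lit 141), (nat_lit 566), (nat_lit 552), (nat_lit 505), (nat_lit 107), (nat_lit 60), (nat_lit 24), (nat_lit 58), (nat_lit 493), (nat_lit 151)])) (.leaf .df))) (.node (.node (.leaf .df) (.leaf .df)) (.node (.leaf (.cyc (nat_lit 36) [(nat_lit 271), (nat_lit 726), (nat_lit 587), (nat_lit 726), (nat_lit 271)])) (.leaf .df)))) (.node (.node (.node (.leaf .df) (.leaf .df)) (.node (.leaf (.cyc (nat_lit 17) [(nat_lit 150), (nat_lit 567), (nat_lit 214)])) (.leaf .df))) (.node (.node (.leaf (.cyc (nat_lit 12) [(nat_lit 34), (nat_lit 393), (nat_lit 67)])) (.leaf .df)) (.node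 (.leaf (.cyc (nat_lit 23) [(nat_lit 322), (nat_lit 889), (nat_lit 802), (nat_lit 889), (nat_lit 322)])) (.leaf .df)))))) (.node (.node (.node (.node (.node (.leaf .df) (.leaf (.cyc (nat_lit 23) [(nat_lit 357), (nat_lit 1057), (nat_lit 1022), (nat_lit 1057), (nat_lit 357)]))) (.node (.leaf (.cyc (nat_lit 13) [(nat_lit 504), (nat_lit 69), (nat_lit 428), (nat_lit 82), (nat_lit 129)])) (.leaf .df))) (.node (.node (.leaf .df) (.leaf .df)) (.node (.leaf (.cyc (nat_lit 23) [(nat_lit 254), (nat_lit 202), (nat_lit 558), (nat_lit 202), (nat_lit 254)])) (.leaf .df)))) (.node (.node (.node (.leaf .df) (.leaf .df)) (.node (.leaf (.cyc (nat_lit 37) [(nat_lit 151), (nat_lit 93), (nat_lit 486), (nat_lit 131), (nat_lit 196)])) (.leaf .df))) (.node (.node (.leaf (.cyc (nat_lit 12) [(nat_lit 25), (nat_lit 423), (nat_lit 25)])) (.leaf .df)) (.node (.leaf (.cyc (nat_lit 37) [(nat_lit 309), (nat_lit 932), (nat_lit 933), (nat_lit 932), (nat_lit 309)]))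 (.leaf .df))))) (.node (.node (.node (.node (.leaf .df) (.leaf .df)) (.node (.leaf (.cyc (nat_lit 12) [(nat_lit 106), (nat_lit 501), (nat_lit 170)])) (.leaf .df))) (.node (.node (.leaf (.pin (nat_lit 2) [] [])) (.leaf .df)) (.node (.leaf (.cyc (nat_lit 37) [(nat_lit 282), (nat_lit 764), (nat_lit 701), (nat_lit 764), (nat_lit 282)])) (.leaf .df)))) (.node (.node (.node (.leaf .df) (.leaf .df)) (.node (.leaf (.cyc (nat_lit 11) [(nat_lit 160), (nat_lit 97), (nat_lit 96), (nat_lit 157), (nat_lit 226)])) (.leaf .df))) (.node (.node (.leaf (.cyc (nat_lit 37) [(nat_lit 55), (nat_lit 22), (nat_lit 21), (nat_lit 49), (nat_lit 87)])) (.leaf .df)) (.node (.leaf (.cyc (nat_lit 35) [(nat_lit 976), (nat_lit 329), (nat_lit 987), (nat_lit 963), (nat_lit 338)])) (.leaf .df))))))) (.node (.node (.node (.node (.node (.node (.leaf .df) (.leaf (.cyc (nat_lit 38) [(nat_lit 352), (nat_lit 336), (nat_lit 955), (nat_lit 336), (nat_lit 352)]))) (.node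 (.leaf (.cyc (nat_lit 36) [(nat_lit 86), (nat_lit 431), (nat_lit 460), (nat_lit 477), (nat_lit 122)])) (.leaf .df))) (.node (.node (.leaf .df) (.leaf .df)) (.node (.leaf (.cyc (nat_lit 16) [(nat_lit 192), (nat_lit 191), (nat_lit 246)])) (.leaf .df)))) (.node (.node (.node (.leaf .df) (.leaf .df)) (.node (.leaf (.cyc (nat_lit 14) [(nat_lit 190), (nat_lit 621), (nat_lit 620), (nat_lit 621), (nat_lit 190)])) (.leaf .df))) (.node (.node (.leaf (.cyc (nat_lit 19) [(nat_lit 19), (nat_lit 407)])) (.leaf .df)) (.node (.leaf (.cyc (nat_lit 22) [(nat_lit 302), (nat_lit 826), (nat_lit 302)])) (.leaf .df))))) (.node (.node (.node (.node (.leaf .df) (.leaf .df)) (.node (.leaf (.cyc (nat_lit 11) [(nat_lit 161), (nat_lit 596), (nat_lit 597), (nat_lit 596), (nat_lit 161)])) (.leaf .df))) (.node (.node (.leaf .df) (.leaf .df)) (.node (.leaf (.cyc (nat_lit 10) [(nat_lit 243), (nat_lit 650), (nat_lit 186), (nat_lit 745), (nat_lit 276)])) (.leaf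 .df)))) (.node (.node (.node (.leaf .df) (.leaf .df)) (.node (.leaf (.cyc (nat_lit 15) [(nat_lit 150), (nat_lit 148), (nat_lit 220)])) (.leaf .df))) (.node (.node (.leaf (.cyc (nat_lit 15) [(nat_lit 40), (nat_lit 38), (nat_lit 74)])) (.leaf .df)) (.node (.leaf (.cyc (nat_lit 34) [(nat_lit 310), (nat_lit 880), (nat_lit 879), (nat_lit 296), (nat_lit 328)])) (.leaf .df)))))) (.node (.node (.node (.node (.node (.leaf .df) (.leaf .df)) (.node (.leaf (.cyc (nat_lit 48) [(nat_lit 523), (nat_lit 467), (nat_lit 405), (nat_lit 17), (nat_lit 409), (nat_lit 408), (nat_lit 20), (nat_lit 21), (nat_lit 52), (nat_lit 92), (nat_lit 567)])) (.leaf .df))) (.node (.node (.leaf .df) (.leaf .df)) (.node (.leaf (.cyc (nat_lit 22) [(nat_lit 743), (nat_lit 706), (nat_lit 262)])) (.leaf .df)))) (.node (.node (.node (.leaf .df) (.leaf .df)) (.node (.leaf (.cyc (nat_lit 12) [(nat_lit 138), (nat_lit 136), (nat_lit 203)])) (.leaf .df))) (.node (.node (.leaf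 (.cyc (nat_lit 29) [(nat_lit 57), (nat_lit 24), (nat_lit 424), (nat_lit 24), (nat_lit 57)])) (.leaf .df)) (.node (.leaf (.cyc (nat_lit 61) [(nat_lit 903), (nat_lit 816), (nat_lit 699), (nat_lit 207), (nat_lit 709), (nat_lit 707), (nat_lit 592), (nat_lit 224), (nat_lit 274), (nat_lit 313), (nat_lit 951)])) (.leaf .df))))) (.node (.node (.node (.node (.leaf .df) (.leaf .df)) (.node (.leaf (.cyc (nat_lit 28) [(nat_lit 177), (nat_lit 578), (nat_lit 579), (nat_lit 578), (nat_lit 177)])) (.leaf .df))) (.node (.node (.leaf (.pin (nat_lit 18) [] [])) (.leaf .df)) (.node (.leaf (.cyc (nat_lit 27) [(nat_lit 813), (nat_lit 785), (nat_lit 289)])) (.leaf .df)))) (.node (.node (.node (.leaf .df) (.leaf .df)) (.node (.leaf (.cyc (nat_lit 17) [(nat_lit 758), (nat_lit 231), (nat_lit 232)])) (.leaf .df))) (.node (.node (.leaf (.cyc (nat_lit 27) [(nat_lit 461), (nat_lit 442), (nat_lit 107)])) (.leaf .df)) (.node (.leaf (.cyc (nat_lit 30) [(nat_lit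 327), (nat_lit 978), (nat_lit 344)])) (.leaf .df))))))))
noncomputable def kGP000 : BT Pf := .node kGP0000 kGP0001
noncomputable def kGP0010 : BT Pf := (.node (.node (.node (.node (.node (.node (.node (.leaf .df) (.leaf (.cyc (nat_lit 17) [(nat_lit 999), (nat_lit 990), (nat_lit 347)]))) (.node (.leaf (.cyc (nat_lit 23) [(nat_lit 110), (nat_lit 457), (nat_lit 396), (nat_lit 457), (nat_lit 110)])) (.leaf .df))) (.node (.node (.leaf .df) (.leaf .df)) (.node (.leaf (.cyc (nat_lit 50) [(nat_lit 238), (nat_lit 619), (nat_lit 238)])) (.leaf .df)))) (.node (.node (.node (.leaf .df) (.leaf .df)) (.node (.leaf (.cyc (nat_lit 38) [(nat_lit 173), (nat_lit 108), (nat_lit 474), (nat_lit 117), (nat_lit 182)])) (.leaf .df))) (.node (.node (.leaf (.cyc (nat_lit 7) [(nat_lit 9), (nat_lit 4), (nat_lit 2)])) (.leaf .df)) (.node (.leaf (.cyc (nat_lit 27) [(nat_lit 293), (nat_lit 793), (nat_lit 293)])) (.leaf .df))))) (.node (.node (.node (.node (.leaf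 .df) (.leaf .df)) (.node (.leaf (.cyc (nat_lit 33) [(nat_lit 148), (nat_lit 149), (nat_lit 579), (nat_lit 149), (nat_lit 148)])) (.leaf .df))) (.node (.node (.leaf .df) (.leaf .df)) (.node (.leaf (.cyc (nat_lit 10) [(nat_lit 269), (nat_lit 717), (nat_lit 620), (nat_lit 717), (nat_lit 269)])) (.leaf .df)))) (.node (.node (.node (.leaf .df) (.leaf .df)) (.node (.leaf (.cyc (nat_lit 34) [(nat_lit 189), (nat_lit 125), (nat_lit 524), (nat_lit 568), (nat_lit 213)])) (.leaf .df))) (.node (.node (.leaf (.cyc (nat_lit 22) [(nat_lit 393), (nat_lit 380), (nat_lit 65)])) (.leaf .df)) (.node (.leaf (.cyc (nat_lit 12) [(nat_lit 321), (nat_lit 884), (nat_lit 321)])) (.leaf .df)))))) (.node (.node (.node (.node (.node (.leaf .df) (.leaf (.cyc (nat_lit 23) [(nat_lit 356), (nat_lit 1054), (nat_lit 1015), (nat_lit 1054), (nat_lit 356)]))) (.node (.leaf (.cyc (nat_lit 16) [(nat_lit 84), (nat_lit 485), (nat_lit 128)])) (.leaf .df))) (.node (.node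 (.leaf .df) (.leaf .df)) (.node (.leaf (.cyc (nat_lit 48) [(nat_lit 803), (nat_lit 204), (nat_lit 137), (nat_lit 87), (nat_lit 434), (nat_lit 433), (nat_lit 434), (nat_lit 87), (nat_lit 137), (nat_lit 204), (nat_lit 803)])) (.leaf .df)))) (.node (.node (.node (.leaf .df) (.leaf .df)) (.node (.leaf (.cyc (nat_lit 37) [(nat_lit 195), (nat_lit 194), (nat_lit 673), (nat_lit 194), (nat_lit 195)])) (.leaf .df))) (.node (.node (.leaf (.cyc (nat_lit 12) [(nat_lit 40), (nat_lit 11), (nat_lit 42)])) (.leaf .df)) (.node (.leaf (.cyc (nat_lit 15) [(nat_lit 267), (nat_lit 266), (nat_lit 308)])) (.leaf .df))))) (.node (.node (.node (.node (.leaf .df) (.leaf .df)) (.node (.leaf (.cyc (nat_lit 48) [(nat_lit 168), (nat_lit 501), (nat_lit 493), (nat_lit 151), (nat_lit 583), (nat_lit 582), (nat_lit 583), (nat_lit 151), (nat_lit 493), (nat_lit 501), (nat_lit 168)])) (.leaf .df))) (.node (.node (.leaf .df) (.leaf .df)) (.node (.leaf (.cyc (nat_lit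 16) [(nat_lit 797), (nat_lit 776), (nat_lit 281)])) (.leaf .df)))) (.node (.node (.node (.leaf .df) (.leaf .df)) (.node (.leaf (.cyc (nat_lit 15) [(nat_lit 158), (nat_lit 156), (nat_lit 225)])) (.leaf .df))) (.node (.node (.leaf (.cyc (nat_lit 14) [(nat_lit 454), (nat_lit 455), (nat_lit 403), (nat_lit 427), (nat_lit 81)])) (.leaf .df)) (.node (.leaf (.cyc (nat_lit 17) [(nat_lit 315), (nat_lit 927), (nat_lit 334)])) (.leaf .df))))))) (.node (.node (.node (.node (.node (.node (.leaf .df) (.leaf (.cyc (nat_lit 13) [(nat_lit 351), (nat_lit 350), (nat_lit 1042), (nat_lit 350), (nat_lit 351)]))) (.node (.leaf (.cyc (nat_lit 42) [(nat_lit 84), (nat_lit 83), (nat_lit 486), (nat_lit 52), (nat_lit 22), (nat_lit 23), (nat_lit 24), (nat_lit 60), (nat_lit 476), (nat_lit 475), (nat_lit 118)])) (.leaf .df))) (.node (.node (.leaf .df) (.leaf .df)) (.node (.leaf (.cyc (nat_lit 30) [(nat_lit 245), (nat_lit 661), (nat_lit 245)])) (.leaf .df))))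 (.node (.node (.node (.leaf .df) (.leaf .df)) (.node (.leaf (.cyc (nat_lit 28) [(nat_lit 188), (nat_lit 124), (nat_lit 480), (nat_lit 124), (nat_lit 188)])) (.leaf .df))) (.node (.node (.leaf (.cyc (nat_lit 13) [(nat_lit 34), (nat_lit 370), (nat_lit 392), (nat_lit 370), (nat_lit 34)])) (.leaf .df)) (.node (.leaf (.cyc (nat_lit 35) [(nat_lit 262), (nat_lit 212), (nat_lit 704), (nat_lit 260), (nat_lit 300)])) (.leaf .df))))) (.node (.node (.node (.node (.leaf .df) (.leaf .df)) (.node (.leaf (.cyc (nat_lit 29) [(nat_lit 99), (nat_lit 55), (nat_lit 54), (nat_lit 97), (nat_lit 159)])) (.leaf .df))) (.node (.node (.leaf .df) (.leaf .df)) (.node (.leaf (.cyc (nat_lit 50) [(nat_lit 275), (nat_lit 738), (nat_lit 275)])) (.leaf .df)))) (.node (.node (.node (.leaf .df) (.leaf .df)) (.node (.leaf (.cyc (nat_lit 55) [(nat_lit 660), (nat_lit 188), (nat_lit 124), (nat_lit 79), (nat_lit 478), (nat_lit 479), (nat_lit 523), (nat_lit 568), (nat_lit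 567), (nat_lit 148), (nat_lit 219)])) (.leaf .df))) (.node (.node (.leaf (.cyc (nat_lit 36) [(nat_lit 73), (nat_lit 412), (nat_lit 400), (nat_lit 412), (nat_lit 73)])) (.leaf .df)) (.node (.leaf (.cyc (nat_lit 10) [(nat_lit 303), (nat_lit 264), (nat_lit 265), (nat_lit 954), (nat_lit 327)])) (.leaf .df)))))) (.node (.node (.node (.node (.node (.leaf .df) (.leaf .df)) (.node (.leaf (.cyc (nat_lit 47) [(nat_lit 140), (nat_lit 141), (nat_lit 563), (nat_lit 134), (nat_lit 536), (nat_lit 538), (nat_lit 544), (nat_lit 124), (nat_lit 123), (nat_lit 541), (nat_lit 540)])) (.leaf .df))) (.node (.node (.leaf .df) (.leaf .df)) (.node (.leaf (.cyc (nat_lit 55) [(nat_lit 260), (nat_lit 211), (nat_lit 564), (nat_lit 540), (nat_lit 541), (nat_lit 539), (nat_lit 541), (nat_lit 540), (nat_lit 564), (nat_lit 211), (nat_lit 260)])) (.leaf .df)))) (.node (.node (.node (.leaf .df) (.leaf .df)) (.node (.leaf (.cyc (nat_lit 34) [(nat_lit 179), (nat_lit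 534), (nat_lit 535), (nat_lit 133), (nat_lit 199)])) (.leaf .df))) (.node (.node (.leaf (.cyc (nat_lit 17) [(nat_lit 48), (nat_lit 20), (nat_lit 50)])) (.leaf .df)) (.node (.leaf (.cyc (nat_lit 60) [(nat_lit 297), (nat_lit 256), (nat_lit 810), (nat_lit 879), (nat_lit 286), (nat_lit 781), (nat_lit 646), (nat_lit 223), (nat_lit 273), (nat_lit 312), (nat_lit 946)])) (.leaf .df))))) (.node (.node (.node (.node (.leaf .df) (.leaf .df)) (.node (.leaf (.cyc (nat_lit 12) [(nat_lit 176), (nat_lit 519), (nat_lit 176)])) (.leaf .df))) (.node (.node (.leaf (.pin (nat_lit 14) [(nat_lit 4), (nat_lit 9), (nat_lit 10), (nat_lit 11), (nat_lit 12), (nat_lit 13)] [(nat_lit 363)])) (.leaf .df)) (.node (.leaf (.cyc (nat_lit 36) [(nat_lit 288), (nat_lit 856), (nat_lit 857), (nat_lit 856), (nat_lit 288)])) (.leaf .df)))) (.node (.node (.node (.leaf .df) (.leaf .df)) (.node (.leaf (.cyc (nat_lit 10) [(nat_lit 709), (nat_lit 707), (nat_lit 592), (nat_lit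 606), (nat_lit 231)])) (.leaf .df))) (.node (.node (.leaf (.cyc (nat_lit 10) [(nat_lit 96), (nat_lit 54), (nat_lit 23), (nat_lit 57), (nat_lit 103)])) (.leaf .df)) (.node (.leaf (.cyc (nat_lit 13) [(nat_lit 330), (nat_lit 298), (nat_lit 888), (nat_lit 322), (nat_lit 342)])) (.leaf .df))))))))
noncomputable def kGP0011 : BT Pf := (.node (.node (.node (.node (.node (.node (.node (.leaf .df) (.leaf (.cyc (nat_lit 23) [(nat_lit 349), (nat_lit 996), (nat_lit 956), (nat_lit 996), (nat_lit 349)]))) (.node (.leaf (.cyc (nat_lit 15) [(nat_lit 80), (nat_lit 466), (nat_lit 113)])) (.leaf .df))) (.node (.node (.leaf .df) (.leaf .df)) (.node (.leaf (.cyc (nat_lit 27) [(nat_lit 754), (nat_lit 644), (nat_lit 241)])) (.leaf .df)))) (.node (.node (.node (.leaf .df) (.leaf .df)) (.node (.leaf (.cyc (nat_lit 30) [(nat_lit 648), (nat_lit 647), (nat_lit 186)])) (.leaf .df))) (.node (.node (.leaf (.cyc (nat_lit 13) [(nat_lit 29), (nat_lit 367), (nat_lit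 374), (nat_lit 367), (nat_lit 29)])) (.leaf .df)) (.node (.leaf (.cyc (nat_lit 10) [(nat_lit 297), (nat_lit 858), (nat_lit 859), (nat_lit 858), (nat_lit 297)])) (.leaf .df))))) (.node (.node (.node (.node (.leaf .df) (.leaf .df)) (.node (.leaf (.cyc (nat_lit 23) [(nat_lit 549), (nat_lit 550), (nat_lit 95), (nat_lit 494), (nat_lit 153)])) (.leaf .df))) (.node (.node (.leaf .df) (.leaf .df)) (.node (.leaf (.cyc (nat_lit 22) [(nat_lit 250), (nat_lit 730), (nat_lit 272)])) (.leaf .df)))) (.node (.node (.node (.leaf .df) (.leaf .df)) (.node (.leaf (.cyc (nat_lit 15) [(nat_lit 146), (nat_lit 144), (nat_lit 216)])) (.leaf .df))) (.node (.node (.leaf (.cyc (nat_lit 13) [(nat_lit 46), (nat_lit 17), (nat_lit 385), (nat_lit 398), (nat_lit 68)])) (.leaf .df)) (.node (.leaf (.cyc (nat_lit 15) [(nat_lit 323), (nat_lit 895), (nat_lit 323)])) (.leaf .df)))))) (.node (.node (.node (.node (.node (.leaf .df) (.leaf .df)) (.node (.leaf (.cyc (nat_lit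 34) [(nat_lit 135), (nat_lit 86), (nat_lit 432), (nat_lit 86), (nat_lit 135)])) (.leaf .df))) (.node (.node (.leaf .df) (.leaf .df)) (.node (.leaf (.cyc (nat_lit 38) [(nat_lit 256), (nat_lit 203), (nat_lit 558), (nat_lit 203), (nat_lit 256)])) (.leaf .df)))) (.node (.node (.node (.leaf .df) (.leaf .df)) (.node (.leaf (.cyc (nat_lit 38) [(nat_lit 153), (nat_lit 94), (nat_lit 486), (nat_lit 132), (nat_lit 197)])) (.leaf .df))) (.node (.node (.leaf (.cyc (nat_lit 27) [(nat_lit 401), (nat_lit 385), (nat_lit 45)])) (.leaf .df)) (.node (.leaf (.cyc (nat_lit 28) [(nat_lit 310), (nat_lit 270), (nat_lit 719), (nat_lit 270), (nat_lit 310)])) (.leaf .df))))) (.node (.node (.node (.node (.leaf .df) (.leaf .df)) (.node (.leaf (.cyc (nat_lit 23) [(nat_lit 172), (nat_lit 585), (nat_lit 587), (nat_lit 585), (nat_lit 172)])) (.leaf .df))) (.node (.node (.leaf (.pin (nat_lit 6) [(nat_lit 1)] [])) (.leaf .df)) (.node (.leaf (.cyc (nat_lit 10) [(nat_lit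 285), (nat_lit 777), (nat_lit 636), (nat_lit 777), (nat_lit 285)])) (.leaf .df)))) (.node (.node (.node (.leaf .df) (.leaf .df)) (.node (.leaf (.cyc (nat_lit 37) [(nat_lit 228), (nat_lit 740), (nat_lit 741), (nat_lit 740), (nat_lit 228)])) (.leaf .df))) (.node (.node (.leaf (.cyc (nat_lit 12) [(nat_lit 53), (nat_lit 51), (nat_lit 91)])) (.leaf .df)) (.node (.leaf (.cyc (nat_lit 28) [(nat_lit 328), (nat_lit 327), (nat_lit 982), (nat_lit 963), (nat_lit 339)])) (.leaf .df))))))) (.node (.node (.node (.node (.node (.node (.leaf .df) (.leaf (.cyc (nat_lit 38) [(nat_lit 353), (nat_lit 999), (nat_lit 962), (nat_lit 999), (nat_lit 353)]))) (.node (.leaf (.cyc (nat_lit 29) [(nat_lit 119), (nat_lit 77), (nat_lit 420), (nat_lit 79), (nat_lit 123)])) (.leaf .df))) (.node (.node (.leaf .df) (.leaf .df)) (.node (.leaf (.cyc (nat_lit 30) [(nat_lit 201), (nat_lit 691), (nat_lit 249)])) (.leaf .df)))) (.node (.node (.node (.leaf .df) (.leaf .df))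 (.node (.leaf (.cyc (nat_lit 28) [(nat_lit 155), (nat_lit 550), (nat_lit 128), (nat_lit 127), (nat_lit 192)])) (.leaf .df))) (.node (.node (.leaf (.cyc (nat_lit 12) [(nat_lit 31), (nat_lit 9), (nat_lit 37)])) (.leaf .df)) (.node (.leaf (.cyc (nat_lit 12) [(nat_lit 267), (nat_lit 264), (nat_lit 304)])) (.leaf .df))))) (.node (.node (.node (.node (.leaf .df) (.leaf .df)) (.node (.leaf (.cyc (nat_lit 28) [(nat_lit 164), (nat_lit 509), (nat_lit 510), (nat_lit 509), (nat_lit 164)])) (.leaf .df))) (.node (.node (.leaf .df) (.leaf .df)) (.node (.leaf (.cyc (nat_lit 37) [(nat_lit 278), (nat_lit 757), (nat_lit 612), (nat_lit 757), (nat_lit 278)])) (.leaf .df)))) (.node (.node (.node (.leaf .df) (.leaf .df)) (.node (.leaf (.cyc (nat_lit 27) [(nat_lit 682), (nat_lit 684), (nat_lit 222)])) (.leaf .df))) (.node (.node (.leaf (.cyc (nat_lit 15) [(nat_lit 442), (nat_lit 445), (nat_lit 76)])) (.leaf .df)) (.node (.leaf (.cyc (nat_lit 15) [(nat_lit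 960), (nat_lit 909), (nat_lit 330)])) (.leaf .df)))))) (.node (.node (.node (.node (.node (.leaf .df) (.leaf .df)) (.node (.leaf (.cyc (nat_lit 17) [(nat_lit 91), (nat_lit 90), (nat_lit 146)])) (.leaf .df))) (.node (.node (.leaf .df) (.leaf .df)) (.node (.leaf (.cyc (nat_lit 29) [(nat_lit 771), (nat_lit 708), (nat_lit 707), (nat_lit 215), (nat_lit 264)])) (.leaf .df)))) (.node (.node (.node (.leaf .df) (.leaf .df)) (.node (.leaf (.cyc (nat_lit 38) [(nat_lit 139), (nat_lit 88), (nat_lit 87), (nat_lit 138), (nat_lit 207)])) (.leaf .df))) (.node (.node (.leaf (.cyc (nat_lit 31) [(nat_lit 62), (nat_lit 443), (nat_lit 41), (nat_lit 12), (nat_lit 43), (nat_lit 421), (nat_lit 43), (nat_lit 12), (nat_lit 41), (nat_lit 443), (nat_lit 62)])) (.leaf .df)) (.node (.leaf (.cyc (nat_lit 13) [(nat_lit 315), (nat_lit 277), (nat_lit 752), (nat_lit 277), (nat_lit 315)])) (.leaf .df))))) (.node (.node (.node (.node (.leaf .df) (.leaf .df)) (.node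 (.leaf (.cyc (nat_lit 28) [(nat_lit 179), (nat_lit 115), (nat_lit 469), (nat_lit 115), (nat_lit 179)])) (.leaf .df))) (.node (.node (.leaf (.pin (nat_lit 22) [(nat_lit 14), (nat_lit 15), (nat_lit 16), (nat_lit 17), (nat_lit 18), (nat_lit 19), (nat_lit 20), (nat_lit 21), (nat_lit 22), (nat_lit 23), (nat_lit 24), (nat_lit 25), (nat_lit 26), (nat_lit 27)] [(nat_lit 370), (nat_lit 0)])) (.leaf .df)) (.node (.leaf (.cyc (nat_lit 48) [(nat_lit 290), (nat_lit 792), (nat_lit 668), (nat_lit 605), (nat_lit 604), (nat_lit 603), (nat_lit 604), (nat_lit 605), (nat_lit 668), (nat_lit 792), (nat_lit 290)])) (.leaf .df)))) (.node (.node (.node (.leaf .df) (.leaf .df)) (.node (.leaf (.cyc (nat_lit 15) [(nat_lit 758), (nat_lit 757), (nat_lit 234)])) (.leaf .df))) (.node (.node (.leaf (.cyc (nat_lit 15) [(nat_lit 67), (nat_lit 452), (nat_lit 108)])) (.leaf .df)) (.node (.leaf (.cyc (nat_lit 16) [(nat_lit 997), (nat_lit 979), (nat_lit 345)])) (.leaf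 .df))))))))
noncomputable def kGP001 : BT Pf := .node kGP0010 kGP0011
noncomputable def kGP00 : BT Pf := .node kGP000 kGP001
noncomputable def kGP0100 : BT Pf := (.node (.node (.node (.node (.node (.node (.node (.leaf .df) (.leaf (.cyc (nat_lit 13) [(nat_lit 346), (nat_lit 986), (nat_lit 974), (nat_lit 986), (nat_lit 346)]))) (.node (.leaf (.cyc (nat_lit 41) [(nat_lit 97), (nat_lit 98), (nat_lit 513), (nat_lit 98), (nat_lit 97)])) (.leaf .df))) (.node (.node (.leaf .df) (.leaf .df)) (.node (.leaf (.cyc (nat_lit 31) [(nat_lit 237), (nat_lit 171), (nat_lit 611), (nat_lit 761), (nat_lit 760), (nat_lit 701), (nat_lit 760), (nat_lit 761), (nat_lit 611), (nat_lit 171), (nat_lit 237)])) (.leaf .df)))) (.node (.node (.node (.leaf .df) (.leaf .df)) (.node (.leaf (.cyc (nat_lit 34) [(nat_lit 121), (nat_lit 77), (nat_lit 472), (nat_lit 116), (nat_lit 181)])) (.leaf .df))) (.node (.node (.leaf (.cyc (nat_lit 5) [(nat_lit 372), (nat_lit 363),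 (nat_lit 1)])) (.leaf .df)) (.node (.leaf (.cyc (nat_lit 38) [(nat_lit 292), (nat_lit 855), (nat_lit 857), (nat_lit 855), (nat_lit 292)])) (.leaf .df))))) (.node (.node (.node (.node (.leaf .df) (.leaf .df)) (.node (.leaf (.cyc (nat_lit 23) [(nat_lit 114), (nat_lit 523), (nat_lit 568), (nat_lit 567), (nat_lit 149)])) (.leaf .df))) (.node (.node (.leaf .df) (.leaf .df)) (.node (.leaf (.cyc (nat_lit 37) [(nat_lit 268), (nat_lit 716), (nat_lit 573), (nat_lit 716), (nat_lit 268)])) (.leaf .df)))) (.node (.node (.node (.leaf .df) (.leaf .df)) (.node (.leaf (.cyc (nat_lit 14) [(nat_lit 670), (nat_lit 566), (nat_lit 141), (nat_lit 142), (nat_lit 212)])) (.leaf .df))) (.node (.node (.leaf (.cyc (nat_lit 34) [(nat_lit 63), (nat_lit 26), (nat_lit 444), (nat_lit 26), (nat_lit 63)])) (.leaf .df)) (.node (.leaf (.cyc (nat_lit 29) [(nat_lit 318), (nat_lit 912), (nat_lit 910), (nat_lit 912), (nat_lit 318)])) (.leaf .df)))))) (.node (.node (.node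 (.node (.node (.leaf .df) (.leaf (.cyc (nat_lit 15) [(nat_lit 340), (nat_lit 339), (nat_lit 355)]))) (.node (.leaf (.cyc (nat_lit 38) [(nat_lit 125), (nat_lit 80), (nat_lit 421), (nat_lit 80), (nat_lit 125)])) (.leaf .df))) (.node (.node (.leaf .df) (.leaf .df)) (.node (.leaf (.cyc (nat_lit 40) [(nat_lit 250), (nat_lit 251), (nat_lit 801), (nat_lit 251), (nat_lit 250)])) (.leaf .df)))) (.node (.node (.node (.leaf .df) (.leaf .df)) (.node (.leaf (.cyc (nat_lit 36) [(nat_lit 149), (nat_lit 92), (nat_lit 486), (nat_lit 130), (nat_lit 195)])) (.leaf .df))) (.node (.node (.leaf (.cyc (nat_lit 10) [(nat_lit 30), (nat_lit 9), (nat_lit 10), (nat_lit 11), (nat_lit 41)])) (.leaf .df)) (.node (.leaf (.cyc (nat_lit 13) [(nat_lit 307), (nat_lit 849), (nat_lit 848), (nat_lit 849), (nat_lit 307)])) (.leaf .df))))) (.node (.node (.node (.node (.leaf .df) (.leaf .df)) (.node (.leaf (.cyc (nat_lit 12) [(nat_lit 158), (nat_lit 500), (nat_lit 167)]))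 (.leaf .df))) (.node (.node (.leaf .df) (.leaf .df)) (.node (.leaf (.cyc (nat_lit 11) [(nat_lit 237), (nat_lit 171), (nat_lit 611), (nat_lit 233), (nat_lit 280)])) (.leaf .df)))) (.node (.node (.node (.leaf .df) (.leaf .df)) (.node (.leaf (.cyc (nat_lit 52) [(nat_lit 224), (nat_lit 592), (nat_lit 144), (nat_lit 145), (nat_lit 570), (nat_lit 569), (nat_lit 190), (nat_lit 665), (nat_lit 192), (nat_lit 668), (nat_lit 605), (nat_lit 659), (nat_lit 724), (nat_lit 219), (nat_lit 148), (nat_lit 149), (nat_lit 578), (nat_lit 525), (nat_lit 578), (nat_lit 149), (nat_lit 148), (nat_lit 219), (nat_lit 724), (nat_lit 659), (nat_lit 605), (nat_lit 668), (nat_lit 192), (nat_lit 665), (nat_lit 190), (nat_lit 569), (nat_lit 570), (nat_lit 145), (nat_lit 144), (nat_lit 592), (nat_lit 224)])) (.leaf .df))) (.node (.node (.leaf (.cyc (nat_lit 17) [(nat_lit 44), (nat_lit 43), (nat_lit 80)])) (.leaf .df)) (.node (.leaf (.cyc (nat_lit 13) [(nat_lit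 323), (nat_lit 291), (nat_lit 825), (nat_lit 301), (nat_lit 332)])) (.leaf .df))))))) (.node (.node (.node (.node (.node (.node (.leaf .df) (.leaf (.cyc (nat_lit 52) [(nat_lit 350), (nat_lit 335), (nat_lit 989), (nat_lit 991), (nat_lit 922), (nat_lit 302), (nat_lit 841), (nat_lit 271), (nat_lit 728), (nat_lit 712), (nat_lit 714), (nat_lit 176), (nat_lit 112), (nat_lit 71), (nat_lit 419), (nat_lit 443), (nat_lit 62), (nat_lit 423), (nat_lit 62), (nat_lit 443), (nat_lit 419), (nat_lit 71), (nat_lit 112), (nat_lit 176), (nat_lit 714), (nat_lit 712), (nat_lit 728), (nat_lit 271), (nat_lit 841), (nat_lit 302), (nat_lit 922), (nat_lit 991), (nat_lit 989), (nat_lit 335), (nat_lit 350)]))) (.node (.leaf (.cyc (nat_lit 15) [(nat_lit 504), (nat_lit 473), (nat_lit 117)])) (.leaf .df))) (.node (.node (.leaf .df) (.leaf .df)) (.node (.leaf (.cyc (nat_lit 14) [(nat_lit 699), (nat_lit 560), (nat_lit 538), (nat_lit 187), (nat_lit 244)])) (.leaf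 .df)))) (.node (.node (.node (.leaf .df) (.leaf .df)) (.node (.leaf (.cyc (nat_lit 16) [(nat_lit 188), (nat_lit 543), (nat_lit 188)])) (.leaf .df))) (.node (.node (.leaf (.cyc (nat_lit 12) [(nat_lit 382), (nat_lit 5), (nat_lit 33)])) (.leaf .df)) (.node (.leaf (.cyc (nat_lit 22) [(nat_lit 856), (nat_lit 819), (nat_lit 300)])) (.leaf .df))))) (.node (.node (.node (.node (.leaf .df) (.leaf .df)) (.node (.leaf (.cyc (nat_lit 22) [(nat_lit 159), (nat_lit 496), (nat_lit 159)])) (.leaf .df))) (.node (.node (.leaf .df) (.leaf .df)) (.node (.leaf (.cyc (nat_lit 31) [(nat_lit 274), (nat_lit 224), (nat_lit 592), (nat_lit 144), (nat_lit 90), (nat_lit 437), (nat_lit 90), (nat_lit 144), (nat_lit 592), (nat_lit 224), (nat_lit 274)])) (.leaf .df)))) (.node (.node (.node (.leaf .df) (.leaf .df)) (.node (.leaf (.cyc (nat_lit 10) [(nat_lit 168), (nat_lit 501), (nat_lit 493), (nat_lit 577), (nat_lit 219)])) (.leaf .df))) (.node (.node (.leaf (.cyc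 (nat_lit 14) [(nat_lit 43), (nat_lit 12), (nat_lit 41), (nat_lit 419), (nat_lit 71)])) (.leaf .df)) (.node (.leaf (.cyc (nat_lit 38) [(nat_lit 296), (nat_lit 255), (nat_lit 254), (nat_lit 295), (nat_lit 326)])) (.leaf .df)))))) (.node (.node (.node (.node (.node (.leaf .df) (.leaf .df)) (.node (.leaf (.cyc (nat_lit 30) [(nat_lit 550), (nat_lit 495), (nat_lit 141)])) (.leaf .df))) (.node (.node (.leaf .df) (.leaf .df)) (.node (.leaf (.cyc (nat_lit 41) [(nat_lit 258), (nat_lit 259), (nat_lit 817), (nat_lit 259), (nat_lit 258)])) (.leaf .df)))) (.node (.node (.node (.leaf .df) (.leaf .df)) (.node (.leaf (.cyc (nat_lit 16) [(nat_lit 163), (nat_lit 554), (nat_lit 199)])) (.leaf .df))) (.node (.node (.leaf (.cyc (nat_lit 28) [(nat_lit 49), (nat_lit 20), (nat_lit 411), (nat_lit 20), (nat_lit 49)])) (.leaf .df)) (.node (.leaf (.cyc (nat_lit 23) [(nat_lit 312), (nat_lit 273), (nat_lit 736), (nat_lit 273), (nat_lit 312)])) (.leaf .df)))))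 (.node (.node (.node (.node (.leaf .df) (.leaf .df)) (.node (.leaf (.cyc (nat_lit 16) [(nat_lit 175), (nat_lit 515), (nat_lit 175)])) (.leaf .df))) (.node (.node (.leaf (.pin (nat_lit 12) [(nat_lit 3), (nat_lit 5), (nat_lit 6)] [(nat_lit 0)])) (.leaf .df)) (.node (.leaf (.cyc (nat_lit 10) [(nat_lit 247), (nat_lit 672), (nat_lit 648), (nat_lit 782), (nat_lit 287)])) (.leaf .df)))) (.node (.node (.node (.leaf .df) (.leaf .df)) (.node (.leaf (.cyc (nat_lit 16) [(nat_lit 689), (nat_lit 687), (nat_lit 230)])) (.leaf .df))) (.node (.node (.leaf (.cyc (nat_lit 15) [(nat_lit 91), (nat_lit 438), (nat_lit 98)])) (.leaf .df)) (.node (.leaf (.cyc (nat_lit 17) [(nat_lit 342), (nat_lit 968), (nat_lit 342)])) (.leaf .df))))))))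
noncomputable def kGP0101 : BT Pf := (.node (.node (.node (.node (.node (.node (.node (.leaf .df) (.leaf (.cyc (nat_lit 38) [(nat_lit 348), (nat_lit 333), (nat_lit 923), (nat_lit 333), (nat_lit 348)]))) (.node (.leaf (.cyc (nat_lit 12) [(nat_lit 483), (nat_lit 465), (nat_lit 113)])) (.leaf .df))) (.node (.node (.leaf .df) (.leaf .df)) (.node (.leaf (.cyc (nat_lit 50) [(nat_lit 240), (nat_lit 633), (nat_lit 240)])) (.leaf .df)))) (.node (.node (.node (.leaf .df) (.leaf .df)) (.node (.leaf (.cyc (nat_lit 16) [(nat_lit 121), (nat_lit 119), (nat_lit 185)])) (.leaf .df))) (.node (.node (.leaf (.cyc (nat_lit 11) [(nat_lit 6), (nat_lit 370), (nat_lit 0), (nat_lit 367), (nat_lit 28)])) (.leaf .df)) (.node (.leaf (.cyc (nat_lit 15) [(nat_lit 295), (nat_lit 809), (nat_lit 295)])) (.leaf .df))))) (.node (.node (.node (.node (.leaf .df) (.leaf .df)) (.node (.leaf (.cyc (nat_lit 15) [(nat_lit 94), (nat_lit 93), (nat_lit 152)])) (.leaf .df)))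 (.node (.node (.leaf .df) (.leaf .df)) (.node (.leaf (.cyc (nat_lit 37) [(nat_lit 251), (nat_lit 730), (nat_lit 221), (nat_lit 728), (nat_lit 271)])) (.leaf .df)))) (.node (.node (.node (.leaf .df) (.leaf .df)) (.node (.leaf (.cyc (nat_lit 13) [(nat_lit 176), (nat_lit 112), (nat_lit 113), (nat_lit 568), (nat_lit 214)])) (.leaf .df))) (.node (.node (.leaf (.cyc (nat_lit 17) [(nat_lit 31), (nat_lit 30), (nat_lit 68)])) (.leaf .df)) (.node (.leaf (.cyc (nat_lit 12) [(nat_lit 323), (nat_lit 893), (nat_lit 323)])) (.leaf .df)))))) (.node (.node (.node (.node (.node (.leaf .df) (.leaf (.cyc (nat_lit 38) [(nat_lit 357), (nat_lit 355), (nat_lit 1005), (nat_lit 355), (nat_lit 357)]))) (.node (.leaf (.cyc (nat_lit 36) [(nat_lit 499), (nat_lit 107), (nat_lit 552), (nat_lit 551), (nat_lit 133)])) (.leaf .df))) (.node (.node (.leaf .df) (.leaf .df)) (.node (.leaf (.cyc (nat_lit 17) [(nat_lit 203), (nat_lit 202), (nat_lit 255)])) (.leaf .df))))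 (.node (.node (.node (.leaf .df) (.leaf .df)) (.node (.leaf (.cyc (nat_lit 36) [(nat_lit 166), (nat_lit 500), (nat_lit 157), (nat_lit 678), (nat_lit 197)])) (.leaf .df))) (.node (.node (.leaf (.cyc (nat_lit 13) [(nat_lit 44), (nat_lit 13), (nat_lit 391), (nat_lit 13), (nat_lit 44)])) (.leaf .df)) (.node (.leaf (.cyc (nat_lit 16) [(nat_lit 310), (nat_lit 839), (nat_lit 310)])) (.leaf .df))))) (.node (.node (.node (.node (.leaf .df) (.leaf .df)) (.node (.leaf (.cyc (nat_lit 36) [(nat_lit 125), (nat_lit 481), (nat_lit 451), (nat_lit 502), (nat_lit 171)])) (.leaf .df))) (.node (.node (.leaf (.pin (nat_lit 4) [] [])) (.leaf .df)) (.node (.leaf (.cyc (nat_lit 38) [(nat_lit 236), (nat_lit 170), (nat_lit 169), (nat_lit 235), (nat_lit 283)])) (.leaf .df)))) (.node (.node (.node (.leaf .df) (.leaf .df)) (.node (.leaf (.cyc (nat_lit 50) [(nat_lit 194), (nat_lit 677), (nat_lit 227)])) (.leaf .df))) (.node (.node (.leaf (.cyc (nat_lit 17)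 [(nat_lit 88), (nat_lit 434), (nat_lit 88)])) (.leaf .df)) (.node (.leaf (.cyc (nat_lit 57) [(nat_lit 1000), (nat_lit 977), (nat_lit 990), (nat_lit 989), (nat_lit 335)])) (.leaf .df))))))) (.node (.node (.node (.node (.node (.node (.leaf .df) (.leaf (.cyc (nat_lit 23) [(nat_lit 353), (nat_lit 1028), (nat_lit 1030), (nat_lit 1028), (nat_lit 353)]))) (.node (.leaf (.cyc (nat_lit 44) [(nat_lit 537), (nat_lit 100), (nat_lit 101)])) (.leaf .df))) (.node (.node (.leaf .df) (.leaf .df)) (.node (.leaf (.cyc (nat_lit 14) [(nat_lit 248), (nat_lit 680), (nat_lit 583), (nat_lit 680), (nat_lit 248)])) (.leaf .df)))) (.node (.node (.node (.leaf .df) (.leaf .df)) (.node (.leaf (.cyc (nat_lit 35) [(nat_lit 130), (nat_lit 83), (nat_lit 485), (nat_lit 127), (nat_lit 191)])) (.leaf .df))) (.node (.node (.leaf (.cyc (nat_lit 21) [(nat_lit 20), (nat_lit 408), (nat_lit 409), (nat_lit 408), (nat_lit 20)])) (.leaf .df)) (.node (.leaf (.cyc (nat_lit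 35) [(nat_lit 302), (nat_lit 841), (nat_lit 840), (nat_lit 841), (nat_lit 302)])) (.leaf .df))))) (.node (.node (.node (.node (.leaf .df) (.leaf .df)) (.node (.leaf (.cyc (nat_lit 13) [(nat_lit 162), (nat_lit 596), (nat_lit 595), (nat_lit 596), (nat_lit 162)])) (.leaf .df))) (.node (.node (.leaf .df) (.leaf .df)) (.node (.leaf (.cyc (nat_lit 36) [(nat_lit 256), (nat_lit 696), (nat_lit 207), (nat_lit 756), (nat_lit 278)])) (.leaf .df)))) (.node (.node (.node (.leaf .df) (.leaf .df)) (.node (.leaf (.cyc (nat_lit 57) [(nat_lit 729), (nat_lit 643), (nat_lit 134), (nat_lit 135), (nat_lit 201)])) (.leaf .df))) (.node (.node (.leaf (.cyc (nat_lit 29) [(nat_lit 65), (nat_lit 381), (nat_lit 11), (nat_lit 39), (nat_lit 75)])) (.leaf .df)) (.node (.leaf (.cyc (nat_lit 11) [(nat_lit 975), (nat_lit 959), (nat_lit 870), (nat_lit 298), (nat_lit 329)])) (.leaf .df)))))) (.node (.node (.node (.node (.node (.leaf .df) (.leaf .df)) (.node (.leaf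 (.cyc (nat_lit 23) [(nat_lit 145), (nat_lit 90), (nat_lit 437), (nat_lit 90), (nat_lit 145)])) (.leaf .df))) (.node (.node (.leaf .df) (.leaf .df)) (.node (.leaf (.cyc (nat_lit 37) [(nat_lit 263), (nat_lit 706), (nat_lit 671), (nat_lit 706), (nat_lit 263)])) (.leaf .df)))) (.node (.node (.node (.leaf .df) (.leaf .df)) (.node (.leaf (.cyc (nat_lit 28) [(nat_lit 163), (nat_lit 100), (nat_lit 488), (nat_lit 137), (nat_lit 205)])) (.leaf .df))) (.node (.node (.leaf (.cyc (nat_lit 30) [(nat_lit 60), (nat_lit 25), (nat_lit 62)])) (.leaf .df)) (.node (.leaf (.cyc (nat_lit 19) [(nat_lit 305), (nat_lit 953)])) (.leaf .df))))) (.node (.node (.node (.node (.leaf .df) (.leaf .df)) (.node (.leaf (.cyc (nat_lit 35) [(nat_lit 178), (nat_lit 115), (nat_lit 468), (nat_lit 115), (nat_lit 178)])) (.leaf .df))) (.node (.node (.leaf (.pin (nat_lit 20) [] [])) (.leaf .df)) (.node (.leaf (.cyc (nat_lit 10) [(nat_lit 273), (nat_lit 734), (nat_lit 668),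 (nat_lit 792), (nat_lit 290)])) (.leaf .df)))) (.node (.node (.node (.leaf .df) (.leaf .df)) (.node (.leaf (.cyc (nat_lit 12) [(nat_lit 725), (nat_lit 722), (nat_lit 234)])) (.leaf .df))) (.node (.node (.leaf (.cyc (nat_lit 12) [(nat_lit 66), (nat_lit 65), (nat_lit 108)])) (.leaf .df)) (.node (.leaf (.cyc (nat_lit 11) [(nat_lit 344), (nat_lit 326), (nat_lit 905), (nat_lit 326), (nat_lit 344)])) (.leaf .df))))))))
noncomputable def kGP010 : BT Pf := .node kGP0100 kGP0101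
noncomputable def kGP0110 : BT Pf := (.node (.node (.node (.node (.node (.node (.node (.leaf .df) (.leaf (.cyc (nat_lit 13) [(nat_lit 347), (nat_lit 991), (nat_lit 921), (nat_lit 991), (nat_lit 347)]))) (.node (.leaf (.cyc (nat_lit 16) [(nat_lit 111), (nat_lit 463), (nat_lit 111)])) (.leaf .df))) (.node (.node (.leaf .df) (.leaf .df)) (.node (.leaf (.cyc (nat_lit 30) [(nat_lit 729), (nat_lit 644), (nat_lit 239)])) (.leaf .df)))) (.node (.node (.node (.leaf .df) (.leaf .df)) (.node (.leaf (.cyc (nat_lit 35) [(nat_lit 154), (nat_lit 550), (nat_lit 548), (nat_lit 532), (nat_lit 183)])) (.leaf .df))) (.node (.node (.leaf (.cyc (nat_lit 4) [(nat_lit 1), (nat_lit 376), (nat_lit 1)])) (.leaf .df)) (.node (.leaf (.cyc (nat_lit 12) [(nat_lit 255), (nat_lit 252), (nat_lit 294)])) (.leaf .df))))) (.node (.node (.node (.node (.leaf .df) (.leaf .df)) (.node (.leaf (.cyc (nat_lit 36) [(nat_lit 151), (nat_lit 577), (nat_lit 580), (nat_lit 577),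 (nat_lit 151)])) (.leaf .df))) (.node (.node (.leaf .df) (.leaf .df)) (.node (.leaf (.cyc (nat_lit 30) [(nat_lit 270), (nat_lit 720), (nat_lit 270)])) (.leaf .df)))) (.node (.node (.node (.leaf .df) (.leaf .df)) (.node (.leaf (.cyc (nat_lit 1) [(nat_lit 709), (nat_lit 700), (nat_lit 209)])) (.leaf .df))) (.node (.node (.leaf (.cyc (nat_lit 17) [(nat_lit 64), (nat_lit 27), (nat_lit 66)])) (.leaf .df)) (.node (.leaf (.cyc (nat_lit 15) [(nat_lit 321), (nat_lit 886), (nat_lit 321)])) (.leaf .df)))))) (.node (.node (.node (.node (.node (.leaf .df) (.leaf (.cyc (nat_lit 38) [(nat_lit 356), (nat_lit 354), (nat_lit 1001), (nat_lit 354), (nat_lit 356)]))) (.node (.leaf (.cyc (nat_lit 46) [(nat_lit 548), (nat_lit 532), (nat_lit 118), (nat_lit 476), (nat_lit 60), (nat_lit 24), (nat_lit 59), (nat_lit 451), (nat_lit 454), (nat_lit 455), (nat_lit 404), (nat_lit 403), (nat_lit 402), (nat_lit 15), (nat_lit 14), (nat_lit 377), (nat_lit 375),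 (nat_lit 14), (nat_lit 379), (nat_lit 361), (nat_lit 3), (nat_lit 7), (nat_lit 398), (nat_lit 30), (nat_lit 9), (nat_lit 10), (nat_lit 39), (nat_lit 445), (nat_lit 62), (nat_lit 26), (nat_lit 64), (nat_lit 451), (nat_lit 441), (nat_lit 439), (nat_lit 95)])) (.leaf .df))) (.node (.node (.leaf .df) (.leaf .df)) (.node (.leaf (.cyc (nat_lit 2) [(nat_lit 805), (nat_lit 755), (nat_lit 625), (nat_lit 755), (nat_lit 805)])) (.leaf .df)))) (.node (.node (.node (.leaf .df) (.leaf .df)) (.node (.leaf (.cyc (nat_lit 12) [(nat_lit 132), (nat_lit 130), (nat_lit 677)])) (.leaf .df))) (.node (.node (.leaf (.cyc (nat_lit 25) [(nat_lit 43), (nat_lit 13), (nat_lit 387), (nat_lit 386), (nat_lit 364), (nat_lit 369), (nat_lit 30), (nat_lit 418), (nat_lit 41), (nat_lit 381), (nat_lit 27)])) (.leaf .df)) (.node (.leaf (.cyc (nat_lit 36) [(nat_lit 309), (nat_lit 924), (nat_lit 926), (nat_lit 924), (nat_lit 309)])) (.leaf .df))))) (.node (.node (.node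 (.node (.leaf .df) (.leaf .df)) (.node (.leaf (.cyc (nat_lit 23) [(nat_lit 169), (nat_lit 168), (nat_lit 612), (nat_lit 168), (nat_lit 169)])) (.leaf .df))) (.node (.node (.leaf (.pin (nat_lit 0) [] [])) (.leaf .df)) (.node (.leaf (.cyc (nat_lit 28) [(nat_lit 257), (nat_lit 803), (nat_lit 867), (nat_lit 280), (nat_lit 281)])) (.leaf .df)))) (.node (.node (.node (.leaf .df) (.leaf .df)) (.node (.leaf (.cyc (nat_lit 30) [(nat_lit 666), (nat_lit 677), (nat_lit 226)])) (.leaf .df))) (.node (.node (.leaf (.cyc (nat_lit 11) [(nat_lit 52), (nat_lit 21), (nat_lit 20), (nat_lit 47), (nat_lit 83)])) (.leaf .df)) (.node (.leaf (.cyc (nat_lit 12) [(nat_lit 315), (nat_lit 314), (nat_lit 336)])) (.leaf .df))))))) (.node (.node (.node (.node (.node (.node (.leaf .df) (.leaf (.cyc (nat_lit 23) [(nat_lit 352), (nat_lit 1043), (nat_lit 1044), (nat_lit 1043), (nat_lit 352)]))) (.node (.leaf (.cyc (nat_lit 11) [(nat_lit 115), (nat_lit 73), (nat_lit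 417), (nat_lit 77), (nat_lit 120)])) (.leaf .df))) (.node (.node (.leaf .df) (.leaf .df)) (.node (.leaf (.cyc (nat_lit 14) [(nat_lit 245), (nat_lit 189), (nat_lit 545), (nat_lit 189), (nat_lit 245)])) (.leaf .df)))) (.node (.node (.node (.leaf .df) (.leaf .df)) (.node (.leaf (.cyc (nat_lit 30) [(nat_lit 190), (nat_lit 547), (nat_lit 190)])) (.leaf .df))) (.node (.node (.leaf (.cyc (nat_lit 13) [(nat_lit 36), (nat_lit 371), (nat_lit 390), (nat_lit 371), (nat_lit 36)])) (.leaf .df)) (.node (.leaf (.cyc (nat_lit 23) [(nat_lit 831), (nat_lit 269), (nat_lit 917), (nat_lit 916), (nat_lit 301)])) (.leaf .df))))) (.node (.node (.node (.node (.leaf .df) (.leaf .df)) (.node (.leaf (.cyc (nat_lit 30) [(nat_lit 160), (nat_lit 514), (nat_lit 160)])) (.leaf .df))) (.node (.node (.leaf .df) (.leaf .df)) (.node (.leaf (.cyc (nat_lit 34) [(nat_lit 227), (nat_lit 157), (nat_lit 156), (nat_lit 224), (nat_lit 275)])) (.leaf .df)))) (.node (.node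 (.node (.leaf .df) (.leaf .df)) (.node (.leaf (.cyc (nat_lit 12) [(nat_lit 152), (nat_lit 577), (nat_lit 220)])) (.leaf .df))) (.node (.node (.leaf (.cyc (nat_lit 38) [(nat_lit 73), (nat_lit 37), (nat_lit 389), (nat_lit 37), (nat_lit 73)])) (.leaf .df)) (.node (.leaf (.cyc (nat_lit 31) [(nat_lit 327), (nat_lit 296), (nat_lit 810), (nat_lit 697), (nat_lit 694), (nat_lit 695), (nat_lit 634), (nat_lit 240), (nat_lit 285), (nat_lit 319), (nat_lit 963)])) (.leaf .df)))))) (.node (.node (.node (.node (.node (.leaf .df) (.leaf .df)) (.node (.leaf (.cyc (nat_lit 22) [(nat_lit 551), (nat_lit 535), (nat_lit 565)])) (.leaf .df))) (.node (.node (.leaf .df) (.leaf .df)) (.node (.leaf (.cyc (nat_lit 37) [(nat_lit 261), (nat_lit 211), (nat_lit 561), (nat_lit 211), (nat_lit 261)])) (.leaf .df)))) (.node (.node (.node (.leaf .df) (.leaf .df)) (.node (.leaf (.cyc (nat_lit 35) [(nat_lit 601), (nat_lit 538), (nat_lit 536), (nat_lit 134), (nat_lit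 200)])) (.leaf .df))) (.node (.node (.leaf (.cyc (nat_lit 22) [(nat_lit 51), (nat_lit 22), (nat_lit 54)])) (.leaf .df)) (.node (.leaf (.cyc (nat_lit 27) [(nat_lit 313), (nat_lit 848), (nat_lit 313)])) (.leaf .df))))) (.node (.node (.node (.node (.leaf .df) (.leaf .df)) (.node (.leaf (.cyc (nat_lit 15) [(nat_lit 176), (nat_lit 521), (nat_lit 176)])) (.leaf .df))) (.node (.node (.leaf (.pin (nat_lit 16) [] [])) (.leaf .df)) (.node (.leaf (.cyc (nat_lit 37) [(nat_lit 288), (nat_lit 819), (nat_lit 820), (nat_lit 819), (nat_lit 288)])) (.leaf .df)))) (.node (.node (.node (.leaf .df) (.leaf .df)) (.node (.leaf (.cyc (nat_lit 9) [(nat_lit 756), (nat_lit 700), (nat_lit 208)])) (.leaf .df))) (.node (.node (.leaf (.cyc (nat_lit 12) [(nat_lit 59), (nat_lit 57), (nat_lit 105)])) (.leaf .df)) (.node (.leaf (.cyc (nat_lit 15) [(nat_lit 999), (nat_lit 977), (nat_lit 343)])) (.leaf .df))))))))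
noncomputable def kGP0111 : BT Pf := (.node (.node (.node (.node (.node (.node (.node (.leaf .df) (.leaf (.cyc (nat_lit 38) [(nat_lit 349), (nat_lit 334), (nat_lit 928), (nat_lit 334), (nat_lit 349)]))) (.node (.leaf (.cyc (nat_lit 30) [(nat_lit 115), (nat_lit 470), (nat_lit 115)])) (.leaf .df))) (.node (.node (.leaf .df) (.leaf .df)) (.node (.leaf (.cyc (nat_lit 16) [(nat_lit 184), (nat_lit 183), (nat_lit 242)])) (.leaf .df)))) (.node (.node (.node (.leaf .df) (.leaf .df)) (.node (.leaf (.cyc (nat_lit 11) [(nat_lit 186), (nat_lit 642), (nat_lit 641), (nat_lit 642), (nat_lit 186)])) (.leaf .df))) (.node (.node (.leaf (.cyc (nat_lit 11) [(nat_lit 8), (nat_lit 371), (nat_lit 364), (nat_lit 369), (nat_lit 30)])) (.leaf .df)) (.node (.leaf (.cyc (nat_lit 16) [(nat_lit 299), (nat_lit 814), (nat_lit 299)])) (.leaf .df))))) (.node (.node (.node (.node (.leaf .df) (.leaf .df)) (.node (.leaf (.cyc (nat_lit 27) [(nat_lit 140), (nat_lit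 495), (nat_lit 154)])) (.leaf .df))) (.node (.node (.leaf .df) (.leaf .df)) (.node (.leaf (.cyc (nat_lit 29) [(nat_lit 222), (nat_lit 153), (nat_lit 581), (nat_lit 221), (nat_lit 272)])) (.leaf .df)))) (.node (.node (.node (.leaf .df) (.leaf .df)) (.node (.leaf (.cyc (nat_lit 50) [(nat_lit 217), (nat_lit 571), (nat_lit 217)])) (.leaf .df))) (.node (.node (.leaf (.cyc (nat_lit 23) [(nat_lit 69), (nat_lit 449), (nat_lit 450), (nat_lit 449), (nat_lit 69)])) (.leaf .df)) (.node (.leaf (.cyc (nat_lit 27) [(nat_lit 324), (nat_lit 898), (nat_lit 324)])) (.leaf .df)))))) (.node (.node (.node (.node (.node (.leaf .df) (.leaf .df)) (.node (.leaf (.cyc (nat_lit 29) [(nat_lit 136), (nat_lit 87), (nat_lit 433), (nat_lit 87), (nat_lit 136)])) (.leaf .df))) (.node (.node (.leaf .df) (.leaf .df)) (.node (.leaf (.cyc (nat_lit 36) [(nat_lit 258), (nat_lit 204), (nat_lit 559), (nat_lit 204), (nat_lit 258)])) (.leaf .df)))) (.node (.node (.node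 (.leaf .df) (.leaf .df)) (.node (.leaf (.cyc (nat_lit 30) [(nat_lit 134), (nat_lit 555), (nat_lit 198)])) (.leaf .df))) (.node (.node (.leaf (.cyc (nat_lit 15) [(nat_lit 46), (nat_lit 384), (nat_lit 46)])) (.leaf .df)) (.node (.leaf (.cyc (nat_lit 10) [(nat_lit 286), (nat_lit 241), (nat_lit 729), (nat_lit 272), (nat_lit 311)])) (.leaf .df))))) (.node (.node (.node (.node (.leaf .df) (.leaf .df)) (.node (.leaf (.cyc (nat_lit 38) [(nat_lit 172), (nat_lit 106), (nat_lit 448), (nat_lit 106), (nat_lit 172)])) (.leaf .df))) (.node (.node (.leaf (.pin (nat_lit 8) [] [])) (.leaf .df)) (.node (.leaf (.cyc (nat_lit 30) [(nat_lit 805), (nat_lit 780), (nat_lit 286)])) (.leaf .df)))) (.node (.node (.node (.leaf .df) (.leaf .df)) (.node (.leaf (.cyc (nat_lit 39) [(nat_lit 180), (nat_lit 116), (nat_lit 507), (nat_lit 506), (nat_lit 454), (nat_lit 451), (nat_lit 441), (nat_lit 497), (nat_lit 593), (nat_lit 228), (nat_lit 747)])) (.leaf .df)))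 (.node (.node (.leaf (.cyc (nat_lit 17) [(nat_lit 53), (nat_lit 52), (nat_lit 94)])) (.leaf .df)) (.node (.leaf (.cyc (nat_lit 13) [(nat_lit 340), (nat_lit 319), (nat_lit 875), (nat_lit 319), (nat_lit 340)])) (.leaf .df))))))) (.node (.node (.node (.node (.node (.node (.leaf .df) (.leaf (.cyc (nat_lit 17) [(nat_lit 343), (nat_lit 1000), (nat_lit 354)]))) (.node (.leaf (.cyc (nat_lit 30) [(nat_lit 509), (nat_lit 511), (nat_lit 124)])) (.leaf .df))) (.node (.node (.leaf .df) (.leaf .df)) (.node (.leaf (.cyc (nat_lit 11) [(nat_lit 249), (nat_lit 692), (nat_lit 636), (nat_lit 692), (nat_lit 249)])) (.leaf .df)))) (.node (.node (.node (.leaf .df) (.leaf .df)) (.node (.leaf (.cyc (nat_lit 17) [(nat_lit 129), (nat_lit 127), (nat_lit 193)])) (.leaf .df))) (.node (.node (.leaf (.cyc (nat_lit 16) [(nat_lit 12), (nat_lit 11), (nat_lit 38)])) (.leaf .df)) (.node (.leaf (.cyc (nat_lit 13) [(nat_lit 304), (nat_lit 828), (nat_lit 772), (nat_lit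 828), (nat_lit 304)])) (.leaf .df))))) (.node (.node (.node (.node (.leaf .df) (.leaf .df)) (.node (.leaf (.cyc (nat_lit 16) [(nat_lit 156), (nat_lit 500), (nat_lit 165)])) (.leaf .df))) (.node (.node (.leaf .df) (.leaf .df)) (.node (.leaf (.cyc (nat_lit 36) [(nat_lit 279), (nat_lit 759), (nat_lit 741), (nat_lit 759), (nat_lit 279)])) (.leaf .df)))) (.node (.node (.node (.leaf .df) (.leaf .df)) (.node (.leaf (.cyc (nat_lit 16) [(nat_lit 155), (nat_lit 154), (nat_lit 223)])) (.leaf .df))) (.node (.node (.leaf (.cyc (nat_lit 17) [(nat_lit 42), (nat_lit 41), (nat_lit 78)])) (.leaf .df)) (.node (.leaf (.cyc (nat_lit 35) [(nat_lit 318), (nat_lit 284), (nat_lit 830), (nat_lit 918), (nat_lit 331)])) (.leaf .df)))))) (.node (.node (.node (.node (.node (.leaf .df) (.leaf .df)) (.node (.leaf (.cyc (nat_lit 23) [(nat_lit 147), (nat_lit 572), (nat_lit 573), (nat_lit 572), (nat_lit 147)])) (.leaf .df))) (.node (.node (.leaf .df) (.leaf .df))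 (.node (.leaf (.cyc (nat_lit 16) [(nat_lit 829), (nat_lit 264), (nat_lit 266)])) (.leaf .df)))) (.node (.node (.node (.leaf .df) (.leaf .df)) (.node (.leaf (.cyc (nat_lit 11) [(nat_lit 209), (nat_lit 139), (nat_lit 490), (nat_lit 139), (nat_lit 209)])) (.leaf .df))) (.node (.node (.leaf (.cyc (nat_lit 4) [(nat_lit 25), (nat_lit 444), (nat_lit 25), (nat_lit 61)])) (.leaf .df)) (.node (.leaf (.cyc (nat_lit 50) [(nat_lit 316), (nat_lit 864), (nat_lit 316)])) (.leaf .df))))) (.node (.node (.node (.node (.leaf .df) (.leaf .df)) (.node (.leaf (.cyc (nat_lit 31) [(nat_lit 180), (nat_lit 116), (nat_lit 507), (nat_lit 508), (nat_lit 457), (nat_lit 396), (nat_lit 457), (nat_lit 508), (nat_lit 507), (nat_lit 116), (nat_lit 180)])) (.leaf .df))) (.node (.node (.leaf (.cyc (nat_lit 1) [(nat_lit 15), (nat_lit 379), (nat_lit 3)])) (.leaf .df)) (.node (.leaf (.cyc (nat_lit 23) [(nat_lit 291), (nat_lit 290), (nat_lit 892), (nat_lit 290), (nat_lit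 291)])) (.leaf .df)))) (.node (.node (.node (.leaf .df) (.leaf .df)) (.node (.leaf (.cyc (nat_lit 17) [(nat_lit 235), (nat_lit 614), (nat_lit 235)])) (.leaf .df))) (.node (.node (.leaf (.cyc (nat_lit 37) [(nat_lit 109), (nat_lit 455), (nat_lit 404), (nat_lit 455), (nat_lit 109)])) (.leaf .df)) (.node (.leaf (.cyc (nat_lit 34) [(nat_lit 345), (nat_lit 326), (nat_lit 906), (nat_lit 326), (nat_lit 345)])) (.leaf .df))))))))
noncomputable def kGP011 : BT Pf := .node kGP0110 kGP0111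
noncomputable def kGP01 : BT Pf := .node kGP010 kGP011
noncomputable def kGP0 : BT Pf := .node kGP00 kGP01
noncomputable def kGP1000 : BT Pf := (.node (.node (.node (.node (.node (.node (.node (.leaf .df) (.leaf (.cyc (nat_lit 15) [(nat_lit 333), (nat_lit 985), (nat_lit 346)]))) (.node (.leaf (.cyc (nat_lit 40) [(nat_lit 497), (nat_lit 102), (nat_lit 512), (nat_lit 102), (nat_lit 497)])) (.leaf .df))) (.node (.node (.leaf .df) (.leaf .df)) (.node (.leaf (.cyc (nat_lit 10) [(nat_lit 237), (nat_lit 618), (nat_lit 545), (nat_lit 618), (nat_lit 237)])) (.leaf .df)))) (.node (.node (.node (.leaf .df) (.leaf .df)) (.node (.leaf (.cyc (nat_lit 28) [(nat_lit 181), (nat_lit 180), (nat_lit 638), (nat_lit 180), (nat_lit 181)])) (.leaf .df))) (.node (.node (.leaf (.cyc (nat_lit 4) [(nat_lit 7), (nat_lit 382), (nat_lit 16)])) (.leaf .df)) (.node (.leaf (.cyc (nat_lit 37) [(nat_lit 292), (nat_lit 891), (nat_lit 892), (nat_lit 891), (nat_lit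 292)])) (.leaf .df))))) (.node (.node (.node (.node (.leaf .df) (.leaf .df)) (.node (.leaf (.cyc (nat_lit 16) [(nat_lit 93), (nat_lit 92), (nat_lit 148)])) (.leaf .df))) (.node (.node (.leaf .df) (.leaf .df)) (.node (.leaf (.cyc (nat_lit 23) [(nat_lit 268), (nat_lit 739), (nat_lit 741), (nat_lit 739), (nat_lit 268)])) (.leaf .df)))) (.node (.node (.node (.leaf .df) (.leaf .df)) (.node (.leaf (.cyc (nat_lit 30) [(nat_lit 668), (nat_lit 591), (nat_lit 212)])) (.leaf .df))) (.node (.node (.leaf (.cyc (nat_lit 28) [(nat_lit 32), (nat_lit 6), (nat_lit 380), (nat_lit 27), (nat_lit 63)])) (.leaf .df)) (.node (.leaf (.cyc (nat_lit 11) [(nat_lit 317), (nat_lit 283), (nat_lit 766), (nat_lit 283), (nat_lit 317)])) (.leaf .df)))))) (.node (.node (.node (.node (.node (.leaf .df) (.leaf (.cyc (nat_lit 17) [(nat_lit 1021), (nat_lit 1004), (nat_lit 355)]))) (.node (.leaf (.cyc (nat_lit 23) [(nat_lit 125), (nat_lit 482), (nat_lit 426), (nat_lit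 482), (nat_lit 125)])) (.leaf .df))) (.node (.node (.leaf .df) (.leaf .df)) (.node (.leaf (.cyc (nat_lit 39) [(nat_lit 799), (nat_lit 251), (nat_lit 201), (nat_lit 655), (nat_lit 244), (nat_lit 787), (nat_lit 244), (nat_lit 655), (nat_lit 201), (nat_lit 251), (nat_lit 799)])) (.leaf .df)))) (.node (.node (.node (.leaf .df) (.leaf .df)) (.node (.leaf (.cyc (nat_lit 51) [(nat_lit 194), (nat_lit 130), (nat_lit 83), (nat_lit 485), (nat_lit 128), (nat_lit 549), (nat_lit 111), (nat_lit 463), (nat_lit 464), (nat_lit 463), (nat_lit 111), (nat_lit 549), (nat_lit 128), (nat_lit 485), (nat_lit 83), (nat_lit 130), (nat_lit 194)])) (.leaf .df))) (.node (.node (.leaf (.cyc (nat_lit 17) [(nat_lit 37), (nat_lit 10), (nat_lit 40)])) (.leaf .df)) (.node (.leaf (.cyc (nat_lit 17) [(nat_lit 267), (nat_lit 265), (nat_lit 307)])) (.leaf .df))))) (.node (.node (.node (.node (.leaf .df) (.leaf .df)) (.node (.leaf (.cyc (nat_lit 37) [(nat_lit 166), (nat_lit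 165), (nat_lit 607), (nat_lit 165), (nat_lit 166)])) (.leaf .df))) (.node (.node (.leaf .df) (.leaf .df)) (.node (.leaf (.cyc (nat_lit 10) [(nat_lit 805), (nat_lit 754), (nat_lit 239), (nat_lit 776), (nat_lit 280)])) (.leaf .df)))) (.node (.node (.node (.leaf .df) (.leaf .df)) (.node (.leaf (.cyc (nat_lit 36) [(nat_lit 224), (nat_lit 606), (nat_lit 607), (nat_lit 606), (nat_lit 224)])) (.leaf .df))) (.node (.node (.leaf (.cyc (nat_lit 12) [(nat_lit 64), (nat_lit 422), (nat_lit 80)])) (.leaf .df)) (.node (.leaf (.cyc (nat_lit 15) [(nat_lit 315), (nat_lit 919), (nat_lit 332)])) (.leaf .df))))))) (.node (.node (.node (.node (.node (.node (.leaf .df) (.leaf (.cyc (nat_lit 37) [(nat_lit 350), (nat_lit 1002), (nat_lit 1001), (nat_lit 1002), (nat_lit 350)]))) (.node (.leaf (.cyc (nat_lit 12) [(nat_lit 76), (nat_lit 75), (nat_lit 117)])) (.leaf .df))) (.node (.node (.leaf .df) (.leaf .df)) (.node (.leaf (.cyc (nat_lit 30) [(nat_lit 698),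 (nat_lit 656), (nat_lit 244)])) (.leaf .df)))) (.node (.node (.node (.leaf .df) (.leaf .df)) (.node (.leaf (.cyc (nat_lit 34) [(nat_lit 177), (nat_lit 114), (nat_lit 479), (nat_lit 122), (nat_lit 187)])) (.leaf .df))) (.node (.node (.leaf (.cyc (nat_lit 16) [(nat_lit 7), (nat_lit 5), (nat_lit 32)])) (.leaf .df)) (.node (.leaf (.cyc (nat_lit 59) [(nat_lit 282), (nat_lit 763), (nat_lit 617), (nat_lit 611), (nat_lit 233), (nat_lit 280), (nat_lit 867), (nat_lit 803), (nat_lit 258), (nat_lit 815), (nat_lit 299)])) (.leaf .df))))) (.node (.node (.node (.node (.leaf .df) (.leaf .df)) (.node (.leaf (.cyc (nat_lit 17) [(nat_lit 98), (nat_lit 96), (nat_lit 158)])) (.leaf .df))) (.node (.node (.leaf .df) (.leaf .df)) (.node (.leaf (.cyc (nat_lit 11) [(nat_lit 265), (nat_lit 215), (nat_lit 592), (nat_lit 224), (nat_lit 274)])) (.leaf .df)))) (.node (.node (.node (.leaf .df) (.leaf .df)) (.node (.leaf (.cyc (nat_lit 29) [(nat_lit 154), (nat_lit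 95), (nat_lit 492), (nat_lit 147), (nat_lit 218)])) (.leaf .df))) (.node (.node (.leaf (.cyc (nat_lit 10) [(nat_lit 449), (nat_lit 401), (nat_lit 8), (nat_lit 35), (nat_lit 71)])) (.leaf .df)) (.node (.leaf (.cyc (nat_lit 64) [(nat_lit 318), (nat_lit 284), (nat_lit 830), (nat_lit 266), (nat_lit 215), (nat_lit 144), (nat_lit 143), (nat_lit 567), (nat_lit 92), (nat_lit 93), (nat_lit 151), (nat_lit 680), (nat_lit 679), (nat_lit 248), (nat_lit 293), (nat_lit 899), (nat_lit 325)])) (.leaf .df)))))) (.node (.node (.node (.node (.node (.leaf .df) (.leaf .df)) (.node (.leaf (.cyc (nat_lit 29) [(nat_lit 140), (nat_lit 89), (nat_lit 435), (nat_lit 89), (nat_lit 140)])) (.leaf .df))) (.node (.node (.leaf .df) (.leaf .df)) (.node (.leaf (.cyc (nat_lit 8) [(nat_lit 816), (nat_lit 791), (nat_lit 789), (nat_lit 791), (nat_lit 816)])) (.leaf .df)))) (.node (.node (.node (.leaf .df) (.leaf .df)) (.node (.leaf (.cyc (nat_lit 53) [(nat_lit 688),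 (nat_lit 175), (nat_lit 110), (nat_lit 508), (nat_lit 173)])) (.leaf .df))) (.node (.node (.leaf (.cyc (nat_lit 16) [(nat_lit 49), (nat_lit 410), (nat_lit 49)])) (.leaf .df)) (.node (.leaf (.cyc (nat_lit 36) [(nat_lit 312), (nat_lit 890), (nat_lit 892), (nat_lit 890), (nat_lit 312)])) (.leaf .df))))) (.node (.node (.node (.node (.leaf .df) (.leaf .df)) (.node (.leaf (.cyc (nat_lit 35) [(nat_lit 174), (nat_lit 509), (nat_lit 512), (nat_lit 509), (nat_lit 174)])) (.leaf .df))) (.node (.node (.leaf (.pin (nat_lit 11) [(nat_lit 4)] [])) (.leaf .df)) (.node (.leaf (.cyc (nat_lit 30) [(nat_lit 243), (nat_lit 783), (nat_lit 287)])) (.leaf .df)))) (.node (.node (.node (.leaf .df) (.leaf .df)) (.node (.leaf (.cyc (nat_lit 28) [(nat_lit 229), (nat_lit 160), (nat_lit 496), (nat_lit 160), (nat_lit 229)])) (.leaf .df))) (.node (.node (.leaf (.cyc (nat_lit 12) [(nat_lit 56), (nat_lit 54), (nat_lit 98)])) (.leaf .df)) (.node (.leaf (.cyc (nat_lit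 12) [(nat_lit 342), (nat_lit 967), (nat_lit 342)])) (.leaf .df))))))))
noncomputable def kGP1001 : BT Pf := (.node (.node (.node (.node (.node (.node (.node (.leaf .df) (.leaf (.cyc (nat_lit 37) [(nat_lit 348), (nat_lit 1025), (nat_lit 1026), (nat_lit 1025), (nat_lit 348)]))) (.node (.leaf (.cyc (nat_lit 37) [(nat_lit 112), (nat_lit 466), (nat_lit 421), (nat_lit 466), (nat_lit 112)])) (.leaf .df))) (.node (.node (.leaf .df) (.leaf .df)) (.node (.leaf (.cyc (nat_lit 16) [(nat_lit 179), (nat_lit 178), (nat_lit 240)])) (.leaf .df)))) (.node (.node (.node (.leaf .df) (.leaf .df)) (.node (.leaf (.cyc (nat_lit 34) [(nat_lit 163), (nat_lit 499), (nat_lit 476), (nat_lit 118), (nat_lit 184)])) (.leaf .df))) (.node (.node (.leaf (.cyc (nat_lit 10) [(nat_lit 6), (nat_lit 5), (nat_lit 3), (nat_lit 2), (nat_lit 28)])) (.leaf .df)) (.node (.leaf (.cyc (nat_lit 17) [(nat_lit 295), (nat_lit 808), (nat_lit 295)])) (.leaf .df))))) (.node (.node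 (.node (.node (.leaf .df) (.leaf .df)) (.node (.leaf (.cyc (nat_lit 17) [(nat_lit 106), (nat_lit 493), (nat_lit 152)])) (.leaf .df))) (.node (.node (.leaf .df) (.leaf .df)) (.node (.leaf (.cyc (nat_lit 23) [(nat_lit 263), (nat_lit 212), (nat_lit 703), (nat_lit 727), (nat_lit 271)])) (.leaf .df)))) (.node (.node (.node (.leaf .df) (.leaf .df)) (.node (.leaf (.cyc (nat_lit 15) [(nat_lit 710), (nat_lit 213), (nat_lit 214)])) (.leaf .df))) (.node (.node (.leaf (.cyc (nat_lit 17) [(nat_lit 29), (nat_lit 28), (nat_lit 67)])) (.leaf .df)) (.node (.leaf (.cyc (nat_lit 37) [(nat_lit 322), (nat_lit 887), (nat_lit 817), (nat_lit 887), (nat_lit 322)])) (.leaf .df)))))) (.node (.node (.node (.node (.node (.leaf .df) (.leaf (.cyc (nat_lit 37) [(nat_lit 357), (nat_lit 1058), (nat_lit 1006), (nat_lit 1058), (nat_lit 357)]))) (.node (.leaf (.cyc (nat_lit 17) [(nat_lit 85), (nat_lit 83), (nat_lit 132)])) (.leaf .df))) (.node (.node (.leaf .df)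 (.leaf .df)) (.node (.leaf (.cyc (nat_lit 37) [(nat_lit 254), (nat_lit 253), (nat_lit 806), (nat_lit 253), (nat_lit 254)])) (.leaf .df)))) (.node (.node (.node (.leaf .df) (.leaf .df)) (.node (.leaf (.cyc (nat_lit 38) [(nat_lit 196), (nat_lit 652), (nat_lit 654), (nat_lit 652), (nat_lit 196)])) (.leaf .df))) (.node (.node (.leaf (.cyc (nat_lit 15) [(nat_lit 42), (nat_lit 12), (nat_lit 44)])) (.leaf .df)) (.node (.leaf (.cyc (nat_lit 38) [(nat_lit 268), (nat_lit 216), (nat_lit 215), (nat_lit 267), (nat_lit 309)])) (.leaf .df))))) (.node (.node (.node (.node (.leaf .df) (.leaf .df)) (.node (.leaf (.cyc (nat_lit 15) [(nat_lit 105), (nat_lit 104), (nat_lit 170)])) (.leaf .df))) (.node (.node (.leaf (.pin (nat_lit 3) [] [])) (.leaf .df)) (.node (.leaf (.cyc (nat_lit 38) [(nat_lit 282), (nat_lit 234), (nat_lit 612), (nat_lit 234), (nat_lit 282)])) (.leaf .df)))) (.node (.node (.node (.leaf .df) (.leaf .df)) (.node (.leaf (.cyc (nat_lit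 16) [(nat_lit 653), (nat_lit 678), (nat_lit 227)])) (.leaf .df))) (.node (.node (.leaf (.cyc (nat_lit 12) [(nat_lit 88), (nat_lit 433), (nat_lit 88)])) (.leaf .df)) (.node (.leaf (.cyc (nat_lit 29) [(nat_lit 338), (nat_lit 319), (nat_lit 876), (nat_lit 319), (nat_lit 338)])) (.leaf .df))))))) (.node (.node (.node (.node (.node (.node (.leaf .df) (.leaf (.cyc (nat_lit 36) [(nat_lit 353), (nat_lit 337), (nat_lit 961), (nat_lit 337), (nat_lit 353)]))) (.node (.leaf (.cyc (nat_lit 38) [(nat_lit 499), (nat_lit 442), (nat_lit 443), (nat_lit 78), (nat_lit 122)])) (.leaf .df))) (.node (.node (.leaf .df) (.leaf .df)) (.node (.leaf (.cyc (nat_lit 30) [(nat_lit 248), (nat_lit 681), (nat_lit 248)])) (.leaf .df)))) (.node (.node (.node (.leaf .df) (.leaf .df)) (.node (.leaf (.cyc (nat_lit 11) [(nat_lit 127), (nat_lit 82), (nat_lit 81), (nat_lit 126), (nat_lit 190)])) (.leaf .df))) (.node (.node (.leaf (.cyc (nat_lit 20) [(nat_lit 18), (nat_lit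 407)])) (.leaf .df)) (.node (.leaf (.cyc (nat_lit 27) [(nat_lit 302), (nat_lit 827), (nat_lit 302)])) (.leaf .df))))) (.node (.node (.node (.node (.leaf .df) (.leaf .df)) (.node (.leaf (.cyc (nat_lit 12) [(nat_lit 101), (nat_lit 99), (nat_lit 162)])) (.leaf .df))) (.node (.node (.leaf .df) (.leaf .df)) (.node (.leaf (.cyc (nat_lit 11) [(nat_lit 276), (nat_lit 854), (nat_lit 853), (nat_lit 854), (nat_lit 276)])) (.leaf .df)))) (.node (.node (.node (.leaf .df) (.leaf .df)) (.node (.leaf (.cyc (nat_lit 23) [(nat_lit 182), (nat_lit 629), (nat_lit 714), (nat_lit 712), (nat_lit 221)])) (.leaf .df))) (.node (.node (.leaf (.cyc (nat_lit 22) [(nat_lit 461), (nat_lit 445), (nat_lit 75)])) (.leaf .df)) (.node (.leaf (.cyc (nat_lit 14) [(nat_lit 303), (nat_lit 829), (nat_lit 284), (nat_lit 909), (nat_lit 329)])) (.leaf .df)))))) (.node (.node (.node (.node (.node (.leaf .df) (.leaf .df)) (.node (.leaf (.cyc (nat_lit 36) [(nat_lit 126), (nat_lit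 522), (nat_lit 568), (nat_lit 143), (nat_lit 145)])) (.leaf .df))) (.node (.node (.leaf .df) (.leaf .df)) (.node (.leaf (.cyc (nat_lit 27) [(nat_lit 792), (nat_lit 705), (nat_lit 262)])) (.leaf .df)))) (.node (.node (.node (.leaf .df) (.leaf .df)) (.node (.leaf (.cyc (nat_lit 15) [(nat_lit 162), (nat_lit 557), (nat_lit 203)])) (.leaf .df))) (.node (.node (.leaf (.cyc (nat_lit 17) [(nat_lit 56), (nat_lit 23), (nat_lit 59)])) (.leaf .df)) (.node (.leaf (.cyc (nat_lit 62) [(nat_lit 305), (nat_lit 849), (nat_lit 313), (nat_lit 952), (nat_lit 902), (nat_lit 296)])) (.leaf .df))))) (.node (.node (.node (.node (.leaf .df) (.leaf .df)) (.node (.leaf (.cyc (nat_lit 27) [(nat_lit 178), (nat_lit 526), (nat_lit 178)])) (.leaf .df))) (.node (.node (.leaf (.pin (nat_lit 19) [] [])) (.leaf .df)) (.node (.leaf (.cyc (nat_lit 35) [(nat_lit 250), (nat_lit 201), (nat_lit 655), (nat_lit 244), (nat_lit 289)])) (.leaf .df)))) (.node (.node (.node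 (.leaf .df) (.leaf .df)) (.node (.leaf (.cyc (nat_lit 15) [(nat_lit 167), (nat_lit 165), (nat_lit 232)])) (.leaf .df))) (.node (.node (.leaf (.cyc (nat_lit 35) [(nat_lit 107), (nat_lit 60), (nat_lit 424), (nat_lit 60), (nat_lit 107)])) (.leaf .df)) (.node (.leaf (.cyc (nat_lit 10) [(nat_lit 995), (nat_lit 924), (nat_lit 929), (nat_lit 979), (nat_lit 344)])) (.leaf .df))))))))
noncomputable def kGP100 : BT Pf := .node kGP1000 kGP1001
noncomputable def kGP1010 : BT Pf := (.node (.node (.node (.node (.node (.node (.node (.leaf .df) (.leaf (.cyc (nat_lit 15) [(nat_lit 336), (nat_lit 989), (nat_lit 347)]))) (.node (.leaf (.cyc (nat_lit 38) [(nat_lit 70), (nat_lit 33), (nat_lit 394), (nat_lit 67), (nat_lit 110)])) (.leaf .df))) (.node (.node (.leaf .df) (.leaf .df)) (.node (.leaf (.cyc (nat_lit 28) [(nat_lit 238), (nat_lit 237), (nat_lit 770), (nat_lit 237), (nat_lit 238)])) (.leaf .df)))) (.node (.node (.node (.leaf .df) (.leaf .df))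 (.node (.leaf (.cyc (nat_lit 27) [(nat_lit 119), (nat_lit 531), (nat_lit 183)])) (.leaf .df))) (.node (.node (.leaf (.cyc (nat_lit 8) [(nat_lit 9), (nat_lit 369), (nat_lit 366), (nat_lit 369), (nat_lit 9)])) (.leaf .df)) (.node (.leaf (.cyc (nat_lit 35) [(nat_lit 293), (nat_lit 248), (nat_lit 679), (nat_lit 248), (nat_lit 293)])) (.leaf .df))))) (.node (.node (.node (.node (.leaf .df) (.leaf .df)) (.node (.leaf (.cyc (nat_lit 12) [(nat_lit 94), (nat_lit 92), (nat_lit 150)])) (.leaf .df))) (.node (.node (.leaf .df) (.leaf .df)) (.node (.leaf (.cyc (nat_lit 14) [(nat_lit 269), (nat_lit 217), (nat_lit 570), (nat_lit 217), (nat_lit 269)])) (.leaf .df)))) (.node (.node (.node (.leaf .df) (.leaf .df)) (.node (.leaf (.cyc (nat_lit 54) [(nat_lit 207), (nat_lit 138), (nat_lit 87), (nat_lit 434), (nat_lit 49), (nat_lit 21), (nat_lit 52), (nat_lit 92), (nat_lit 567), (nat_lit 568), (nat_lit 524), (nat_lit 482), (nat_lit 426), (nat_lit 44),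 (nat_lit 13), (nat_lit 387), (nat_lit 372), (nat_lit 370), (nat_lit 6), (nat_lit 5), (nat_lit 3), (nat_lit 361), (nat_lit 4), (nat_lit 30), (nat_lit 398), (nat_lit 385), (nat_lit 17), (nat_lit 409), (nat_lit 384), (nat_lit 17), (nat_lit 405), (nat_lit 467), (nat_lit 523), (nat_lit 568), (nat_lit 213)])) (.leaf .df))) (.node (.node (.leaf (.cyc (nat_lit 35) [(nat_lit 414), (nat_lit 43), (nat_lit 422), (nat_lit 27), (nat_lit 65)])) (.leaf .df)) (.node (.leaf (.cyc (nat_lit 17) [(nat_lit 321), (nat_lit 885), (nat_lit 321)])) (.leaf .df)))))) (.node (.node (.node (.node (.node (.leaf .df) (.leaf (.cyc (nat_lit 37) [(nat_lit 356), (nat_lit 1055), (nat_lit 1044), (nat_lit 1055), (nat_lit 356)]))) (.node (.leaf (.cyc (nat_lit 34) [(nat_lit 111), (nat_lit 70), (nat_lit 427), (nat_lit 82), (nat_lit 128)])) (.leaf .df))) (.node (.node (.leaf .df) (.leaf .df)) (.node (.leaf (.cyc (nat_lit 28) [(nat_lit 230), (nat_lit 161), (nat_lit 557),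 (nat_lit 202), (nat_lit 253)])) (.leaf .df)))) (.node (.node (.node (.leaf .df) (.leaf .df)) (.node (.leaf (.cyc (nat_lit 52) [(nat_lit 157), (nat_lit 96), (nat_lit 438), (nat_lit 437), (nat_lit 90), (nat_lit 143), (nat_lit 567), (nat_lit 149), (nat_lit 579), (nat_lit 578), (nat_lit 114), (nat_lit 72), (nat_lit 415), (nat_lit 453), (nat_lit 452), (nat_lit 394), (nat_lit 6), (nat_lit 393), (nat_lit 28), (nat_lit 367), (nat_lit 365), (nat_lit 0), (nat_lit 370), (nat_lit 34), (nat_lit 404), (nat_lit 403), (nat_lit 427), (nat_lit 82), (nat_lit 127), (nat_lit 191), (nat_lit 666), (nat_lit 195), (nat_lit 676), (nat_lit 675), (nat_lit 195)])) (.leaf .df))) (.node (.node (.leaf (.cyc (nat_lit 11) [(nat_lit 43), (nat_lit 13), (nat_lit 387), (nat_lit 13), (nat_lit 43)])) (.leaf .df)) (.node (.leaf (.cyc (nat_lit 13) [(nat_lit 308), (nat_lit 831), (nat_lit 718), (nat_lit 831), (nat_lit 308)])) (.leaf .df))))) (.node (.node (.node (.node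 (.leaf .df) (.leaf .df)) (.node (.leaf (.cyc (nat_lit 36) [(nat_lit 169), (nat_lit 501), (nat_lit 448), (nat_lit 501), (nat_lit 169)])) (.leaf .df))) (.node (.node (.leaf .df) (.leaf .df)) (.node (.leaf (.cyc (nat_lit 50) [(nat_lit 844), (nat_lit 845), (nat_lit 281)])) (.leaf .df)))) (.node (.node (.node (.leaf .df) (.leaf .df)) (.node (.leaf (.cyc (nat_lit 13) [(nat_lit 225), (nat_lit 224), (nat_lit 738), (nat_lit 224), (nat_lit 225)])) (.leaf .df))) (.node (.node (.leaf (.cyc (nat_lit 36) [(nat_lit 47), (nat_lit 408), (nat_lit 17), (nat_lit 45), (nat_lit 82)])) (.leaf .df)) (.node (.leaf (.cyc (nat_lit 15) [(nat_lit 307), (nat_lit 306), (nat_lit 334)])) (.leaf .df))))))) (.node (.node (.node (.node (.node (.node (.leaf .df) (.leaf (.cyc (nat_lit 36) [(nat_lit 352), (nat_lit 998), (nat_lit 956), (nat_lit 998), (nat_lit 352)]))) (.node (.leaf (.cyc (nat_lit 30) [(nat_lit 532), (nat_lit 531), (nat_lit 120)])) (.leaf .df))) (.node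 (.node (.leaf .df) (.leaf .df)) (.node (.leaf (.cyc (nat_lit 10) [(nat_lit 245), (nat_lit 771), (nat_lit 773), (nat_lit 771), (nat_lit 245)])) (.leaf .df)))) (.node (.node (.node (.leaf .df) (.leaf .df)) (.node (.leaf (.cyc (nat_lit 50) [(nat_lit 189), (nat_lit 546), (nat_lit 189)])) (.leaf .df))) (.node (.node (.leaf (.cyc (nat_lit 17) [(nat_lit 385), (nat_lit 8), (nat_lit 36)])) (.leaf .df)) (.node (.leaf (.cyc (nat_lit 48) [(nat_lit 269), (nat_lit 717), (nat_lit 620), (nat_lit 172), (nat_lit 585), (nat_lit 726), (nat_lit 727), (nat_lit 703), (nat_lit 212), (nat_lit 262), (nat_lit 916)])) (.leaf .df))))) (.node (.node (.node (.node (.leaf .df) (.leaf .df)) (.node (.leaf (.cyc (nat_lit 45) [(nat_lit 159), (nat_lit 496), (nat_lit 97), (nat_lit 438), (nat_lit 51), (nat_lit 52), (nat_lit 92), (nat_lit 148), (nat_lit 580), (nat_lit 148), (nat_lit 92), (nat_lit 52), (nat_lit 51), (nat_lit 438), (nat_lit 97), (nat_lit 496), (nat_lit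 159)])) (.leaf .df))) (.node (.node (.leaf .df) (.leaf .df)) (.node (.leaf (.cyc (nat_lit 28) [(nat_lit 275), (nat_lit 274), (nat_lit 850), (nat_lit 274), (nat_lit 275)])) (.leaf .df)))) (.node (.node (.node (.leaf .df) (.leaf .df)) (.node (.leaf (.cyc (nat_lit 56) [(nat_lit 724), (nat_lit 659), (nat_lit 605), (nat_lit 591), (nat_lit 703)])) (.leaf .df))) (.node (.node (.leaf (.cyc (nat_lit 37) [(nat_lit 73), (nat_lit 413), (nat_lit 396), (nat_lit 413), (nat_lit 73)])) (.leaf .df)) (.node (.leaf (.cyc (nat_lit 11) [(nat_lit 297), (nat_lit 256), (nat_lit 810), (nat_lit 296), (nat_lit 327)])) (.leaf .df)))))) (.node (.node (.node (.node (.node (.leaf .df) (.leaf .df)) (.node (.leaf (.cyc (nat_lit 25) [(nat_lit 141), (nat_lit 89), (nat_lit 436), (nat_lit 431), (nat_lit 429), (nat_lit 460), (nat_lit 458), (nat_lit 412), (nat_lit 417), (nat_lit 77), (nat_lit 120)])) (.leaf .df))) (.node (.node (.leaf .df) (.leaf .df)) (.node (.leaf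 (.cyc (nat_lit 23) [(nat_lit 261), (nat_lit 260), (nat_lit 820), (nat_lit 260), (nat_lit 261)])) (.leaf .df)))) (.node (.node (.node (.leaf .df) (.leaf .df)) (.node (.leaf (.cyc (nat_lit 27) [(nat_lit 687), (nat_lit 686), (nat_lit 200)])) (.leaf .df))) (.node (.node (.leaf (.cyc (nat_lit 29) [(nat_lit 51), (nat_lit 21), (nat_lit 410), (nat_lit 21), (nat_lit 51)])) (.leaf .df)) (.node (.leaf (.cyc (nat_lit 22) [(nat_lit 313), (nat_lit 850), (nat_lit 313)])) (.leaf .df))))) (.node (.node (.node (.node (.leaf .df) (.leaf .df)) (.node (.leaf (.cyc (nat_lit 17) [(nat_lit 117), (nat_lit 520), (nat_lit 176)])) (.leaf .df))) (.node (.node (.leaf (.pin (nat_lit 15) [] [])) (.leaf .df)) (.node (.leaf (.cyc (nat_lit 23) [(nat_lit 288), (nat_lit 243), (nat_lit 651), (nat_lit 243), (nat_lit 288)])) (.leaf .df)))) (.node (.node (.node (.leaf .df) (.leaf .df)) (.node (.leaf (.cyc (nat_lit 14) [(nat_lit 168), (nat_lit 104), (nat_lit 103), (nat_lit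 165), (nat_lit 231)])) (.leaf .df))) (.node (.node (.leaf (.cyc (nat_lit 16) [(nat_lit 58), (nat_lit 57), (nat_lit 104)])) (.leaf .df)) (.node (.leaf (.cyc (nat_lit 12) [(nat_lit 330), (nat_lit 976), (nat_lit 343)])) (.leaf .df))))))))
noncomputable def kGP1011 : BT Pf := (.node (.node (.node (.node (.node (.node (.node (.leaf .df) (.leaf (.cyc (nat_lit 37) [(nat_lit 349), (nat_lit 997), (nat_lit 930), (nat_lit 997), (nat_lit 349)]))) (.node (.leaf (.cyc (nat_lit 36) [(nat_lit 114), (nat_lit 467), (nat_lit 406), (nat_lit 467), (nat_lit 114)])) (.leaf .df))) (.node (.node (.leaf .df) (.leaf .df)) (.node (.leaf (.cyc (nat_lit 29) [(nat_lit 183), (nat_lit 118), (nat_lit 529), (nat_lit 182), (nat_lit 241)])) (.leaf .df)))) (.node (.node (.node (.leaf .df) (.leaf .df)) (.node (.leaf (.cyc (nat_lit 14) [(nat_lit 553), (nat_lit 535), (nat_lit 120), (nat_lit 121), (nat_lit 186)])) (.leaf .df))) (.node (.node (.leaf (.cyc (nat_lit 14)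 [(nat_lit 8), (nat_lit 7), (nat_lit 3), (nat_lit 4), (nat_lit 30)])) (.leaf .df)) (.node (.leaf (.cyc (nat_lit 58) [(nat_lit 284), (nat_lit 236), (nat_lit 170), (nat_lit 169), (nat_lit 614), (nat_lit 615), (nat_lit 169), (nat_lit 168), (nat_lit 722), (nat_lit 219), (nat_lit 580), (nat_lit 148), (nat_lit 567), (nat_lit 568), (nat_lit 113), (nat_lit 112), (nat_lit 520), (nat_lit 473), (nat_lit 69), (nat_lit 449), (nat_lit 465), (nat_lit 71), (nat_lit 415), (nat_lit 38), (nat_lit 10), (nat_lit 389), (nat_lit 37), (nat_lit 73), (nat_lit 115), (nat_lit 179), (nat_lit 692), (nat_lit 249), (nat_lit 868), (nat_lit 870), (nat_lit 298)])) (.leaf .df))))) (.node (.node (.node (.node (.leaf .df) (.leaf .df)) (.node (.leaf (.cyc (nat_lit 37) [(nat_lit 153), (nat_lit 586), (nat_lit 587), (nat_lit 586), (nat_lit 153)])) (.leaf .df))) (.node (.node (.leaf .df) (.leaf .df)) (.node (.leaf (.cyc (nat_lit 27) [(nat_lit 776), (nat_lit 774), (nat_lit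 272)])) (.leaf .df)))) (.node (.node (.node (.leaf .df) (.leaf .df)) (.node (.leaf (.cyc (nat_lit 16) [(nat_lit 621), (nat_lit 569), (nat_lit 217)])) (.leaf .df))) (.node (.node (.leaf (.cyc (nat_lit 36) [(nat_lit 443), (nat_lit 418), (nat_lit 398), (nat_lit 401), (nat_lit 69)])) (.leaf .df)) (.node (.leaf (.cyc (nat_lit 22) [(nat_lit 324), (nat_lit 897), (nat_lit 324)])) (.leaf .df)))))) (.node (.node (.node (.node (.node (.leaf .df) (.leaf .df)) (.node (.leaf (.cyc (nat_lit 22) [(nat_lit 99), (nat_lit 488), (nat_lit 136)])) (.leaf .df))) (.node (.node (.leaf .df) (.leaf .df)) (.node (.leaf (.cyc (nat_lit 16) [(nat_lit 205), (nat_lit 204), (nat_lit 257)])) (.leaf .df)))) (.node (.node (.node (.leaf .df) (.leaf .df)) (.node (.leaf (.cyc (nat_lit 42) [(nat_lit 175), (nat_lit 516), (nat_lit 110), (nat_lit 457), (nat_lit 413), (nat_lit 417), (nat_lit 77), (nat_lit 120), (nat_lit 535), (nat_lit 553), (nat_lit 197)])) (.leaf .df)))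 (.node (.node (.leaf (.cyc (nat_lit 17) [(nat_lit 46), (nat_lit 409), (nat_lit 46)])) (.leaf .df)) (.node (.leaf (.cyc (nat_lit 30) [(nat_lit 280), (nat_lit 845), (nat_lit 311)])) (.leaf .df))))) (.node (.node (.node (.node (.leaf .df) (.leaf .df)) (.node (.leaf (.cyc (nat_lit 37) [(nat_lit 126), (nat_lit 484), (nat_lit 451), (nat_lit 503), (nat_lit 172)])) (.leaf .df))) (.node (.node (.leaf (.pin (nat_lit 7) [] [])) (.leaf .df)) (.node (.leaf (.cyc (nat_lit 14) [(nat_lit 285), (nat_lit 240), (nat_lit 634), (nat_lit 240), (nat_lit 285)])) (.leaf .df)))) (.node (.node (.node (.leaf .df) (.leaf .df)) (.node (.leaf (.cyc (nat_lit 38) [(nat_lit 195), (nat_lit 677), (nat_lit 157), (nat_lit 158), (nat_lit 228)])) (.leaf .df))) (.node (.node (.leaf (.cyc (nat_lit 28) [(nat_lit 58), (nat_lit 23), (nat_lit 22), (nat_lit 52), (nat_lit 93)])) (.leaf .df)) (.node (.leaf (.cyc (nat_lit 34) [(nat_lit 339), (nat_lit 319), (nat_lit 877), (nat_lit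 319), (nat_lit 339)])) (.leaf .df))))))) (.node (.node (.node (.node (.node (.node (.leaf .df) (.leaf (.cyc (nat_lit 12) [(nat_lit 340), (nat_lit 338), (nat_lit 354)]))) (.node (.leaf (.cyc (nat_lit 45) [(nat_lit 123), (nat_lit 480), (nat_lit 79), (nat_lit 425), (nat_lit 471), (nat_lit 507), (nat_lit 506), (nat_lit 455), (nat_lit 404), (nat_lit 455), (nat_lit 506), (nat_lit 507), (nat_lit 471), (nat_lit 425), (nat_lit 79), (nat_lit 480), (nat_lit 123)])) (.leaf .df))) (.node (.node (.leaf .df) (.leaf .df)) (.node (.leaf (.cyc (nat_lit 14) [(nat_lit 239), (nat_lit 689), (nat_lit 198), (nat_lit 199), (nat_lit 249)])) (.leaf .df)))) (.node (.node (.node (.leaf .df) (.leaf .df)) (.node (.leaf (.cyc (nat_lit 34) [(nat_lit 192), (nat_lit 665), (nat_lit 664), (nat_lit 665), (nat_lit 192)])) (.leaf .df))) (.node (.node (.leaf (.cyc (nat_lit 15) [(nat_lit 29), (nat_lit 388), (nat_lit 37)])) (.leaf .df)) (.node (.leaf (.cyc (nat_lit 15)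 [(nat_lit 874), (nat_lit 829), (nat_lit 304)])) (.leaf .df))))) (.node (.node (.node (.node (.leaf .df) (.leaf .df)) (.node (.leaf (.cyc (nat_lit 34) [(nat_lit 155), (nat_lit 95), (nat_lit 439), (nat_lit 102), (nat_lit 164)])) (.leaf .df))) (.node (.node (.leaf .df) (.leaf .df)) (.node (.leaf (.cyc (nat_lit 38) [(nat_lit 278), (nat_lit 758), (nat_lit 701), (nat_lit 758), (nat_lit 278)])) (.leaf .df)))) (.node (.node (.node (.leaf .df) (.leaf .df)) (.node (.leaf (.cyc (nat_lit 35) [(nat_lit 222), (nat_lit 588), (nat_lit 518), (nat_lit 588), (nat_lit 222)])) (.leaf .df))) (.node (.node (.leaf (.cyc (nat_lit 12) [(nat_lit 68), (nat_lit 418), (nat_lit 78)])) (.leaf .df)) (.node (.leaf (.cyc (nat_lit 22) [(nat_lit 314), (nat_lit 919), (nat_lit 331)])) (.leaf .df)))))) (.node (.node (.node (.node (.node (.leaf .df) (.leaf .df)) (.node (.leaf (.cyc (nat_lit 13) [(nat_lit 146), (nat_lit 145), (nat_lit 571), (nat_lit 145), (nat_lit 146)]))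 (.leaf .df))) (.node (.node (.leaf .df) (.leaf .df)) (.node (.leaf (.cyc (nat_lit 53) [(nat_lit 828), (nat_lit 238), (nat_lit 171), (nat_lit 617), (nat_lit 236)])) (.leaf .df)))) (.node (.node (.node (.leaf .df) (.leaf .df)) (.node (.leaf (.cyc (nat_lit 29) [(nat_lit 208), (nat_lit 139), (nat_lit 489), (nat_lit 139), (nat_lit 208)])) (.leaf .df))) (.node (.node (.leaf (.cyc (nat_lit 31) [(nat_lit 62), (nat_lit 26), (nat_lit 27), (nat_lit 380), (nat_lit 6), (nat_lit 394), (nat_lit 28), (nat_lit 388), (nat_lit 10), (nat_lit 39), (nat_lit 416)])) (.leaf .df)) (.node (.leaf (.cyc (nat_lit 16) [(nat_lit 316), (nat_lit 862), (nat_lit 316)])) (.leaf .df))))) (.node (.node (.node (.node (.leaf .df) (.leaf .df)) (.node (.leaf (.cyc (nat_lit 30) [(nat_lit 578), (nat_lit 528), (nat_lit 180)])) (.leaf .df))) (.node (.node (.leaf (.cyc (nat_lit 0) [(nat_lit 380), (nat_lit 370), (nat_lit 372), (nat_lit 13), (nat_lit 12)])) (.leaf .df)) (.node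 (.leaf (.cyc (nat_lit 36) [(nat_lit 291), (nat_lit 792), (nat_lit 669), (nat_lit 792), (nat_lit 291)])) (.leaf .df)))) (.node (.node (.node (.leaf .df) (.leaf .df)) (.node (.leaf (.cyc (nat_lit 12) [(nat_lit 235), (nat_lit 613), (nat_lit 235)])) (.leaf .df))) (.node (.node (.leaf (.cyc (nat_lit 23) [(nat_lit 102), (nat_lit 441), (nat_lit 451), (nat_lit 454), (nat_lit 109)])) (.leaf .df)) (.node (.leaf (.cyc (nat_lit 50) [(nat_lit 328), (nat_lit 978), (nat_lit 345)])) (.leaf .df))))))))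
noncomputable def kGP101 : BT Pf := .node kGP1010 kGP1011
noncomputable def kGP10 : BT Pf := .node kGP100 kGP101
noncomputable def kGP1100 : BT Pf := (.node (.node (.node (.node (.node (.node (.node (.leaf .df) (.leaf (.cyc (nat_lit 12) [(nat_lit 332), (nat_lit 331), (nat_lit 347)]))) (.node (.leaf (.cyc (nat_lit 36) [(nat_lit 110), (nat_lit 456), (nat_lit 404), (nat_lit 456), (nat_lit 110)])) (.leaf .df))) (.node (.node (.leaf .df) (.leaf .df)) (.node (.leaf (.cyc (nat_lit 16) [(nat_lit 189), (nat_lit 618), (nat_lit 238)])) (.leaf .df)))) (.node (.node (.node (.leaf .df) (.leaf .df)) (.node (.leaf (.cyc (nat_lit 37) [(nat_lit 563), (nat_lit 566), (nat_lit 552), (nat_lit 530), (nat_lit 182)])) (.leaf .df))) (.node (.node (.leaf (.cyc (nat_lit 6) [(nat_lit 372), (nat_lit 0), (nat_lit 365), (nat_lit 0), (nat_lit 372)])) (.leaf .df)) (.node (.leaf (.cyc (nat_lit 22) [(nat_lit 293), (nat_lit 794), (nat_lit 293)])) (.leaf .df)))))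 (.node (.node (.node (.node (.leaf .df) (.leaf .df)) (.node (.leaf (.cyc (nat_lit 31) [(nat_lit 578), (nat_lit 114), (nat_lit 523), (nat_lit 524), (nat_lit 482), (nat_lit 426), (nat_lit 482), (nat_lit 524), (nat_lit 523), (nat_lit 114), (nat_lit 578)])) (.leaf .df))) (.node (.node (.leaf .df) (.leaf .df)) (.node (.leaf (.cyc (nat_lit 30) [(nat_lit 269), (nat_lit 718), (nat_lit 269)])) (.leaf .df)))) (.node (.node (.node (.leaf .df) (.leaf .df)) (.node (.leaf (.cyc (nat_lit 16) [(nat_lit 144), (nat_lit 143), (nat_lit 213)])) (.leaf .df))) (.node (.node (.leaf (.cyc (nat_lit 13) [(nat_lit 59), (nat_lit 24), (nat_lit 25), (nat_lit 26), (nat_lit 64)])) (.leaf .df)) (.node (.leaf (.cyc (nat_lit 23) [(nat_lit 319), (nat_lit 285), (nat_lit 784), (nat_lit 287), (nat_lit 320)])) (.leaf .df)))))) (.node (.node (.node (.node (.node (.leaf .df) (.leaf (.cyc (nat_lit 36) [(nat_lit 356), (nat_lit 1053), (nat_lit 1006), (nat_lit 1053), (nat_lit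 356)]))) (.node (.leaf (.cyc (nat_lit 38) [(nat_lit 126), (nat_lit 483), (nat_lit 450), (nat_lit 483), (nat_lit 126)])) (.leaf .df))) (.node (.node (.leaf .df) (.leaf .df)) (.node (.leaf (.cyc (nat_lit 35) [(nat_lit 204), (nat_lit 137), (nat_lit 136), (nat_lit 202), (nat_lit 252)])) (.leaf .df)))) (.node (.node (.node (.leaf .df) (.leaf .df)) (.node (.leaf (.cyc (nat_lit 23) [(nat_lit 195), (nat_lit 666), (nat_lit 667), (nat_lit 666), (nat_lit 195)])) (.leaf .df))) (.node (.node (.leaf (.cyc (nat_lit 24) [(nat_lit 415), (nat_lit 38), (nat_lit 11), (nat_lit 41), (nat_lit 418), (nat_lit 397), (nat_lit 371), (nat_lit 1), (nat_lit 363), (nat_lit 0), (nat_lit 358), (nat_lit 365), (nat_lit 367), (nat_lit 388), (nat_lit 9), (nat_lit 30), (nat_lit 418)])) (.leaf .df)) (.node (.leaf (.cyc (nat_lit 12) [(nat_lit 874), (nat_lit 830), (nat_lit 308)])) (.leaf .df))))) (.node (.node (.node (.node (.leaf .df) (.leaf .df)) (.node (.leaf (.cyc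 (nat_lit 17) [(nat_lit 105), (nat_lit 103), (nat_lit 167)])) (.leaf .df))) (.node (.node (.leaf .df) (.leaf .df)) (.node (.leaf (.cyc (nat_lit 58) [(nat_lit 280), (nat_lit 233), (nat_lit 167), (nat_lit 166), (nat_lit 608), (nat_lit 609), (nat_lit 166), (nat_lit 103), (nat_lit 57), (nat_lit 23), (nat_lit 55), (nat_lit 488), (nat_lit 137), (nat_lit 559), (nat_lit 206), (nat_lit 791), (nat_lit 245), (nat_lit 189), (nat_lit 125), (nat_lit 482), (nat_lit 471), (nat_lit 507), (nat_lit 173), (nat_lit 689), (nat_lit 198), (nat_lit 133), (nat_lit 85), (nat_lit 47), (nat_lit 20), (nat_lit 49), (nat_lit 87), (nat_lit 137), (nat_lit 204), (nat_lit 803), (nat_lit 804)])) (.leaf .df)))) (.node (.node (.node (.leaf .df) (.leaf .df)) (.node (.leaf (.cyc (nat_lit 17) [(nat_lit 216), (nat_lit 592), (nat_lit 225)])) (.leaf .df))) (.node (.node (.leaf (.cyc (nat_lit 30) [(nat_lit 449), (nat_lit 428), (nat_lit 81)])) (.leaf .df)) (.node (.leaf (.cyc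 (nat_lit 17) [(nat_lit 304), (nat_lit 303), (nat_lit 333)])) (.leaf .df))))))) (.node (.node (.node (.node (.node (.node (.leaf .df) (.leaf (.cyc (nat_lit 17) [(nat_lit 336), (nat_lit 335), (nat_lit 351)]))) (.node (.leaf (.cyc (nat_lit 38) [(nat_lit 77), (nat_lit 40), (nat_lit 39), (nat_lit 76), (nat_lit 118)])) (.leaf .df))) (.node (.node (.leaf .df) (.leaf .df)) (.node (.leaf (.cyc (nat_lit 11) [(nat_lit 244), (nat_lit 657), (nat_lit 632), (nat_lit 657), (nat_lit 244)])) (.leaf .df)))) (.node (.node (.node (.leaf .df) (.leaf .df)) (.node (.leaf (.cyc (nat_lit 50) [(nat_lit 164), (nat_lit 542), (nat_lit 188)])) (.leaf .df))) (.node (.node (.leaf (.cyc (nat_lit 17) [(nat_lit 33), (nat_lit 6), (nat_lit 34)])) (.leaf .df)) (.node (.leaf (.cyc (nat_lit 27) [(nat_lit 890), (nat_lit 847), (nat_lit 300)])) (.leaf .df))))) (.node (.node (.node (.node (.leaf .df) (.leaf .df)) (.node (.leaf (.cyc (nat_lit 27) [(nat_lit 159), (nat_lit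 514), (nat_lit 159)])) (.leaf .df))) (.node (.node (.leaf .df) (.leaf .df)) (.node (.leaf (.cyc (nat_lit 16) [(nat_lit 275), (nat_lit 737), (nat_lit 275)])) (.leaf .df)))) (.node (.node (.node (.leaf .df) (.leaf .df)) (.node (.leaf (.cyc (nat_lit 14) [(nat_lit 709), (nat_lit 213), (nat_lit 567), (nat_lit 148), (nat_lit 219)])) (.leaf .df))) (.node (.node (.leaf (.cyc (nat_lit 12) [(nat_lit 36), (nat_lit 35), (nat_lit 72)])) (.leaf .df)) (.node (.leaf (.cyc (nat_lit 65) [(nat_lit 978), (nat_lit 954), (nat_lit 307)])) (.leaf .df)))))) (.node (.node (.node (.node (.node (.leaf .df) (.leaf .df)) (.node (.leaf (.cyc (nat_lit 11) [(nat_lit 134), (nat_lit 86), (nat_lit 436), (nat_lit 89), (nat_lit 141)])) (.leaf .df))) (.node (.node (.leaf .df) (.leaf .df)) (.node (.leaf (.cyc (nat_lit 14) [(nat_lit 243), (nat_lit 185), (nat_lit 564), (nat_lit 211), (nat_lit 260)])) (.leaf .df)))) (.node (.node (.node (.leaf .df) (.leaf .df)) (.node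 (.leaf (.cyc (nat_lit 50) [(nat_lit 135), (nat_lit 555), (nat_lit 199)])) (.leaf .df))) (.node (.node (.leaf (.cyc (nat_lit 12) [(nat_lit 50), (nat_lit 410), (nat_lit 50)])) (.leaf .df)) (.node (.leaf (.cyc (nat_lit 38) [(nat_lit 312), (nat_lit 847), (nat_lit 820), (nat_lit 847), (nat_lit 312)])) (.leaf .df))))) (.node (.node (.node (.node (.leaf .df) (.leaf .df)) (.node (.leaf (.cyc (nat_lit 50) [(nat_lit 111), (nat_lit 517), (nat_lit 175)])) (.leaf .df))) (.node (.node (.leaf (.pin (nat_lit 13) [(nat_lit 3), (nat_lit 7), (nat_lit 8)] [(nat_lit 364)])) (.leaf .df)) (.node (.leaf (.cyc (nat_lit 14) [(nat_lit 273), (nat_lit 223), (nat_lit 646), (nat_lit 242), (nat_lit 287)])) (.leaf .df)))) (.node (.node (.node (.leaf .df) (.leaf .df)) (.node (.leaf (.cyc (nat_lit 51) [(nat_lit 623), (nat_lit 174), (nat_lit 509), (nat_lit 512), (nat_lit 164), (nat_lit 605), (nat_lit 155), (nat_lit 154), (nat_lit 646), (nat_lit 183), (nat_lit 184),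 (nat_lit 649), (nat_lit 163), (nat_lit 554), (nat_lit 198), (nat_lit 687), (nat_lit 230)])) (.leaf .df))) (.node (.node (.leaf (.cyc (nat_lit 11) [(nat_lit 60), (nat_lit 24), (nat_lit 23), (nat_lit 55), (nat_lit 100)])) (.leaf .df)) (.node (.leaf (.cyc (nat_lit 15) [(nat_lit 342), (nat_lit 969), (nat_lit 342)])) (.leaf .df))))))))
noncomputable def kGP1101 : BT Pf := (.node (.node (.node (.node (.node (.node (.node (.leaf .df) (.leaf (.cyc (nat_lit 36) [(nat_lit 349), (nat_lit 1020), (nat_lit 1022), (nat_lit 1020), (nat_lit 349)]))) (.node (.leaf (.cyc (nat_lit 17) [(nat_lit 72), (nat_lit 71), (nat_lit 113)])) (.leaf .df))) (.node (.node (.leaf .df) (.leaf .df)) (.node (.leaf (.cyc (nat_lit 22) [(nat_lit 200), (nat_lit 643), (nat_lit 241)])) (.leaf .df)))) (.node (.node (.node (.leaf .df) (.leaf .df)) (.node (.leaf (.cyc (nat_lit 34) [(nat_lit 185), (nat_lit 540), (nat_lit 539), (nat_lit 540), (nat_lit 185)])) (.leaf .df))) (.node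 (.node (.leaf (.cyc (nat_lit 12) [(nat_lit 379), (nat_lit 2), (nat_lit 29)])) (.leaf .df)) (.node (.leaf (.cyc (nat_lit 30) [(nat_lit 297), (nat_lit 812), (nat_lit 297)])) (.leaf .df))))) (.node (.node (.node (.node (.leaf .df) (.leaf .df)) (.node (.leaf (.cyc (nat_lit 13) [(nat_lit 152), (nat_lit 151), (nat_lit 584), (nat_lit 151), (nat_lit 152)])) (.leaf .df))) (.node (.node (.leaf .df) (.leaf .df)) (.node (.leaf (.cyc (nat_lit 38) [(nat_lit 271), (nat_lit 220), (nat_lit 580), (nat_lit 220), (nat_lit 271)])) (.leaf .df)))) (.node (.node (.node (.leaf .df) (.leaf .df)) (.node (.leaf (.cyc (nat_lit 12) [(nat_lit 710), (nat_lit 707), (nat_lit 216)])) (.leaf .df))) (.node (.node (.leaf (.cyc (nat_lit 15) [(nat_lit 36), (nat_lit 397), (nat_lit 68)])) (.leaf .df)) (.node (.leaf (.cyc (nat_lit 17) [(nat_lit 323), (nat_lit 894), (nat_lit 323)])) (.leaf .df)))))) (.node (.node (.node (.node (.node (.leaf .df) (.leaf .df)) (.node (.leaf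 (.cyc (nat_lit 38) [(nat_lit 86), (nat_lit 48), (nat_lit 47), (nat_lit 85), (nat_lit 133)])) (.leaf .df))) (.node (.node (.leaf .df) (.leaf .df)) (.node (.leaf (.cyc (nat_lit 37) [(nat_lit 256), (nat_lit 697), (nat_lit 602), (nat_lit 697), (nat_lit 256)])) (.leaf .df)))) (.node (.node (.node (.leaf .df) (.leaf .df)) (.node (.leaf (.cyc (nat_lit 37) [(nat_lit 197), (nat_lit 653), (nat_lit 654), (nat_lit 653), (nat_lit 197)])) (.leaf .df))) (.node (.node (.leaf (.cyc (nat_lit 22) [(nat_lit 402), (nat_lit 16), (nat_lit 45)])) (.leaf .df)) (.node (.leaf (.cyc (nat_lit 50) [(nat_lit 310), (nat_lit 838), (nat_lit 310)])) (.leaf .df))))) (.node (.node (.node (.node (.leaf .df) (.leaf .df)) (.node (.leaf (.cyc (nat_lit 38) [(nat_lit 171), (nat_lit 105), (nat_lit 440), (nat_lit 105), (nat_lit 171)])) (.leaf .df))) (.node (.node (.leaf (.pin (nat_lit 5) [(nat_lit 0)] [])) (.leaf .df)) (.node (.leaf (.cyc (nat_lit 30) [(nat_lit 285), (nat_lit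 778), (nat_lit 285)])) (.leaf .df)))) (.node (.node (.node (.leaf .df) (.leaf .df)) (.node (.leaf (.cyc (nat_lit 23) [(nat_lit 228), (nat_lit 593), (nat_lit 513), (nat_lit 593), (nat_lit 228)])) (.leaf .df))) (.node (.node (.leaf (.cyc (nat_lit 15) [(nat_lit 50), (nat_lit 49), (nat_lit 88)])) (.leaf .df)) (.node (.leaf (.cyc (nat_lit 16) [(nat_lit 1002), (nat_lit 338), (nat_lit 339)])) (.leaf .df))))))) (.node (.node (.node (.node (.node (.node (.leaf .df) (.leaf (.cyc (nat_lit 37) [(nat_lit 353), (nat_lit 1014), (nat_lit 1015), (nat_lit 1014), (nat_lit 353)]))) (.node (.leaf (.cyc (nat_lit 22) [(nat_lit 123), (nat_lit 480), (nat_lit 123)])) (.leaf .df))) (.node (.node (.leaf .df) (.leaf .df)) (.node (.leaf (.cyc (nat_lit 11) [(nat_lit 698), (nat_lit 649), (nat_lit 648), (nat_lit 196), (nat_lit 248)])) (.leaf .df)))) (.node (.node (.node (.leaf .df) (.leaf .df)) (.node (.leaf (.cyc (nat_lit 29) [(nat_lit 191), (nat_lit 665),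 (nat_lit 663), (nat_lit 665), (nat_lit 191)])) (.leaf .df))) (.node (.node (.leaf (.cyc (nat_lit 22) [(nat_lit 408), (nat_lit 384), (nat_lit 408)])) (.leaf .df)) (.node (.leaf (.cyc (nat_lit 11) [(nat_lit 303), (nat_lit 828), (nat_lit 773), (nat_lit 828), (nat_lit 303)])) (.leaf .df))))) (.node (.node (.node (.node (.leaf .df) (.leaf .df)) (.node (.leaf (.cyc (nat_lit 16) [(nat_lit 164), (nat_lit 512), (nat_lit 164)])) (.leaf .df))) (.node (.node (.leaf .df) (.leaf .df)) (.node (.leaf (.cyc (nat_lit 23) [(nat_lit 278), (nat_lit 231), (nat_lit 607), (nat_lit 231), (nat_lit 278)])) (.leaf .df)))) (.node (.node (.node (.leaf .df) (.leaf .df)) (.node (.leaf (.cyc (nat_lit 22) [(nat_lit 222), (nat_lit 589), (nat_lit 222)])) (.leaf .df))) (.node (.node (.leaf (.cyc (nat_lit 17) [(nat_lit 76), (nat_lit 416), (nat_lit 76)])) (.leaf .df)) (.node (.leaf (.cyc (nat_lit 25) [(nat_lit 329), (nat_lit 298), (nat_lit 870), (nat_lit 868), (nat_lit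 249), (nat_lit 692), (nat_lit 636), (nat_lit 777), (nat_lit 285), (nat_lit 319), (nat_lit 963)])) (.leaf .df)))))) (.node (.node (.node (.node (.node (.leaf .df) (.leaf .df)) (.node (.leaf (.cyc (nat_lit 9) [(nat_lit 569), (nat_lit 547), (nat_lit 569)])) (.leaf .df))) (.node (.node (.leaf .df) (.leaf .df)) (.node (.leaf (.cyc (nat_lit 38) [(nat_lit 263), (nat_lit 705), (nat_lit 669), (nat_lit 705), (nat_lit 263)])) (.leaf .df)))) (.node (.node (.node (.leaf .df) (.leaf .df)) (.node (.leaf (.cyc (nat_lit 17) [(nat_lit 138), (nat_lit 137), (nat_lit 206)])) (.leaf .df))) (.node (.node (.leaf (.cyc (nat_lit 11) [(nat_lit 41), (nat_lit 381), (nat_lit 27), (nat_lit 26), (nat_lit 62)])) (.leaf .df)) (.node (.leaf (.cyc (nat_lit 29) [(nat_lit 314), (nat_lit 277), (nat_lit 751), (nat_lit 277), (nat_lit 314)])) (.leaf .df))))) (.node (.node (.node (.node (.leaf .df) (.leaf .df)) (.node (.leaf (.cyc (nat_lit 50) [(nat_lit 179), (nat_lit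 526), (nat_lit 179)])) (.leaf .df))) (.node (.node (.leaf (.pin (nat_lit 21) [(nat_lit 14)] [])) (.leaf .df)) (.node (.leaf (.cyc (nat_lit 14) [(nat_lit 247), (nat_lit 194), (nat_lit 666), (nat_lit 246), (nat_lit 290)])) (.leaf .df)))) (.node (.node (.node (.leaf .df) (.leaf .df)) (.node (.leaf (.cyc (nat_lit 17) [(nat_lit 170), (nat_lit 168), (nat_lit 234)])) (.leaf .df))) (.node (.node (.leaf (.cyc (nat_lit 17) [(nat_lit 74), (nat_lit 453), (nat_lit 108)])) (.leaf .df)) (.node (.leaf (.cyc (nat_lit 58) [(nat_lit 1007), (nat_lit 1006), (nat_lit 340), (nat_lit 319), (nat_lit 285), (nat_lit 240), (nat_lit 695), (nat_lit 694), (nat_lit 601), (nat_lit 538), (nat_lit 122), (nat_lit 479), (nat_lit 523), (nat_lit 568), (nat_lit 214), (nat_lit 714), (nat_lit 629), (nat_lit 530), (nat_lit 552), (nat_lit 670), (nat_lit 743), (nat_lit 226), (nat_lit 157), (nat_lit 156), (nat_lit 592), (nat_lit 215), (nat_lit 267), (nat_lit 309), (nat_lit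 935), (nat_lit 936), (nat_lit 309), (nat_lit 929), (nat_lit 979), (nat_lit 344), (nat_lit 1018)])) (.leaf .df))))))))
noncomputable def kGP110 : BT Pf := .node kGP1100 kGP1101
noncomputable def kGP1110 : BT Pf := (.node (.node (.node (.node (.node (.node (.node (.leaf .df) (.leaf (.cyc (nat_lit 36) [(nat_lit 348), (nat_lit 1017), (nat_lit 1018), (nat_lit 1017), (nat_lit 348)]))) (.node (.leaf (.cyc (nat_lit 36) [(nat_lit 112), (nat_lit 465), (nat_lit 450), (nat_lit 465), (nat_lit 112)])) (.leaf .df))) (.node (.node (.leaf .df) (.leaf .df)) (.node (.leaf (.cyc (nat_lit 11) [(nat_lit 180), (nat_lit 116), (nat_lit 507), (nat_lit 173), (nat_lit 239)])) (.leaf .df)))) (.node (.node (.node (.leaf .df) (.leaf .df)) (.node (.leaf (.cyc (nat_lit 50) [(nat_lit 121), (nat_lit 531), (nat_lit 184)])) (.leaf .df))) (.node (.node (.leaf (.cyc (nat_lit 9) [(nat_lit 386), (nat_lit 390), (nat_lit 386)])) (.leaf .df)) (.node (.leaf (.cyc (nat_lit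 17) [(nat_lit 259), (nat_lit 803), (nat_lit 294)])) (.leaf .df))))) (.node (.node (.node (.node (.leaf .df) (.leaf .df)) (.node (.leaf (.cyc (nat_lit 23) [(nat_lit 151), (nat_lit 493), (nat_lit 448), (nat_lit 493), (nat_lit 151)])) (.leaf .df))) (.node (.node (.leaf .df) (.leaf .df)) (.node (.leaf (.cyc (nat_lit 10) [(nat_lit 270), (nat_lit 218), (nat_lit 574), (nat_lit 218), (nat_lit 270)])) (.leaf .df)))) (.node (.node (.node (.leaf .df) (.leaf .df)) (.node (.leaf (.cyc (nat_lit 12) [(nat_lit 146), (nat_lit 143), (nat_lit 214)])) (.leaf .df))) (.node (.node (.leaf (.cyc (nat_lit 15) [(nat_lit 34), (nat_lit 380), (nat_lit 66)])) (.leaf .df)) (.node (.leaf (.cyc (nat_lit 36) [(nat_lit 322), (nat_lit 289), (nat_lit 787), (nat_lit 289), (nat_lit 322)])) (.leaf .df)))))) (.node (.node (.node (.node (.node (.leaf .df) (.leaf (.cyc (nat_lit 36) [(nat_lit 357), (nat_lit 1056), (nat_lit 1044), (nat_lit 1056), (nat_lit 357)]))) (.node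 (.leaf (.cyc (nat_lit 12) [(nat_lit 85), (nat_lit 485), (nat_lit 129)])) (.leaf .df))) (.node (.node (.leaf .df) (.leaf .df)) (.node (.leaf (.cyc (nat_lit 36) [(nat_lit 254), (nat_lit 252), (nat_lit 804), (nat_lit 252), (nat_lit 254)])) (.leaf .df)))) (.node (.node (.node (.leaf .df) (.leaf .df)) (.node (.leaf (.cyc (nat_lit 36) [(nat_lit 196), (nat_lit 672), (nat_lit 673), (nat_lit 672), (nat_lit 196)])) (.leaf .df))) (.node (.node (.leaf (.cyc (nat_lit 26) [(nat_lit 26), (nat_lit 422), (nat_lit 421), (nat_lit 422), (nat_lit 26)])) (.leaf .df)) (.node (.leaf (.cyc (nat_lit 23) [(nat_lit 309), (nat_lit 929), (nat_lit 930), (nat_lit 929), (nat_lit 309)])) (.leaf .df))))) (.node (.node (.node (.node (.leaf .df) (.leaf .df)) (.node (.leaf (.cyc (nat_lit 37) [(nat_lit 169), (nat_lit 104), (nat_lit 440), (nat_lit 104), (nat_lit 169)])) (.leaf .df))) (.node (.node (.leaf (.pin (nat_lit 1) [] [])) (.leaf .df)) (.node (.leaf (.cyc (nat_lit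 36) [(nat_lit 261), (nat_lit 704), (nat_lit 703), (nat_lit 762), (nat_lit 282)])) (.leaf .df)))) (.node (.node (.node (.leaf .df) (.leaf .df)) (.node (.leaf (.cyc (nat_lit 10) [(nat_lit 670), (nat_lit 551), (nat_lit 553), (nat_lit 678), (nat_lit 226)])) (.leaf .df))) (.node (.node (.leaf (.cyc (nat_lit 34) [(nat_lit 84), (nat_lit 47), (nat_lit 411), (nat_lit 47), (nat_lit 84)])) (.leaf .df)) (.node (.leaf (.cyc (nat_lit 27) [(nat_lit 318), (nat_lit 960), (nat_lit 337)])) (.leaf .df))))))) (.node (.node (.node (.node (.node (.node (.leaf .df) (.leaf (.cyc (nat_lit 37) [(nat_lit 352), (nat_lit 1029), (nat_lit 1030), (nat_lit 1029), (nat_lit 352)]))) (.node (.leaf (.cyc (nat_lit 43) [(nat_lit 533), (nat_lit 84), (nat_lit 85)])) (.leaf .df))) (.node (.node (.leaf .df) (.leaf .df)) (.node (.leaf (.cyc (nat_lit 11) [(nat_lit 699), (nat_lit 207), (nat_lit 709), (nat_lit 708), (nat_lit 245)])) (.leaf .df)))) (.node (.node (.node (.leaf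 .df) (.leaf .df)) (.node (.leaf (.cyc (nat_lit 10) [(nat_lit 190), (nat_lit 569), (nat_lit 570), (nat_lit 569), (nat_lit 190)])) (.leaf .df))) (.node (.node (.leaf (.cyc (nat_lit 18) [(nat_lit 17), (nat_lit 405), (nat_lit 406), (nat_lit 405), (nat_lit 17), (nat_lit 18)])) (.leaf .df)) (.node (.leaf (.cyc (nat_lit 37) [(nat_lit 277), (nat_lit 229), (nat_lit 744), (nat_lit 824), (nat_lit 301)])) (.leaf .df))))) (.node (.node (.node (.node (.leaf .df) (.leaf .df)) (.node (.leaf (.cyc (nat_lit 10) [(nat_lit 160), (nat_lit 159), (nat_lit 597), (nat_lit 159), (nat_lit 160)])) (.leaf .df))) (.node (.node (.leaf .df) (.leaf .df)) (.node (.leaf (.cyc (nat_lit 30) [(nat_lit 247), (nat_lit 746), (nat_lit 276)])) (.leaf .df)))) (.node (.node (.node (.leaf .df) (.leaf .df)) (.node (.leaf (.cyc (nat_lit 17) [(nat_lit 725), (nat_lit 219), (nat_lit 220)])) (.leaf .df))) (.node (.node (.leaf (.cyc (nat_lit 12) [(nat_lit 44), (nat_lit 414), (nat_lit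 74)])) (.leaf .df)) (.node (.leaf (.cyc (nat_lit 16) [(nat_lit 306), (nat_lit 954), (nat_lit 328)])) (.leaf .df)))))) (.node (.node (.node (.node (.node (.leaf .df) (.leaf .df)) (.node (.leaf (.cyc (nat_lit 35) [(nat_lit 92), (nat_lit 52), (nat_lit 51), (nat_lit 90), (nat_lit 143)])) (.leaf .df))) (.node (.node (.leaf .df) (.leaf .df)) (.node (.leaf (.cyc (nat_lit 38) [(nat_lit 261), (nat_lit 735), (nat_lit 736), (nat_lit 735), (nat_lit 261)])) (.leaf .df)))) (.node (.node (.node (.leaf .df) (.leaf .df)) (.node (.leaf (.cyc (nat_lit 29) [(nat_lit 178), (nat_lit 534), (nat_lit 565), (nat_lit 563), (nat_lit 200)])) (.leaf .df))) (.node (.node (.leaf (.cyc (nat_lit 15) [(nat_lit 53), (nat_lit 22), (nat_lit 56)])) (.leaf .df)) (.node (.leaf (.cyc (nat_lit 35) [(nat_lit 313), (nat_lit 274), (nat_lit 737), (nat_lit 274), (nat_lit 313)])) (.leaf .df))))) (.node (.node (.node (.node (.leaf .df) (.leaf .df)) (.node (.leaf (.cyc (nat_lit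 16) [(nat_lit 177), (nat_lit 525), (nat_lit 177)])) (.leaf .df))) (.node (.node (.leaf (.pin (nat_lit 17) [] [])) (.leaf .df)) (.node (.leaf (.cyc (nat_lit 22) [(nat_lit 816), (nat_lit 786), (nat_lit 289)])) (.leaf .df)))) (.node (.node (.node (.leaf .df) (.leaf .df)) (.node (.leaf (.cyc (nat_lit 12) [(nat_lit 225), (nat_lit 606), (nat_lit 232)])) (.leaf .df))) (.node (.node (.leaf (.cyc (nat_lit 15) [(nat_lit 59), (nat_lit 58), (nat_lit 106)])) (.leaf .df)) (.node (.leaf (.cyc (nat_lit 13) [(nat_lit 343), (nat_lit 325), (nat_lit 900), (nat_lit 325), (nat_lit 343)])) (.leaf .df))))))))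
noncomputable def kGP1111 : BT Pf := (.node (.node (.node (.node (.node (.node (.node (.leaf .df) (.leaf (.cyc (nat_lit 36) [(nat_lit 350), (nat_lit 1003), (nat_lit 1005), (nat_lit 1003), (nat_lit 350)]))) (.node (.leaf (.cyc (nat_lit 36) [(nat_lit 116), (nat_lit 471), (nat_lit 426), (nat_lit 471), (nat_lit 116)])) (.leaf .df))) (.node (.node (.leaf .df) (.leaf .df)) (.node (.leaf (.cyc (nat_lit 50) [(nat_lit 185), (nat_lit 645), (nat_lit 242)])) (.leaf .df)))) (.node (.node (.node (.leaf .df) (.leaf .df)) (.node (.leaf (.cyc (nat_lit 16) [(nat_lit 135), (nat_lit 536), (nat_lit 187)])) (.leaf .df))) (.node (.node (.leaf (.cyc (nat_lit 15) [(nat_lit 379), (nat_lit 4), (nat_lit 31)])) (.leaf .df)) (.node (.leaf (.cyc (nat_lit 50) [(nat_lit 299), (nat_lit 818), (nat_lit 299)])) (.leaf .df))))) (.node (.node (.node (.node (.leaf .df) (.leaf .df)) (.node (.leaf (.cyc (nat_lit 50) [(nat_lit 142), (nat_lit 495), (nat_lit 155)])) (.leaf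 .df))) (.node (.node (.leaf .df) (.leaf .df)) (.node (.leaf (.cyc (nat_lit 30) [(nat_lit 260), (nat_lit 735), (nat_lit 273)])) (.leaf .df)))) (.node (.node (.node (.leaf .df) (.leaf .df)) (.node (.leaf (.cyc (nat_lit 22) [(nat_lit 218), (nat_lit 575), (nat_lit 218)])) (.leaf .df))) (.node (.node (.leaf (.cyc (nat_lit 36) [(nat_lit 70), (nat_lit 402), (nat_lit 383), (nat_lit 402), (nat_lit 70)])) (.leaf .df)) (.node (.leaf (.cyc (nat_lit 63) [(nat_lit 959), (nat_lit 870), (nat_lit 813), (nat_lit 698), (nat_lit 649), (nat_lit 648), (nat_lit 672), (nat_lit 247), (nat_lit 292), (nat_lit 896), (nat_lit 324)])) (.leaf .df)))))) (.node (.node (.node (.node (.node (.leaf .df) (.leaf .df)) (.node (.leaf (.cyc (nat_lit 11) [(nat_lit 137), (nat_lit 87), (nat_lit 434), (nat_lit 87), (nat_lit 137)])) (.leaf .df))) (.node (.node (.leaf .df) (.leaf .df)) (.node (.leaf (.cyc (nat_lit 23) [(nat_lit 258), (nat_lit 803), (nat_lit 804), (nat_lit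 803), (nat_lit 258)])) (.leaf .df)))) (.node (.node (.node (.leaf .df) (.leaf .df)) (.node (.leaf (.cyc (nat_lit 10) [(nat_lit 161), (nat_lit 99), (nat_lit 100), (nat_lit 554), (nat_lit 198)])) (.leaf .df))) (.node (.node (.leaf (.cyc (nat_lit 12) [(nat_lit 46), (nat_lit 408), (nat_lit 48)])) (.leaf .df)) (.node (.leaf (.cyc (nat_lit 14) [(nat_lit 903), (nat_lit 887), (nat_lit 889), (nat_lit 844), (nat_lit 311)])) (.leaf .df))))) (.node (.node (.node (.node (.leaf .df) (.leaf .df)) (.node (.leaf (.cyc (nat_lit 22) [(nat_lit 174), (nat_lit 510), (nat_lit 174)])) (.leaf .df))) (.node (.node (.leaf (.pin (nat_lit 9) [(nat_lit 2)] [])) (.leaf .df)) (.node (.leaf (.cyc (nat_lit 14) [(nat_lit 810), (nat_lit 697), (nat_lit 694), (nat_lit 779), (nat_lit 286)])) (.leaf .df)))) (.node (.node (.node (.leaf .df) (.leaf .df)) (.node (.leaf (.cyc (nat_lit 16) [(nat_lit 229), (nat_lit 599), (nat_lit 229)])) (.leaf .df))) (.node (.node (.leaf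 (.cyc (nat_lit 38) [(nat_lit 89), (nat_lit 50), (nat_lit 21), (nat_lit 53), (nat_lit 95)])) (.leaf .df)) (.node (.leaf (.cyc (nat_lit 17) [(nat_lit 340), (nat_lit 963), (nat_lit 341)])) (.leaf .df))))))) (.node (.node (.node (.node (.node (.node (.leaf .df) (.leaf (.cyc (nat_lit 15) [(nat_lit 351), (nat_lit 1002), (nat_lit 354)]))) (.node (.leaf (.cyc (nat_lit 10) [(nat_lit 124), (nat_lit 123), (nat_lit 541), (nat_lit 123), (nat_lit 124)])) (.leaf .df))) (.node (.node (.leaf .df) (.leaf .df)) (.node (.leaf (.cyc (nat_lit 23) [(nat_lit 251), (nat_lit 201), (nat_lit 556), (nat_lit 201), (nat_lit 251)])) (.leaf .df)))) (.node (.node (.node (.leaf .df) (.leaf .df)) (.node (.leaf (.cyc (nat_lit 13) [(nat_lit 193), (nat_lit 665), (nat_lit 662), (nat_lit 665), (nat_lit 193)])) (.leaf .df))) (.node (.node (.leaf (.cyc (nat_lit 8) [(nat_lit 414), (nat_lit 13), (nat_lit 386), (nat_lit 371), (nat_lit 35)])) (.leaf .df)) (.node (.leaf (.cyc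 (nat_lit 28) [(nat_lit 919), (nat_lit 918), (nat_lit 266), (nat_lit 265), (nat_lit 306)])) (.leaf .df))))) (.node (.node (.node (.node (.leaf .df) (.leaf .df)) (.node (.leaf (.cyc (nat_lit 51) [(nat_lit 165), (nat_lit 500), (nat_lit 96), (nat_lit 54), (nat_lit 22), (nat_lit 21), (nat_lit 49), (nat_lit 433), (nat_lit 434), (nat_lit 433), (nat_lit 49), (nat_lit 21), (nat_lit 22), (nat_lit 54), (nat_lit 96), (nat_lit 500), (nat_lit 165)])) (.leaf .df))) (.node (.node (.leaf .df) (.leaf .df)) (.node (.leaf (.cyc (nat_lit 23) [(nat_lit 279), (nat_lit 760), (nat_lit 701), (nat_lit 760), (nat_lit 279)])) (.leaf .df)))) (.node (.node (.node (.leaf .df) (.leaf .df)) (.node (.leaf (.cyc (nat_lit 50) [(nat_lit 211), (nat_lit 590), (nat_lit 223)])) (.leaf .df))) (.node (.node (.leaf (.cyc (nat_lit 15) [(nat_lit 72), (nat_lit 419), (nat_lit 78)])) (.leaf .df)) (.node (.leaf (.cyc (nat_lit 29) [(nat_lit 302), (nat_lit 263), (nat_lit 262),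 (nat_lit 301), (nat_lit 331)])) (.leaf .df)))))) (.node (.node (.node (.node (.node (.leaf .df) (.leaf .df)) (.node (.leaf (.cyc (nat_lit 37) [(nat_lit 147), (nat_lit 498), (nat_lit 513), (nat_lit 498), (nat_lit 147)])) (.leaf .df))) (.node (.node (.leaf .df) (.leaf .df)) (.node (.leaf (.cyc (nat_lit 34) [(nat_lit 217), (nat_lit 145), (nat_lit 144), (nat_lit 215), (nat_lit 266)])) (.leaf .df)))) (.node (.node (.node (.leaf .df) (.leaf .df)) (.node (.leaf (.cyc (nat_lit 34) [(nat_lit 142), (nat_lit 89), (nat_lit 491), (nat_lit 139), (nat_lit 210)])) (.leaf .df))) (.node (.node (.leaf (.cyc (nat_lit 32) [(nat_lit 61), (nat_lit 446)])) (.leaf .df)) (.node (.leaf (.cyc (nat_lit 34) [(nat_lit 281), (nat_lit 233), (nat_lit 761), (nat_lit 279), (nat_lit 316)])) (.leaf .df))))) (.node (.node (.node (.node (.leaf .df) (.leaf .df)) (.node (.leaf (.cyc (nat_lit 16) [(nat_lit 181), (nat_lit 527), (nat_lit 181)])) (.leaf .df))) (.node (.node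 (.leaf (.cyc (nat_lit 2) [(nat_lit 15), (nat_lit 14), (nat_lit 375), (nat_lit 14), (nat_lit 15)])) (.leaf .df)) (.node (.leaf (.cyc (nat_lit 37) [(nat_lit 291), (nat_lit 246), (nat_lit 667), (nat_lit 246), (nat_lit 291)])) (.leaf .df)))) (.node (.node (.node (.leaf .df) (.leaf .df)) (.node (.leaf (.cyc (nat_lit 15) [(nat_lit 235), (nat_lit 615), (nat_lit 235)])) (.leaf .df))) (.node (.node (.leaf (.cyc (nat_lit 38) [(nat_lit 79), (nat_lit 42), (nat_lit 381), (nat_lit 66), (nat_lit 109)])) (.leaf .df)) (.node (.leaf (.cyc (nat_lit 12) [(nat_lit 341), (nat_lit 987), (nat_lit 346)])) (.leaf .df))))))))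
noncomputable def kGP111 : BT Pf := .node kGP1110 kGP1111
noncomputable def kGP11 : BT Pf := .node kGP110 kGP111
noncomputable def kGP1 : BT Pf := .node kGP10 kGP11
noncomputable def kGP : BT Pf := .node kGP0 kGP1
noncomputable def kGR : BT (List ℕ × ℕ × List ℕ) := (.node (.node (.node (.node (.node (.node (.node (.leaf ([(nat_lit 3), (nat_lit 2), (nat_lit 3), (nat_lit 2), (nat_lit 3), (nat_lit 2)], (nat_lit 6), [])) (.leaf ([(nat_lit 2), (nat_lit 0), (nat_lit 1), (nat_lit 0), (nat_lit 2), (nat_lit 3), (nat_lit 2), (nat_lit 0), (nat_lit 1), (nat_lit 0), (nat_lit 2), (nat_lit 3), (nat_lit 2), (nat_lit 0), (nat_lit 1), (nat_lit 0), (nat_lit 2), (nat_lit 3)], (nat_lit 9), [(nat_lit 0), (nat_lit 2), (nat_lit 3)]))) (.node (.leaf ([(nat_lit 2), (nat_lit 2)], (nat_lit 1000000), [])) (.leaf ([], (nat_lit 1000000), [])))) (.node (.node (.leaf ([(nat_lit 0), (nat_lit 2), (nat_lit 0), (nat_lit 2)], (nat_lit 2), [(nat_lit 2)])) (.leaf ([],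 (nat_lit 1000000), []))) (.node (.leaf ([(nat_lit 3), (nat_lit 1), (nat_lit 0), (nat_lit 1), (nat_lit 3), (nat_lit 1), (nat_lit 0), (nat_lit 1), (nat_lit 3), (nat_lit 1), (nat_lit 0), (nat_lit 1)], (nat_lit 7), [(nat_lit 1)])) (.leaf ([], (nat_lit 1000000), []))))) (.node (.node (.node (.leaf ([(nat_lit 3), (nat_lit 0), (nat_lit 3), (nat_lit 0), (nat_lit 3), (nat_lit 0)], (nat_lit 4), [])) (.leaf ([], (nat_lit 1000000), []))) (.node (.leaf ([(nat_lit 3), (nat_lit 0), (nat_lit 3), (nat_lit 0), (nat_lit 3), (nat_lit 0)], (nat_lit 4), [(nat_lit 3), (nat_lit 0), (nat_lit 3), (nat_lit 0)])) (.leaf ([], (nat_lit 1000000), [])))) (.node (.node (.leaf ([(nat_lit 2), (nat_lit 3), (nat_lit 2), (nat_lit 0), (nat_lit 1), (nat_lit 0), (nat_lit 2), (nat_lit 3), (nat_lit 2), (nat_lit 0), (nat_lit 1), (nat_lit 0), (nat_lit 2), (nat_lit 3), (nat_lit 2), (nat_lit 0), (nat_lit 1), (nat_lit 0)], (nat_lit 9), [(nat_lit 0)])) (.leaf ([], (nat_lit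 1000000), []))) (.node (.leaf ([(nat_lit 4), (nat_lit 3), (nat_lit 4), (nat_lit 3), (nat_lit 4), (nat_lit 3)], (nat_lit 16), [])) (.leaf ([], (nat_lit 1000000), [])))))) (.node (.node (.node (.node (.leaf ([(nat_lit 4), (nat_lit 2), (nat_lit 4), (nat_lit 2)], (nat_lit 14), [(nat_lit 2), (nat_lit 4), (nat_lit 2)])) (.leaf ([], (nat_lit 1000000), []))) (.node (.leaf ([(nat_lit 0), (nat_lit 3), (nat_lit 0), (nat_lit 3), (nat_lit 0), (nat_lit 3)], (nat_lit 4), [(nat_lit 3)])) (.leaf ([], (nat_lit 1000000), [])))) (.node (.node (.leaf ([(nat_lit 1), (nat_lit 1)], (nat_lit 1000000), [])) (.leaf ([], (nat_lit 1000000), []))) (.node (.leaf ([(nat_lit 4), (nat_lit 3), (nat_lit 1), (nat_lit 2), (nat_lit 3), (nat_lit 1), (nat_lit 0), (nat_lit 1), (nat_lit 3), (nat_lit 2), (nat_lit 1), (nat_lit 3), (nat_lit 4), (nat_lit 3), (nat_lit 1), (nat_lit 2), (nat_lit 3), (nat_lit 1), (nat_lit 0), (nat_lit 1), (nat_lit 3), (nat_lit 2), (nat_lit 1),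 (nat_lit 3), (nat_lit 4), (nat_lit 3), (nat_lit 1), (nat_lit 2), (nat_lit 3), (nat_lit 1), (nat_lit 0), (nat_lit 1), (nat_lit 3), (nat_lit 2), (nat_lit 1), (nat_lit 3)], (nat_lit 17), [(nat_lit 1), (nat_lit 3), (nat_lit 2), (nat_lit 1), (nat_lit 3)])) (.leaf ([], (nat_lit 1000000), []))))) (.node (.node (.node (.leaf ([(nat_lit 0), (nat_lit 4), (nat_lit 0), (nat_lit 4)], (nat_lit 10), [(nat_lit 0), (nat_lit 4)])) (.leaf ([], (nat_lit 1000000), []))) (.node (.leaf ([(nat_lit 1), (nat_lit 4), (nat_lit 1), (nat_lit 4)], (nat_lit 12), [])) (.leaf ([], (nat_lit 1000000), [])))) (.node (.node (.leaf ([(nat_lit 1), (nat_lit 2), (nat_lit 1), (nat_lit 2), (nat_lit 1), (nat_lit 2)], (nat_lit 1), [(nat_lit 1), (nat_lit 2)])) (.leaf ([], (nat_lit 1000000), []))) (.node (.leaf ([(nat_lit 2), (nat_lit 1), (nat_lit 3), (nat_lit 1), (nat_lit 2), (nat_lit 1), (nat_lit 3), (nat_lit 1), (nat_lit 2), (nat_lit 1), (nat_lit 3), (nat_lit 1)], (nat_lit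 8), [(nat_lit 1), (nat_lit 3), (nat_lit 1)])) (.leaf ([], (nat_lit 1000000), []))))))) (.node (.node (.node (.node (.node (.leaf ([(nat_lit 3), (nat_lit 1), (nat_lit 3), (nat_lit 1), (nat_lit 3), (nat_lit 1)], (nat_lit 5), [])) (.leaf ([], (nat_lit 1000000), []))) (.node (.leaf ([(nat_lit 3), (nat_lit 2), (nat_lit 3), (nat_lit 2), (nat_lit 3), (nat_lit 2)], (nat_lit 6), [(nat_lit 3), (nat_lit 2)])) (.leaf ([], (nat_lit 1000000), [])))) (.node (.node (.leaf ([(nat_lit 3), (nat_lit 1), (nat_lit 3), (nat_lit 1), (nat_lit 3), (nat_lit 1)], (nat_lit 5), [(nat_lit 3), (nat_lit 1), (nat_lit 3), (nat_lit 1)])) (.leaf ([], (nat_lit 1000000), []))) (.node (.leaf ([(nat_lit 4), (nat_lit 2), (nat_lit 4), (nat_lit 2)], (nat_lit 14), [(nat_lit 2)])) (.leaf ([], (nat_lit 1000000), []))))) (.node (.node (.node (.leaf ([(nat_lit 0), (nat_lit 1), (nat_lit 0), (nat_lit 1), (nat_lit 0), (nat_lit 1)], (nat_lit 0), [(nat_lit 0), (nat_lit 1)])) (.leaf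 ([], (nat_lit 1000000), []))) (.node (.leaf ([(nat_lit 1), (nat_lit 2), (nat_lit 1), (nat_lit 3), (nat_lit 1), (nat_lit 2), (nat_lit 1), (nat_lit 3), (nat_lit 1), (nat_lit 2), (nat_lit 1), (nat_lit 3)], (nat_lit 8), [(nat_lit 1), (nat_lit 3)])) (.leaf ([], (nat_lit 1000000), [])))) (.node (.node (.leaf ([(nat_lit 0), (nat_lit 3), (nat_lit 0), (nat_lit 3), (nat_lit 0), (nat_lit 3)], (nat_lit 4), [(nat_lit 3), (nat_lit 0), (nat_lit 3), (nat_lit 0), (nat_lit 3)])) (.leaf ([], (nat_lit 1000000), []))) (.node (.leaf ([(nat_lit 2), (nat_lit 1), (nat_lit 3), (nat_lit 4), (nat_lit 3), (nat_lit 1), (nat_lit 2), (nat_lit 3), (nat_lit 1), (nat_lit 0), (nat_lit 1), (nat_lit 3), (nat_lit 2), (nat_lit 1), (nat_lit 3), (nat_lit 4), (nat_lit 3), (nat_lit 1), (nat_lit 2), (nat_lit 3), (nat_lit 1), (nat_lit 0), (nat_lit 1), (nat_lit 3), (nat_lit 2), (nat_lit 1), (nat_lit 3), (nat_lit 4), (nat_lit 3), (nat_lit 1), (nat_lit 2), (nat_lit 3), (nat_lit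 1), (nat_lit 0), (nat_lit 1), (nat_lit 3)], (nat_lit 17), [(nat_lit 1), (nat_lit 3)])) (.leaf ([], (nat_lit 1000000), [])))))) (.node (.node (.node (.node (.leaf ([(nat_lit 1), (nat_lit 2), (nat_lit 1), (nat_lit 2), (nat_lit 1), (nat_lit 2)], (nat_lit 1), [])) (.leaf ([], (nat_lit 1000000), []))) (.node (.leaf ([(nat_lit 4), (nat_lit 3), (nat_lit 4), (nat_lit 3), (nat_lit 4), (nat_lit 3)], (nat_lit 16), [(nat_lit 4), (nat_lit 3)])) (.leaf ([], (nat_lit 1000000), [])))) (.node (.node (.leaf ([(nat_lit 2), (nat_lit 0), (nat_lit 2), (nat_lit 0)], (nat_lit 2), [(nat_lit 2), (nat_lit 0)])) (.leaf ([], (nat_lit 1000000), []))) (.node (.leaf ([(nat_lit 1), (nat_lit 3), (nat_lit 4), (nat_lit 3), (nat_lit 1), (nat_lit 2), (nat_lit 3), (nat_lit 1), (nat_lit 0), (nat_lit 1), (nat_lit 3), (nat_lit 2), (nat_lit 1), (nat_lit 3), (nat_lit 4), (nat_lit 3), (nat_lit 1), (nat_lit 2), (nat_lit 3), (nat_lit 1), (nat_lit 0), (nat_lit 1), (nat_lit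 3), (nat_lit 2), (nat_lit 1), (nat_lit 3), (nat_lit 4), (nat_lit 3), (nat_lit 1), (nat_lit 2), (nat_lit 3), (nat_lit 1), (nat_lit 0), (nat_lit 1), (nat_lit 3), (nat_lit 2)], (nat_lit 17), [(nat_lit 1), (nat_lit 3), (nat_lit 2)])) (.leaf ([], (nat_lit 1000000), []))))) (.node (.node (.node (.leaf ([(nat_lit 2), (nat_lit 1), (nat_lit 2), (nat_lit 1), (nat_lit 2), (nat_lit 1)], (nat_lit 1), [(nat_lit 1)])) (.leaf ([], (nat_lit 1000000), []))) (.node (.leaf ([(nat_lit 1), (nat_lit 0), (nat_lit 1), (nat_lit 3), (nat_lit 2), (nat_lit 1), (nat_lit 3), (nat_lit 4), (nat_lit 3), (nat_lit 1), (nat_lit 2), (nat_lit 3), (nat_lit 1), (nat_lit 0), (nat_lit 1), (nat_lit 3), (nat_lit 2), (nat_lit 1), (nat_lit 3), (nat_lit 4), (nat_lit 3), (nat_lit 1), (nat_lit 2), (nat_lit 3), (nat_lit 1), (nat_lit 0), (nat_lit 1), (nat_lit 3), (nat_lit 2), (nat_lit 1), (nat_lit 3), (nat_lit 4), (nat_lit 3), (nat_lit 1), (nat_lit 2), (nat_lit 3)], (nat_lit 17),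 [(nat_lit 1), (nat_lit 3), (nat_lit 2), (nat_lit 1), (nat_lit 3), (nat_lit 4), (nat_lit 3), (nat_lit 1), (nat_lit 2), (nat_lit 3)])) (.leaf ([], (nat_lit 1000000), [])))) (.node (.node (.leaf ([(nat_lit 4), (nat_lit 1), (nat_lit 4), (nat_lit 1)], (nat_lit 12), [(nat_lit 1)])) (.leaf ([], (nat_lit 1000000), []))) (.node (.leaf ([(nat_lit 0), (nat_lit 3), (nat_lit 0), (nat_lit 3), (nat_lit 0), (nat_lit 3)], (nat_lit 4), [(nat_lit 3), (nat_lit 0), (nat_lit 3)])) (.leaf ([], (nat_lit 1000000), [])))))))) (.node (.node (.node (.node (.node (.node (.leaf ([(nat_lit 4), (nat_lit 1), (nat_lit 4), (nat_lit 1)], (nat_lit 12), [(nat_lit 1), (nat_lit 4), (nat_lit 1)])) (.leaf ([(nat_lit 0), (nat_lit 4), (nat_lit 0), (nat_lit 4)], (nat_lit 10), []))) (.node (.leaf ([(nat_lit 3), (nat_lit 2), (nat_lit 3), (nat_lit 2), (nat_lit 3), (nat_lit 2)], (nat_lit 6), [(nat_lit 3), (nat_lit 2), (nat_lit 3), (nat_lit 2)])) (.leaf ([], (nat_lit 1000000),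 [])))) (.node (.node (.leaf ([(nat_lit 1), (nat_lit 4), (nat_lit 1), (nat_lit 4)], (nat_lit 12), [(nat_lit 1), (nat_lit 4)])) (.leaf ([], (nat_lit 1000000), []))) (.node (.leaf ([(nat_lit 4), (nat_lit 3), (nat_lit 1), (nat_lit 2), (nat_lit 3), (nat_lit 1), (nat_lit 0), (nat_lit 1), (nat_lit 3), (nat_lit 2), (nat_lit 1), (nat_lit 3), (nat_lit 4), (nat_lit 3), (nat_lit 1), (nat_lit 2), (nat_lit 3), (nat_lit 1), (nat_lit 0), (nat_lit 1), (nat_lit 3), (nat_lit 2), (nat_lit 1), (nat_lit 3), (nat_lit 4), (nat_lit 3), (nat_lit 1), (nat_lit 2), (nat_lit 3), (nat_lit 1), (nat_lit 0), (nat_lit 1), (nat_lit 3), (nat_lit 2), (nat_lit 1), (nat_lit 3)], (nat_lit 17), [(nat_lit 1), (nat_lit 3), (nat_lit 2), (nat_lit 1), (nat_lit 3), (nat_lit 4), (nat_lit 3), (nat_lit 1), (nat_lit 2), (nat_lit 3), (nat_lit 1), (nat_lit 0), (nat_lit 1), (nat_lit 3), (nat_lit 2), (nat_lit 1), (nat_lit 3)])) (.leaf ([], (nat_lit 1000000), []))))) (.node (.node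 (.node (.leaf ([(nat_lit 4), (nat_lit 0), (nat_lit 4), (nat_lit 0)], (nat_lit 10), [(nat_lit 0), (nat_lit 4), (nat_lit 0)])) (.leaf ([], (nat_lit 1000000), []))) (.node (.leaf ([(nat_lit 4), (nat_lit 3), (nat_lit 4), (nat_lit 3), (nat_lit 4), (nat_lit 3)], (nat_lit 16), [(nat_lit 4), (nat_lit 3), (nat_lit 4), (nat_lit 3)])) (.leaf ([], (nat_lit 1000000), [])))) (.node (.node (.leaf ([(nat_lit 0), (nat_lit 1), (nat_lit 3), (nat_lit 1), (nat_lit 0), (nat_lit 1), (nat_lit 3), (nat_lit 1), (nat_lit 0), (nat_lit 1), (nat_lit 3), (nat_lit 1)], (nat_lit 7), [(nat_lit 1), (nat_lit 3), (nat_lit 1), (nat_lit 0), (nat_lit 1), (nat_lit 3), (nat_lit 1), (nat_lit 0), (nat_lit 1), (nat_lit 3), (nat_lit 1)])) (.leaf ([], (nat_lit 1000000), []))) (.node (.leaf ([(nat_lit 2), (nat_lit 1), (nat_lit 2), (nat_lit 1), (nat_lit 2), (nat_lit 1)], (nat_lit 1), [(nat_lit 1), (nat_lit 2), (nat_lit 1), (nat_lit 2), (nat_lit 1)])) (.leaf ([], (nat_lit 1000000),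 [])))))) (.node (.node (.node (.node (.leaf ([(nat_lit 0), (nat_lit 2), (nat_lit 0), (nat_lit 2)], (nat_lit 2), [(nat_lit 2), (nat_lit 0), (nat_lit 2)])) (.leaf ([], (nat_lit 1000000), []))) (.node (.leaf ([(nat_lit 2), (nat_lit 3), (nat_lit 2), (nat_lit 3), (nat_lit 2), (nat_lit 3)], (nat_lit 6), [(nat_lit 3)])) (.leaf ([], (nat_lit 1000000), [])))) (.node (.node (.leaf ([(nat_lit 0), (nat_lit 1), (nat_lit 0), (nat_lit 1), (nat_lit 0), (nat_lit 1)], (nat_lit 0), [(nat_lit 0), (nat_lit 1), (nat_lit 0), (nat_lit 1)])) (.leaf ([], (nat_lit 1000000), []))) (.node (.leaf ([(nat_lit 2), (nat_lit 3), (nat_lit 2), (nat_lit 3), (nat_lit 2), (nat_lit 3)], (nat_lit 6), [(nat_lit 3), (nat_lit 2), (nat_lit 3), (nat_lit 2), (nat_lit 3)])) (.leaf ([], (nat_lit 1000000), []))))) (.node (.node (.node (.leaf ([(nat_lit 3), (nat_lit 4), (nat_lit 3), (nat_lit 4), (nat_lit 3), (nat_lit 4)], (nat_lit 16), [(nat_lit 4)])) (.leaf ([], (nat_lit 1000000),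 []))) (.node (.leaf ([(nat_lit 1), (nat_lit 0), (nat_lit 2), (nat_lit 3), (nat_lit 2), (nat_lit 0), (nat_lit 1), (nat_lit 0), (nat_lit 2), (nat_lit 3), (nat_lit 2), (nat_lit 0), (nat_lit 1), (nat_lit 0), (nat_lit 2), (nat_lit 3), (nat_lit 2), (nat_lit 0)], (nat_lit 9), [(nat_lit 0), (nat_lit 2), (nat_lit 3), (nat_lit 2), (nat_lit 0), (nat_lit 1), (nat_lit 0), (nat_lit 2), (nat_lit 3), (nat_lit 2), (nat_lit 0), (nat_lit 1), (nat_lit 0), (nat_lit 2), (nat_lit 3), (nat_lit 2), (nat_lit 0)])) (.leaf ([], (nat_lit 1000000), [])))) (.node (.node (.leaf ([(nat_lit 3), (nat_lit 0), (nat_lit 3), (nat_lit 0), (nat_lit 3), (nat_lit 0)], (nat_lit 4), [(nat_lit 3), (nat_lit 0)])) (.leaf ([], (nat_lit 1000000), []))) (.node (.leaf ([(nat_lit 3), (nat_lit 1), (nat_lit 0), (nat_lit 1), (nat_lit 3), (nat_lit 1), (nat_lit 0), (nat_lit 1), (nat_lit 3), (nat_lit 1), (nat_lit 0), (nat_lit 1)], (nat_lit 7), [(nat_lit 1), (nat_lit 3), (nat_lit 1),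 (nat_lit 0), (nat_lit 1)])) (.leaf ([], (nat_lit 1000000), []))))))) (.node (.node (.node (.node (.node (.leaf ([(nat_lit 2), (nat_lit 3), (nat_lit 2), (nat_lit 3), (nat_lit 2), (nat_lit 3)], (nat_lit 6), [(nat_lit 3), (nat_lit 2), (nat_lit 3)])) (.leaf ([], (nat_lit 1000000), []))) (.node (.leaf ([(nat_lit 1), (nat_lit 0), (nat_lit 1), (nat_lit 0), (nat_lit 1), (nat_lit 0)], (nat_lit 0), [(nat_lit 0)])) (.leaf ([], (nat_lit 1000000), [])))) (.node (.node (.leaf ([(nat_lit 0), (nat_lit 0)], (nat_lit 1000000), [])) (.leaf ([], (nat_lit 1000000), []))) (.node (.leaf ([(nat_lit 3), (nat_lit 2), (nat_lit 0), (nat_lit 1), (nat_lit 0), (nat_lit 2), (nat_lit 3), (nat_lit 2), (nat_lit 0), (nat_lit 1), (nat_lit 0), (nat_lit 2), (nat_lit 3), (nat_lit 2), (nat_lit 0), (nat_lit 1), (nat_lit 0), (nat_lit 2)], (nat_lit 9), [(nat_lit 0), (nat_lit 2)])) (.leaf ([], (nat_lit 1000000), []))))) (.node (.node (.node (.leaf ([(nat_lit 3), (nat_lit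 1), (nat_lit 3), (nat_lit 1), (nat_lit 3), (nat_lit 1)], (nat_lit 5), [(nat_lit 3), (nat_lit 1)])) (.leaf ([], (nat_lit 1000000), []))) (.node (.leaf ([(nat_lit 2), (nat_lit 4), (nat_lit 2), (nat_lit 4)], (nat_lit 14), [])) (.leaf ([], (nat_lit 1000000), [])))) (.node (.node (.leaf ([(nat_lit 4), (nat_lit 0), (nat_lit 4), (nat_lit 0)], (nat_lit 10), [(nat_lit 0)])) (.leaf ([], (nat_lit 1000000), []))) (.node (.leaf ([(nat_lit 1), (nat_lit 3), (nat_lit 1), (nat_lit 2), (nat_lit 1), (nat_lit 3), (nat_lit 1), (nat_lit 2), (nat_lit 1), (nat_lit 3), (nat_lit 1), (nat_lit 2)], (nat_lit 8), [(nat_lit 1), (nat_lit 3), (nat_lit 1), (nat_lit 2)])) (.leaf ([], (nat_lit 1000000), [])))))) (.node (.node (.node (.node (.leaf ([(nat_lit 2), (nat_lit 0), (nat_lit 2), (nat_lit 0)], (nat_lit 2), [])) (.leaf ([], (nat_lit 1000000), []))) (.node (.leaf ([(nat_lit 0), (nat_lit 1), (nat_lit 3), (nat_lit 1), (nat_lit 0), (nat_lit 1), (nat_lit 3), (nat_lit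 1), (nat_lit 0), (nat_lit 1), (nat_lit 3), (nat_lit 1)], (nat_lit 7), [(nat_lit 1), (nat_lit 3), (nat_lit 1)])) (.leaf ([], (nat_lit 1000000), [])))) (.node (.node (.leaf ([(nat_lit 1), (nat_lit 3), (nat_lit 1), (nat_lit 3), (nat_lit 1), (nat_lit 3)], (nat_lit 5), [(nat_lit 3)])) (.leaf ([], (nat_lit 1000000), []))) (.node (.leaf ([(nat_lit 3), (nat_lit 1), (nat_lit 2), (nat_lit 1), (nat_lit 3), (nat_lit 1), (nat_lit 2), (nat_lit 1), (nat_lit 3), (nat_lit 1), (nat_lit 2), (nat_lit 1)], (nat_lit 8), [(nat_lit 1)])) (.leaf ([], (nat_lit 1000000), []))))) (.node (.node (.node (.leaf ([(nat_lit 2), (nat_lit 4), (nat_lit 2), (nat_lit 4)], (nat_lit 14), [(nat_lit 2), (nat_lit 4)])) (.leaf ([], (nat_lit 1000000), []))) (.node (.leaf ([(nat_lit 1), (nat_lit 0), (nat_lit 1), (nat_lit 3), (nat_lit 1), (nat_lit 0), (nat_lit 1), (nat_lit 3), (nat_lit 1), (nat_lit 0), (nat_lit 1), (nat_lit 3)], (nat_lit 7), [(nat_lit 1), (nat_lit 3), (nat_lit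 1), (nat_lit 0), (nat_lit 1), (nat_lit 3), (nat_lit 1), (nat_lit 0), (nat_lit 1), (nat_lit 3)])) (.leaf ([], (nat_lit 1000000), [])))) (.node (.node (.leaf ([(nat_lit 2), (nat_lit 1), (nat_lit 3), (nat_lit 1), (nat_lit 2), (nat_lit 1), (nat_lit 3), (nat_lit 1), (nat_lit 2), (nat_lit 1), (nat_lit 3), (nat_lit 1)], (nat_lit 8), [(nat_lit 1), (nat_lit 3), (nat_lit 1), (nat_lit 2), (nat_lit 1), (nat_lit 3), (nat_lit 1), (nat_lit 2), (nat_lit 1), (nat_lit 3), (nat_lit 1)])) (.leaf ([], (nat_lit 1000000), []))) (.node (.leaf ([(nat_lit 1), (nat_lit 3), (nat_lit 1), (nat_lit 0), (nat_lit 1), (nat_lit 3), (nat_lit 1), (nat_lit 0), (nat_lit 1), (nat_lit 3), (nat_lit 1), (nat_lit 0)], (nat_lit 7), [(nat_lit 1), (nat_lit 3), (nat_lit 1), (nat_lit 0)])) (.leaf ([], (nat_lit 1000000), [])))))))))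
noncomputable def kGQ : BT (ℕ × List ℕ × ℕ) := (.node (.node (.node (.node (.node (.leaf ((nat_lit 0), [(nat_lit 0)], (nat_lit 0))) (.leaf ((nat_lit 0), [(nat_lit 4)], (nat_lit 0)))) (.node (.leaf ((nat_lit 2), [(nat_lit 0)], (nat_lit 2))) (.leaf ((nat_lit 0), [(nat_lit 0)], (nat_lit 0))))) (.node (.node (.leaf ((nat_lit 4), [(nat_lit 4)], (nat_lit 4))) (.leaf ((nat_lit 2), [(nat_lit 4)], (nat_lit 2)))) (.node (.leaf ((nat_lit 3), [(nat_lit 1), (nat_lit 0), (nat_lit 1), (nat_lit 3), (nat_lit 1)], (nat_lit 0))) (.leaf ((nat_lit 0), [(nat_lit 0)], (nat_lit 0)))))) (.node (.node (.node (.leaf ((nat_lit 2), [(nat_lit 2)], (nat_lit 2))) (.leaf ((nat_lit 1), [(nat_lit 4)], (nat_lit 1)))) (.node (.leaf ((nat_lit 3), [(nat_lit 1), (nat_lit 3)], (nat_lit 1))) (.leaf ((nat_lit 0), [(nat_lit 0)], (nat_lit 0))))) (.node (.node (.leaf ((nat_lit 1), [(nat_lit 2), (nat_lit 1)], (nat_lit 2))) (.leaf ((nat_lit 4), [(nat_lit 3), (nat_lit 1), (nat_lit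 2), (nat_lit 3), (nat_lit 1), (nat_lit 0), (nat_lit 1), (nat_lit 3), (nat_lit 2), (nat_lit 1), (nat_lit 3), (nat_lit 4), (nat_lit 3), (nat_lit 1), (nat_lit 2), (nat_lit 3), (nat_lit 1)], (nat_lit 0)))) (.node (.leaf ((nat_lit 3), [(nat_lit 2), (nat_lit 0), (nat_lit 1), (nat_lit 0), (nat_lit 2), (nat_lit 3), (nat_lit 2), (nat_lit 0)], (nat_lit 1))) (.leaf ((nat_lit 0), [(nat_lit 0)], (nat_lit 0))))))) (.node (.node (.node (.node (.leaf ((nat_lit 1), [(nat_lit 1)], (nat_lit 1))) (.leaf ((nat_lit 4), [(nat_lit 1)], (nat_lit 4)))) (.node (.leaf ((nat_lit 3), [(nat_lit 0), (nat_lit 3)], (nat_lit 0))) (.leaf ((nat_lit 0), [(nat_lit 0)], (nat_lit 0))))) (.node (.node (.leaf ((nat_lit 0), [(nat_lit 1), (nat_lit 0)], (nat_lit 1))) (.leaf ((nat_lit 4), [(nat_lit 3), (nat_lit 4)], (nat_lit 3)))) (.node (.leaf ((nat_lit 3), [(nat_lit 1), (nat_lit 2), (nat_lit 1), (nat_lit 3), (nat_lit 1)], (nat_lit 2))) (.leaf ((nat_lit 0), [(nat_lit 0)],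 (nat_lit 0)))))) (.node (.node (.node (.leaf ((nat_lit 3), [(nat_lit 3)], (nat_lit 3))) (.leaf ((nat_lit 4), [(nat_lit 2)], (nat_lit 4)))) (.node (.leaf ((nat_lit 3), [(nat_lit 2), (nat_lit 3)], (nat_lit 2))) (.leaf ((nat_lit 0), [(nat_lit 0)], (nat_lit 0))))) (.node (.node (.leaf ((nat_lit 0), [(nat_lit 2)], (nat_lit 0))) (.leaf ((nat_lit 0), [(nat_lit 0)], (nat_lit 0)))) (.node (.leaf ((nat_lit 4), [(nat_lit 0)], (nat_lit 4))) (.leaf ((nat_lit 0), [(nat_lit 0)], (nat_lit 0))))))))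
noncomputable def kGC : Cert := ⟨(nat_lit 5), (nat_lit 1067), kGF, kGP, kGR, kGQ⟩
noncomputable def kGh : List (Ex × Ex) := [((.t (.g 0) (.g 1)), (.t (.g 1) (.g 0))), ((.t (.g 1) (.g 2)), (.t (.g 2) (.g 1))), ((.t (.g 0) (.g 2)), (.g 0)), ((.t (.g 2) (.g 0)), (.g 2)), ((.t (.g 3) (.g 0)), (.t (.g 0) (.g 3))), ((.t (.g 3) (.g 1)), (.t (.g 1) (.g 3))), ((.t (.g 3) (.g 2)), (.t (.g 2) (.g 3))), ((.t (.g 3) (.t (.g 0) (.g 1))), (.t (.t (.g 0) (.g 1)) (.g 3))), ((.t (.g 3) (.t (.g 2) (.g 1))), (.t (.t (.g 2) (.g 1)) (.g 3))), ((.t (.g 3) (.t (.t (.g 1) (.g 0)) (.g 2))), (.t (.t (.t (.g 1) (.g 0)) (.g 2)) (.g 3))), ((.t (.g 4) (.g 0)), (.g 4)), ((.t (.g 0) (.g 4)), (.g 0)), ((.t (.g 4) (.g 1)), (.g 4)), ((.t (.g 1) (.g 4)), (.g 1)), ((.t (.g 4) (.g 2)), (.g 4)), ((.t (.g 2) (.g 4)), (.g 2)), ((.t (.g 4) (.g 3)), (.t (.g 3) (.g 4))), ((.t (.g 4) (.t (.t (.t (.t (.t (.g 0) (.g 1)) (.g 3)) (.g 2)) (.g 1)) (.g 3))), (.t (.t (.t (.t (.t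 (.t (.g 0) (.g 1)) (.g 3)) (.g 2)) (.g 1)) (.g 3)) (.g 4)))]
theorem kGk : kGC.full 5 kGh [] [] = true := by decide +kernel
noncomputable def kGat : BT Nat := (.node (.node (.node (.node (.leaf (nat_lit 0xc86833088c8241a0403c23108c430188904430080680e1783c5c150c45c2d120384c1a034582b0786032158a81a240b8680c0c0a4401a0c85226060a0321989c162612890240485414230e04223090401222090101310828401108428080807c20100343e0c040461e03850241d0900c0f0e06814110701c060d824210d044320606046180285c220d08816160282c0e0a00c08150983c130a808061407026130084806110480e1000808160983c000e0680c11028301600008080405010080400c1403048200c0100812020380801008200e010280000030000a00)) (.leaf (nat_lit 0x28e3ee877c263e51c79cf1e8f3e0a4734fe2b429a94342a049dcd4128e36e58dd01fa51c69c8f58d468a38cb8df7198c947187146210f328e7ee18bc5e2e503962d0470b80a46fc563b3e991433e8a4f5bf3c28a05136f3a9c849381badc743949082445cae46e1273b6dc4221102424b0f6dc89b449c39b30e9d4cc9386b621afb9c922da86361af2524e70d685c2e1648cae15296b4809384b56131f9b927086a4da3108249ad346a4adaa49cd5a7039a3989182cae0ad3829211199c59eed124e64ce834c5be48c4e5af6673dc93983325f2a971270065cb60100)))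 (.node (.leaf (nat_lit 0x1c556b75c9ad8c393553c6a5cb58706a275acd2350e28867b20d2d21c4d49b6a9a1a839268f8674d34c714c9a932674c8e0984a34d30671c158d24ba5cca392f0ec6468b38715d995a064678e0ba4c3399a641cd4c63432154a39a0cc47f53a047248b1cc4cc318e2c848220c2cb1c8d28630220d0381ad0268559807263a34beca308e2c646324beab1c8c2a52f3218e3898114692f1ac702f9fd8ec62f0e69c2ea411ec51c140c443a1cba389bd1e932e1b8725fa14b693618e0be5a30d805b1c924832d308b838af504c12d300722e238b26f490e25b5dafcb2be)) (.leaf (nat_lit 0)))) (.node (.node (.leaf (nat_lit 0x181127746a308a31914888b452246136220ba43438c481219090c8318500734290908301fcac8341108632110502803f8c8403f1608258184f07b3e8fcae301dcb4562b0fc633c8f8f87b3d0c83d3c9509c5418c7e3c299e0ee319487676291d463240e8e873288a04d37940e43914cdc38389c0de2a0dcdc442a12850281a49a6d1b0a443358d4d84c14cd034359a8d22a0ccd04125138541919c7c34238a65118998ca4815060641d8c49228918c06317988532f0b8c2602f8a82d2f1388841148985c161748629964565c2d96854151649458220a258181005440))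 (.leaf (nat_lit 0x30ebf4fafd7ebe6253abd4fb2d40c3aed3abb5dae98365ae54e9d54312935bacd3e946251ab547a8584c4a0d92b762a1187589f562b1583127b579f52a98624f2ad4ca3cf8b49a4e2c735b1165639b4d2a35c2c2c537ae506685a4c6a5619951cb2b0d466354a31692fb04c2b55e2d25d5faf56e605957abb2eae4bcb1a6cc69b2da29692a9655a61572c29729a5d2e505a49e7742abd6cb0adce6832e939674892d0291482d24726ad55aa45956a492397d44b3a2c8a8b45a6969219951289442ce87209d50e865a472854a8ed64b0acd0693538e163408e5223740))) (.node (.leaf (nat_lit 0x24e2aae734520649bd959135b2d0825cc4956d564906d1554497911201e91087bb95240c315ea95443c8278c394eec54102a986c314af420d50a252431e24141e169d85278824f42536dd839009d8441d8a9b209a7064c4153441b152efa4ea70816e2a1c09682104e868255c0e3201429c71a8d2a413aa0694812588173b35c49451902cc80b3122cc201f50062bf92040be5fefc46bf88274bf518fc6e902907da7116fa2091a9144be51640a31f0e944a7c80693d996d444106b443bdd62f6209dcf5423d10a40a9de6f141a9082763c904f178100eb56bc10882)) (.leaf (nat_lit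 0))))) (.node (.node (.node (.leaf (nat_lit 0x14ca6291f95cac2a0a0aa49148ec532a0a07a371e8a8262989c702e1504a522389c7c2a090a22e1589c431b08c72392808822278c4782310c9c22168f466218e442361b134431608098351a8881f25880922110c941f150cc6e2092464280f8c0440e92070470f08247200943a3210c5e1c179185e2206c8a3a0e0f0432206c6e2d15086350d10c582c11032420d0e852219043233200b4440b8fc303e158823e1e8c82e251102c271e0ec74210f02e161106c411d8946016140803a0e86c32160d028390f05470180e06e1d1305034090d8261e1a068111a8d03013)) (.leaf (nat_lit 0x2d22f1d9fcfe7e5a452b1578ad58b2abca2292795161569d4aa4714292214a9dcee7650cea7943874e8a09cd267339869490baace271382826f539bcde12514daa9089b4d8a4834d665558e9435583d520d5328e670499cce1c5240e8935a9454a1a9536a303919490198542994f28aa12f80d1a9c5053e5d4ea4c04a296c0a014d96948ffa64b2592c28215057f41df851d31f33c80cf4a07f52e14fa7c943289eca1eb4b28e94f48e4f692523ca8f2693498a187d21e8f08614524a33b6492428e8eeca34f262513c28aeb87bb0a3a23aa432190942fca1be5d30a)))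 (.node (.leaf (nat_lit 0x2090aef40299dc4021140ee75a0081413b5d87f75904965e1f9b8ea2052a80741f9424025174ea739f8836e9f53e9e74902e35c284f8e8209469f3da85ce403896ce76f1ec8270b98f4e53e102c442390f4de208f8b33cb8dc2409ed48a33cb88803d2c5c2c43c9047d701e160b02055eda579d95e412b9be75571d88156b015a7556900976f2b158731cd3e726ea391839289b872552a8716c2a5b4716d8e4d7689c1b4d91c184a76ca48e03924d4c6f5f9c47238a2cdcd8498e2705935cdcc21cd6e6d5933d9a392a9ae6d5128873679b170b75d8e0875f281406c)) (.leaf (nat_lit 0)))) (.node (.node (.leaf (nat_lit 0x1c0b489492f4b239990b0bc5dae872582e4ae7d3e8e4b34d15570b51c564575b9556c382c4eab55a154732a95166b2588e257382c0a6781c0ac5f3b9dca6391d92c5257ab8703a9e95cad290e46630944e8741c4ca5b3994558309b556aa281c862529989ea9530c2a43c2a09ea71810c50532049e3193c9ca552218613928d444d368c25d509b098a01891c4c25a7d1430a6d329e25a746047935149c258c64b25239368f18cce494d26530311d0e248331986139a54ca484b8c67e23a592a94188c6932318d223018924913111862459d08a90468c28a2323c8a8e))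 (.leaf (nat_lit 0x38ecf65b3d9ece69d9ac366b3598d4ae59ec55eb19a764acd92c964312a963aad86ca6254ec565acd54c4a8d9aa563ad18760a8582c160))) (.node (.leaf (nat_lit 0x24e58ca7fbfdfe484a5fd2b65b28937eb25fafd8d923207e329932b24df6c88cc35f64832df4d294b2091654aa40c794926f8633e1db1e249c8f76241204483798b0271310937ab0e35287a922db93c9586d824de6c279bce3049c9982f2793c8916cbc584c16b92522783024ac124ddebf8fbbdde4930ddcbe6dafc9376af648f876924c191af5b32224180eb912f97a4933a42ba89af09064ba58d205c920d08faee24b82499b1e5b2e96e49c756adf8e418918b46e22b589124f78d2d22313245711967acda0482da30cd7b2c8925ac5d6316599271258345a116)) (.leaf (nat_lit 0))))))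
noncomputable def kGa (p : Nat) : Nat := row kGat (nat_lit 5) (nat_lit 31) (nat_lit 55) (nat_lit 36028797018963967) p
noncomputable def kGft : BT Nat := (.node (.node (.node (.node (.leaf (nat_lit 0x4a6b0228203826441482432c72cca9d3050120cf9a308e08c15025092674d099c01e0a01382601402c240430dc7f0e49c808c1b0ed1c438a1041382232871cc99c8040108be97c0361040882c01a0301599e04807cc818f3946701184431c6340f1a20285f8bf81001e6480618131c01c04191014084c502000c014068242e663404023044074c619d39262c0702530a6100500904210cc51c4038624058222e45f00318902461c069743066080997b01c63c0798b01207cb880403c0240417e2e001c0180500c618b98012d86080381d2de6100e00200a620b91740005ac0216a01c5e4bb9750065ecb48040060080117a2e25a0b616e0025e0b80012ce5ac001762de5b400166)) (.leaf (nat_lit 0x228d2c87b4a692d204c2401268fd1f0da240da88db9d27ae8c90bc0720e348e13e23eda48d368722d9c8e36022e4f1afb5e1389204baa848e918332020c27c05009f15c3ac54a674cc994568ea4c8bd4542d226a4c1cf39d7c6e709a14d736f6497bd41cc38572ae45c6bdc6bad557e3496bafa1aabd95eafc5f0340a3956284f25e43c721040d98b7770ecc082b2c200cac94b5a1fac658db1a1f0494470ce45e334448cc25050c91b7f6fcdf493b936f8dec9137a218cec83b3a6924b852a565d039450257216ce496b387284188793467e429cb33e224d0dcab4521ad10762f622cbd473af41b842c6b90a212420508e11c02712825e2885509f9537865488c3546ac44daab53)))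 (.node (.leaf (nat_lit 0xc87bc2f89b44c26862ac153a3014e318188b994d8f65342fc2c0843cc20c2988218c3054fac253cb9c58a6e1589b5362cd186a594ca9817ca5c4b23b1223651d239190bb461aa4546a886d2c658835562ac30c22584a89446e1702f8921222402d08f198acd5a0c71f2ac866ab556ec2d5b0c81eac29880f023ac245fa8c51ca345d2e90b415442a1745289c492324668d846a3517cc3d458b91e6a2848a4e46234d1a08c17aa1d448b8510c382ca153ce1510a224178a15868f250c2dc4488418aa3514aa6156b70532614c0aa84522b10a31c6322a1fcc718f31d1f2d907734d1d24648c30814cad52c0e6142abc8136e64c3f592b61116ab919a8310c320713061bab696c910)) (.leaf (nat_lit 0)))) (.node (.node (.leaf (nat_lit 0xf8a150e0b94681dc3da130ec2e10a0b7194ab062aab55aaa865aae560ac4632af1e8c1983b1d1dec2075b0c5e639992af2176a105b2835b23c45a8b05949d93aa740d6878330a43fa80059a705e69bd388ae0800ece19f73727d80e8190306fc1e1a80a87fc279e00f81ec412220fa2f510a6a0f28403a0b516883c1a8300ac6c0da1af0fe8643d0bb434860209ba3e67701e06b0300c01799b0286603a27344a1bd262060ae204290800fe794381f8450848fc86b0ac78c3f1e40a28283ba100e42c52120d0ec1c51c20c4168283c20e42c2cc398b20a484c268790f01dc2884c0ec770eda111689cd580af55a9c85928415aac477af20f41d45b2124ea8443a8b00e082504207))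 (.leaf (nat_lit 0x2d3098b242584908cb215f82907e09c202c7048af41182103c9f950776f74a793a2b855dfbbf683cfd4af3fd7fc56610bfc2acf9cb0bf6808544b0c0a2b9026044072be56a01401800ffcaebf87f4fecac3f92a2531f13e17c100c8d13b22ae5dcf93a2a056defbdd7bc52c9c133744f95d0bd326e539d013273ef5cb41632cb08a10c202ce588b241f83d074aa15f2bcfa8a7beb22ed41a8b522244e4ad1557e0fedf7bff252e0892381700510a794a7e8f72003f529455ca2bd17d0f4083b322044ad97b2e296f48a31592b0f4ca6bfd7b0521f63d727ced9dc3b576e4e49d3a926aea1d3ba627aecc9c3b4764ec4a13c0782f709e951286f9de13d17bc4f89838f7204adc8b8e))) (.node (.leaf (nat_lit 0x21a4c19e33d25e4205189e1c8b9128a6212693d5f88e1a8b00482bc116348688d024cde0a13776f2484698ce62ec495db301a032c802b9654ae0693116363355d32d0b82282b9e81122207db392463d8913181b2b0483ac21a841873ae65d0ce0712e71bcb399f8d921ab3443aa51863094d0821a8af067ad358abd04c8dc4882506da41072178f305d0681704a8d81ae241282c307016cda9b60b40cc9136b27edb48eb6c1d0ba9ab0e3228ba47c371240ccc79b581b0b7c828d3208b004428c18820d442a01eec3d880f223ec384fa4e5a237d4309a144a944e8e31c4a98360a714c294339f423cd95df9196ccd90340a24a88b45086319e3fc7f0fd1943f08ebad6c4d8c8c361))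 (.leaf (nat_lit 0))))) (.node (.node (.node (.leaf (nat_lit 0xe47fc369fe3fa2b822840386790e31e103c0640d1bc07c69c1782a09e6a4ef1a40aa1403ea0c3c47842784a0e8760fd9d70660b8e61ae35a6bc2984e0f477cef1dd0866e8dd9bd07c7340b02e022600cc9980968142306f3a073c191ac0a46ac2882d0947e0229d939c734221e33840fce09d109a120391df41674c260710e0748239d109c758249d50e67501682809a760d09a4058130139bd34012c39a050dc2bd022030e21b0569fc3f67e8280753b47650404b08e108369c738c7e80f8400340fc0d9a60620b0d51a93c475c0802a2fa0301480b060140d29d20566981584a33e098e299e092110e61cb3947741704e37668c149a202a6040881032a0b41302108c6acc9992)) (.leaf (nat_lit 0x1e03ac8daff5fcbf4a914d2b9005f1bf929c569ed3d9292f6ca63f87aaf58a3bd42b6559fa3f37e4fc49738b7aaed094b8c254e10a2b8370a494a41437c4f31e5bca266e65efb987344b8752f022a39578aef2724d1d2ba47c0e8c9914c25ae5dcb14b236d748b35c6b6d688810b26ae91d0b9c21c4cda8932212ee8ac9547dd089f7c1d2b058df69537d8facab9627d2fa9f41521cab8870113224b84a31417e0f19e2bc4262e4dcab927284b0a2955280f59e1bdb1f8d5c9237b1eedc8a4bce7b4f35e794425e5289538d292f409612728ce29c4b881a240c811016463309dbab7b04d9d63aa25af489414828eee895926770ebdc3b86222ea486342682d008b34f270dcc88b7a)))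 (.node (.leaf (nat_lit 0x19cc707dada1923e88ab4d69cd309b910246db9b836f23ceb86b2c657cb2468acb1362586ead85909144b89247ab311e2c714093d2e89b538b784e89849692924ad60740d42f9b73dc7b0338624027c9289f115e2a8762695f69a0560a71d2be531a6207e1a8e003a3da7d40d83806e0580b83607c1a4dc0680ce0e460a935a82f14a2921f4c518bb161eac5479b046783b982b031e4c01b13021dac0474aed1c8bb175aee0bc7bc2c88e11a2302e8581167acf51e91f2c4589b121e84844788a19e8c15dab814e2892d2b956c964462b345821c64a8f150a41448a3574ac81e06506e7a0320630340d40a8160680cc1b0580ae0c4d91b10c61784ca4a3dc91471adc69cb6d6e8de)) (.leaf (nat_lit 0)))) (.node (.node (.leaf (nat_lit 0x1ecc3186b0b23c3c46d8d6594b25642c7152a4d2e8a44b896c3786a1587dd24a6807a0e0331b73727c4370691569a5319f60380ec0c03a02e0e440a1e4402f03e21f1009c10e21b43a1ec612955882f47ab031609ac558ee1da9a85d2805042d540a7f1729f583a7e168bb81b8320b27acda1b3180a41488bb1e8a3c350654408c10d2590b68ac2b08710c86034a193e628c3222a0320c80a8310286684f2ac132935260de10a8c91288044c890420c15323003f8bf068154178540a6794430814508d94f22710688c3f26d17c8e45b2805222c53c2771349f44aa43484a884a0d64703551b88f1709ed5a0b34f8c245ba7956e3c13d0b20fca1d41079174a283ea1542c85c3c235))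 (.leaf (nat_lit 0x2cb060b041782d054b140e2bb0360640b2aa540b0405826f98b341c2c306e0d4192804edde3e17c8f98b015b80d016024032a6538aebe57c8ff0b542a2cb0a614427))) (.node (.leaf (nat_lit 0x24a504903766eadd08cb576b2e488a358214cdc82b3666ad9c84b4f668ccc8212c192aa4622a81f0a9c63aea5423087baa0248dc4a037323edc86fad05a2b3c870da1543a12f8a51ce9783289e13a270301f4282ef9df93c79eef483378254405b332d14894d2a2524aa27c819271fcca59432711a32d1722d19422080926648d8d918fc200c807db4a63ec847fb65644d31bc8fa226d19b813621cd1c820ff250dbd95386278eb5d83af26eeb86e8d8218b3171acb1c8b7d700df222b78708dc21eb616bad60c016c499f24787b078b6a1d8cf48e33e1de3a88d2fc5f6be8768e822ebe57c2f70c42604b85d3da9041d8620c26d8300360da2a8548681507d4702d55a8b4c6dad2)) (.leaf (nat_lit 0))))))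
noncomputable def kGf (p : Nat) : Nat := row kGft (nat_lit 5) (nat_lit 31) (nat_lit 66) (nat_lit 73786976294838206463) p
noncomputable def kGT : Tab := ⟨(nat_lit 360), (nat_lit 5), fun g p => fld (kGa p) (Nat.mul (nat_lit 9) g) (nat_lit 511),
  fun g => g, fun p => fld (kGa p) (nat_lit 45) (nat_lit 15), fun p => fld (kGa p) (nat_lit 49) (nat_lit 63)⟩
noncomputable def kGl (p : ℕ) : ℕ := fld (kGf p) (nat_lit 55) (nat_lit 2047)
noncomputable def kGfi (g p : ℕ) : ℕ := fld (kGf p) (Nat.mul (nat_lit 11) g) (nat_lit 2047)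
theorem kGt : rng (fun p => band (kGT.chkA p) (band (kGT.chkP p) (kGC.chkT kGT kGl kGfi p))) 0 360 3 = true := by decide +kernel
theorem kGg : band kGT.chkG (allLt 5 fun g => Nat.beq (kGl (kGT.pt g)) g) = true := by decide +kernel
theorem kG_real {G : Type*} [Group G] {a b c d e : G} (qa : a * a = 1) (qb : b * b = 1) (qc : c * c = 1) (qd : d * d = 1) (qe : e * e = 1)
    (h0 : tw a b = tw b a)
    (h1 : tw b c = tw c b)
    (h2 : Commute a c)
    (h3 : tw d a = tw a d)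
    (h4 : tw d b = tw b d)
    (h5 : tw d c = tw c d)
    (h6 : tw d (tw a b) = tw (tw a b) d)
    (h7 : tw d (tw c b) = tw (tw c b) d)
    (h8 : tw d (tw (tw b a) c) = tw (tw (tw b a) c) d)
    (h9 : Commute e a)
    (h10 : Commute e b)
    (h11 : Commute e c)
    (h12 : tw e d = tw d e)
    (h13 : tw e (tw (tw (tw (tw (tw a b) d) c) b) d) = tw (tw (tw (tw (tw (tw a b) d) c) b) d) e)
    : ∃ ε : ℕ → G, QReal kGT ε ∧ ε 0 = a ∧ ε 1 = b ∧ ε 2 = c ∧ ε 3 = d ∧ ε 4 = e := by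
  have ht := fun p hp => band_iff.1 (rng_spec kGt p (Nat.zero_le _) hp)
  have hg := band_iff.1 kGg
  have hA := kGT.chkA_spec fun p hp => (ht p hp).1
  obtain ⟨ε, h, h'⟩ := kGC.qreal (s := val [a, b, c, d, e]) _ kGh kGT kGl kGfi kGk
    (kGT.ok_of hA.1 hA.2 (fun p hp => (band_iff.1 (ht p hp).2).1) hg.1) rfl
    (fun g hg' => beq_iff.1 (allLt_spec hg.2 g hg')) (fun p hp => (band_iff.1 (ht p hp).2).2)
    (val_sq (by simp [*])) ⟨h0, h1, tw_of_comm qc h2, tw_of_comm qa h2.symm, h3, h4, h5, h6, h7, h8, tw_of_comm qa h9, tw_of_comm qe h9.symm, tw_of_comm qb h10, tw_of_comm qe h10.symm, tw_of_comm qc h11, tw_of_comm qe h11.symm, h12, h13, trivial⟩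
  exact ⟨ε, h, h' 0 (by decide), h' 1 (by decide), h' 2 (by decide), h' 3 (by decide), h' 4 (by decide)⟩
noncomputable def kGW00 : BT (List ℕ × ℕ × ℕ) := (.node (.node (.node (.node (.node (.node (.node (.leaf ([], (nat_lit 0), (nat_lit 2))) (.leaf ([(nat_lit 1), (nat_lit 3), (nat_lit 2), (nat_lit 0), (nat_lit 1), (nat_lit 0), (nat_lit 3), (nat_lit 4), (nat_lit 2), (nat_lit 0), (nat_lit 3), (nat_lit 1), (nat_lit 0), (nat_lit 3)], (nat_lit 0), (nat_lit 2)))) (.node (.leaf ([(nat_lit 4), (nat_lit 3), (nat_lit 1), (nat_lit 0), (nat_lit 3), (nat_lit 1), (nat_lit 2), (nat_lit 3), (nat_lit 1), (nat_lit 0), (nat_lit 3), (nat_lit 4), (nat_lit 1), (nat_lit 0)], (nat_lit 0), (nat_lit 3))) (.leaf ([], (nat_lit 0), (nat_lit 0))))) (.node (.node (.leaf ([(nat_lit 3), (nat_lit 1), (nat_lit 0), (nat_lit 3), (nat_lit 1)], (nat_lit 0), (nat_lit 2))) (.leaf ([(nat_lit 2), (nat_lit 3), (nat_lit 4), (nat_lit 0), (nat_lit 3), (nat_lit 1), (nat_lit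 2), (nat_lit 3), (nat_lit 4), (nat_lit 1), (nat_lit 3), (nat_lit 0), (nat_lit 1)], (nat_lit 0), (nat_lit 2)))) (.node (.leaf ([(nat_lit 1), (nat_lit 0), (nat_lit 3), (nat_lit 2), (nat_lit 1), (nat_lit 0), (nat_lit 3), (nat_lit 1), (nat_lit 2), (nat_lit 1), (nat_lit 3), (nat_lit 4), (nat_lit 0)], (nat_lit 0), (nat_lit 3))) (.leaf ([], (nat_lit 0), (nat_lit 0)))))) (.node (.node (.node (.leaf ([(nat_lit 1), (nat_lit 3), (nat_lit 0), (nat_lit 1), (nat_lit 3), (nat_lit 4), (nat_lit 0)], (nat_lit 0), (nat_lit 3))) (.leaf ([(nat_lit 1), (nat_lit 0), (nat_lit 3), (nat_lit 2), (nat_lit 1), (nat_lit 3), (nat_lit 4), (nat_lit 2), (nat_lit 0), (nat_lit 1), (nat_lit 0)], (nat_lit 0), (nat_lit 3)))) (.node (.leaf ([(nat_lit 3), (nat_lit 0), (nat_lit 1), (nat_lit 3), (nat_lit 4), (nat_lit 3), (nat_lit 1), (nat_lit 0), (nat_lit 3), (nat_lit 2), (nat_lit 0)], (nat_lit 0), (nat_lit 1))) (.leaf ([], (nat_lit 0), (nat_lit 0))))) (.node (.node (.leaf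 ([(nat_lit 1), (nat_lit 3), (nat_lit 1), (nat_lit 2), (nat_lit 0), (nat_lit 3), (nat_lit 1), (nat_lit 2), (nat_lit 0), (nat_lit 3), (nat_lit 4)], (nat_lit 0), (nat_lit 3))) (.leaf ([(nat_lit 3), (nat_lit 4), (nat_lit 2), (nat_lit 1), (nat_lit 3), (nat_lit 1), (nat_lit 2), (nat_lit 0), (nat_lit 3), (nat_lit 4), (nat_lit 3), (nat_lit 2), (nat_lit 0), (nat_lit 3), (nat_lit 0), (nat_lit 1)], (nat_lit 0), (nat_lit 2)))) (.node (.leaf ([(nat_lit 4), (nat_lit 1), (nat_lit 2), (nat_lit 0), (nat_lit 3), (nat_lit 1), (nat_lit 2), (nat_lit 3), (nat_lit 4), (nat_lit 0), (nat_lit 1)], (nat_lit 0), (nat_lit 3))) (.leaf ([], (nat_lit 0), (nat_lit 0))))))) (.node (.node (.node (.node (.leaf ([(nat_lit 4), (nat_lit 1), (nat_lit 2), (nat_lit 1), (nat_lit 3), (nat_lit 0), (nat_lit 1), (nat_lit 2), (nat_lit 1), (nat_lit 3), (nat_lit 4)], (nat_lit 0), (nat_lit 3))) (.leaf ([(nat_lit 1), (nat_lit 3), (nat_lit 4), (nat_lit 0), (nat_lit 1), (nat_lit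 0), (nat_lit 3), (nat_lit 2), (nat_lit 1), (nat_lit 3), (nat_lit 4), (nat_lit 0), (nat_lit 3)], (nat_lit 0), (nat_lit 2)))) (.node (.leaf ([(nat_lit 1), (nat_lit 3), (nat_lit 1), (nat_lit 2), (nat_lit 0), (nat_lit 3), (nat_lit 1), (nat_lit 2), (nat_lit 0), (nat_lit 1), (nat_lit 0), (nat_lit 3), (nat_lit 4), (nat_lit 1)], (nat_lit 0), (nat_lit 3))) (.leaf ([], (nat_lit 0), (nat_lit 0))))) (.node (.node (.leaf ([(nat_lit 1), (nat_lit 0), (nat_lit 3), (nat_lit 1), (nat_lit 2), (nat_lit 3), (nat_lit 4), (nat_lit 3), (nat_lit 2), (nat_lit 0), (nat_lit 3)], (nat_lit 0), (nat_lit 1))) (.leaf ([(nat_lit 4), (nat_lit 1), (nat_lit 2), (nat_lit 0), (nat_lit 1), (nat_lit 3), (nat_lit 2), (nat_lit 0), (nat_lit 3), (nat_lit 4), (nat_lit 3), (nat_lit 1), (nat_lit 0), (nat_lit 3), (nat_lit 1), (nat_lit 2), (nat_lit 0)], (nat_lit 0), (nat_lit 3)))) (.node (.leaf ([(nat_lit 2), (nat_lit 3), (nat_lit 1), (nat_lit 0), (nat_lit 3), (nat_lit 4), (nat_lit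 0), (nat_lit 3), (nat_lit 1), (nat_lit 0), (nat_lit 3), (nat_lit 2)], (nat_lit 0), (nat_lit 3))) (.leaf ([], (nat_lit 0), (nat_lit 0)))))) (.node (.node (.node (.leaf ([(nat_lit 3), (nat_lit 1), (nat_lit 0), (nat_lit 3), (nat_lit 1), (nat_lit 2), (nat_lit 0)], (nat_lit 0), (nat_lit 3))) (.leaf ([(nat_lit 4), (nat_lit 1), (nat_lit 3), (nat_lit 2), (nat_lit 0), (nat_lit 3), (nat_lit 1), (nat_lit 2), (nat_lit 0), (nat_lit 1), (nat_lit 3), (nat_lit 2), (nat_lit 0), (nat_lit 3), (nat_lit 4), (nat_lit 1)], (nat_lit 0), (nat_lit 3)))) (.node (.leaf ([(nat_lit 1), (nat_lit 3), (nat_lit 4), (nat_lit 2), (nat_lit 3), (nat_lit 2), (nat_lit 0), (nat_lit 1), (nat_lit 0), (nat_lit 3), (nat_lit 4), (nat_lit 2), (nat_lit 3), (nat_lit 1)], (nat_lit 0), (nat_lit 2))) (.leaf ([], (nat_lit 0), (nat_lit 0))))) (.node (.node (.leaf ([(nat_lit 1), (nat_lit 3), (nat_lit 0), (nat_lit 1), (nat_lit 3), (nat_lit 4), (nat_lit 2)], (nat_lit 0), (nat_lit 3)))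 (.leaf ([], (nat_lit 0), (nat_lit 0)))) (.node (.leaf ([(nat_lit 3), (nat_lit 0), (nat_lit 1), (nat_lit 0), (nat_lit 3), (nat_lit 2), (nat_lit 1), (nat_lit 0), (nat_lit 3), (nat_lit 4), (nat_lit 2), (nat_lit 1)], (nat_lit 0), (nat_lit 3))) (.leaf ([], (nat_lit 0), (nat_lit 0)))))))) (.node (.node (.node (.node (.node (.leaf ([(nat_lit 4), (nat_lit 1), (nat_lit 3), (nat_lit 0), (nat_lit 1), (nat_lit 3), (nat_lit 4)], (nat_lit 0), (nat_lit 3))) (.leaf ([(nat_lit 3), (nat_lit 0), (nat_lit 1), (nat_lit 3), (nat_lit 4), (nat_lit 3), (nat_lit 0), (nat_lit 1), (nat_lit 3), (nat_lit 1)], (nat_lit 0), (nat_lit 2)))) (.node (.leaf ([(nat_lit 3), (nat_lit 1), (nat_lit 2), (nat_lit 0), (nat_lit 3), (nat_lit 1), (nat_lit 0), (nat_lit 3), (nat_lit 2), (nat_lit 1), (nat_lit 0), (nat_lit 3), (nat_lit 4)], (nat_lit 0), (nat_lit 3))) (.leaf ([], (nat_lit 0), (nat_lit 0))))) (.node (.node (.leaf ([(nat_lit 2), (nat_lit 3), (nat_lit 4), (nat_lit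 0), (nat_lit 3), (nat_lit 2), (nat_lit 1), (nat_lit 3), (nat_lit 4), (nat_lit 0), (nat_lit 3)], (nat_lit 0), (nat_lit 2))) (.leaf ([(nat_lit 3), (nat_lit 4), (nat_lit 0), (nat_lit 3), (nat_lit 1), (nat_lit 2), (nat_lit 3), (nat_lit 4), (nat_lit 1), (nat_lit 3), (nat_lit 0), (nat_lit 1)], (nat_lit 0), (nat_lit 2)))) (.node (.leaf ([(nat_lit 2), (nat_lit 1), (nat_lit 3), (nat_lit 0), (nat_lit 1), (nat_lit 3), (nat_lit 2), (nat_lit 1), (nat_lit 3), (nat_lit 0), (nat_lit 1), (nat_lit 3), (nat_lit 4)], (nat_lit 0), (nat_lit 3))) (.leaf ([], (nat_lit 0), (nat_lit 0)))))) (.node (.node (.node (.leaf ([(nat_lit 1), (nat_lit 3), (nat_lit 0), (nat_lit 1), (nat_lit 3), (nat_lit 2), (nat_lit 0)], (nat_lit 0), (nat_lit 3))) (.leaf ([(nat_lit 1), (nat_lit 3), (nat_lit 0), (nat_lit 1), (nat_lit 2), (nat_lit 0), (nat_lit 3), (nat_lit 4), (nat_lit 3), (nat_lit 2), (nat_lit 0), (nat_lit 3), (nat_lit 2)], (nat_lit 0), (nat_lit 1)))) (.node (.leaf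 ([(nat_lit 2), (nat_lit 1), (nat_lit 3), (nat_lit 0), (nat_lit 1), (nat_lit 3), (nat_lit 4), (nat_lit 2)], (nat_lit 0), (nat_lit 3))) (.leaf ([], (nat_lit 0), (nat_lit 0))))) (.node (.node (.leaf ([(nat_lit 4), (nat_lit 3), (nat_lit 0), (nat_lit 1), (nat_lit 3), (nat_lit 4), (nat_lit 3), (nat_lit 1), (nat_lit 0), (nat_lit 3), (nat_lit 2)], (nat_lit 0), (nat_lit 3))) (.leaf ([], (nat_lit 0), (nat_lit 0)))) (.node (.leaf ([(nat_lit 2), (nat_lit 3), (nat_lit 1), (nat_lit 2), (nat_lit 0), (nat_lit 3), (nat_lit 0), (nat_lit 1), (nat_lit 2), (nat_lit 3), (nat_lit 4), (nat_lit 2), (nat_lit 0)], (nat_lit 0), (nat_lit 3))) (.leaf ([], (nat_lit 0), (nat_lit 0))))))) (.node (.node (.node (.node (.leaf ([(nat_lit 3), (nat_lit 1), (nat_lit 0), (nat_lit 3), (nat_lit 4), (nat_lit 1)], (nat_lit 0), (nat_lit 3))) (.leaf ([(nat_lit 3), (nat_lit 0), (nat_lit 1), (nat_lit 3), (nat_lit 4), (nat_lit 3), (nat_lit 0), (nat_lit 1), (nat_lit 3), (nat_lit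 1), (nat_lit 2), (nat_lit 0)], (nat_lit 0), (nat_lit 1)))) (.node (.leaf ([(nat_lit 1), (nat_lit 3), (nat_lit 4), (nat_lit 1), (nat_lit 0), (nat_lit 3), (nat_lit 1), (nat_lit 2), (nat_lit 3), (nat_lit 4), (nat_lit 2), (nat_lit 0), (nat_lit 3)], (nat_lit 0), (nat_lit 1))) (.leaf ([], (nat_lit 0), (nat_lit 0))))) (.node (.node (.leaf ([(nat_lit 4), (nat_lit 3), (nat_lit 1), (nat_lit 0), (nat_lit 3), (nat_lit 1)], (nat_lit 0), (nat_lit 2))) (.leaf ([(nat_lit 1), (nat_lit 0), (nat_lit 3), (nat_lit 4), (nat_lit 1), (nat_lit 3), (nat_lit 2), (nat_lit 0), (nat_lit 3), (nat_lit 4), (nat_lit 1), (nat_lit 3), (nat_lit 0), (nat_lit 1)], (nat_lit 0), (nat_lit 2)))) (.node (.leaf ([(nat_lit 2), (nat_lit 1), (nat_lit 3), (nat_lit 2), (nat_lit 0), (nat_lit 1), (nat_lit 0), (nat_lit 3), (nat_lit 4), (nat_lit 2), (nat_lit 1)], (nat_lit 0), (nat_lit 3))) (.leaf ([], (nat_lit 0), (nat_lit 0)))))) (.node (.node (.node (.leaf ([(nat_lit 1), (nat_lit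 2), (nat_lit 3), (nat_lit 0), (nat_lit 1), (nat_lit 2), (nat_lit 1), (nat_lit 3), (nat_lit 4), (nat_lit 0)], (nat_lit 0), (nat_lit 3))) (.leaf ([(nat_lit 1), (nat_lit 0), (nat_lit 3), (nat_lit 4), (nat_lit 1), (nat_lit 3), (nat_lit 2), (nat_lit 0), (nat_lit 3), (nat_lit 4), (nat_lit 0), (nat_lit 1), (nat_lit 0), (nat_lit 3), (nat_lit 1)], (nat_lit 0), (nat_lit 2)))) (.node (.leaf ([(nat_lit 2), (nat_lit 3), (nat_lit 1), (nat_lit 2), (nat_lit 0), (nat_lit 3), (nat_lit 0), (nat_lit 1), (nat_lit 2), (nat_lit 3), (nat_lit 4), (nat_lit 2)], (nat_lit 0), (nat_lit 3))) (.leaf ([], (nat_lit 0), (nat_lit 0))))) (.node (.node (.leaf ([(nat_lit 2), (nat_lit 1), (nat_lit 3), (nat_lit 4), (nat_lit 2), (nat_lit 3), (nat_lit 2), (nat_lit 0), (nat_lit 1), (nat_lit 0), (nat_lit 3), (nat_lit 4), (nat_lit 2), (nat_lit 3), (nat_lit 1)], (nat_lit 0), (nat_lit 2))) (.leaf ([], (nat_lit 0), (nat_lit 0)))) (.node (.leaf ([(nat_lit 3), (nat_lit 1), (nat_lit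 0), (nat_lit 3), (nat_lit 4), (nat_lit 0), (nat_lit 3), (nat_lit 1), (nat_lit 0), (nat_lit 3), (nat_lit 2), (nat_lit 0)], (nat_lit 0), (nat_lit 1))) (.leaf ([], (nat_lit 0), (nat_lit 0))))))))) (.node (.node (.node (.node (.node (.node (.leaf ([(nat_lit 3), (nat_lit 1), (nat_lit 0), (nat_lit 3), (nat_lit 1), (nat_lit 2), (nat_lit 3), (nat_lit 0), (nat_lit 1), (nat_lit 3), (nat_lit 4), (nat_lit 3), (nat_lit 1), (nat_lit 0), (nat_lit 3)], (nat_lit 0), (nat_lit 2))) (.leaf ([(nat_lit 1), (nat_lit 2), (nat_lit 3), (nat_lit 0), (nat_lit 1), (nat_lit 2), (nat_lit 0), (nat_lit 3), (nat_lit 4), (nat_lit 1), (nat_lit 0)], (nat_lit 0), (nat_lit 3)))) (.node (.leaf ([(nat_lit 3), (nat_lit 1), (nat_lit 0), (nat_lit 3), (nat_lit 1), (nat_lit 2), (nat_lit 3), (nat_lit 1), (nat_lit 0), (nat_lit 3), (nat_lit 4), (nat_lit 1)], (nat_lit 0), (nat_lit 3))) (.leaf ([], (nat_lit 0), (nat_lit 0))))) (.node (.node (.leaf ([(nat_lit 4), (nat_lit 3),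 (nat_lit 1), (nat_lit 0), (nat_lit 3), (nat_lit 1), (nat_lit 2)], (nat_lit 0), (nat_lit 1))) (.leaf ([(nat_lit 4), (nat_lit 3), (nat_lit 2), (nat_lit 0), (nat_lit 3), (nat_lit 4), (nat_lit 3), (nat_lit 2), (nat_lit 1), (nat_lit 3), (nat_lit 0), (nat_lit 1)], (nat_lit 0), (nat_lit 2)))) (.node (.leaf ([(nat_lit 3), (nat_lit 0), (nat_lit 1), (nat_lit 2), (nat_lit 3), (nat_lit 1), (nat_lit 2), (nat_lit 0), (nat_lit 3), (nat_lit 4), (nat_lit 2)], (nat_lit 0), (nat_lit 3))) (.leaf ([], (nat_lit 0), (nat_lit 0)))))) (.node (.node (.node (.leaf ([(nat_lit 4), (nat_lit 3), (nat_lit 1), (nat_lit 2), (nat_lit 1), (nat_lit 0), (nat_lit 3), (nat_lit 4), (nat_lit 1), (nat_lit 2), (nat_lit 1), (nat_lit 0)], (nat_lit 0), (nat_lit 3))) (.leaf ([(nat_lit 2), (nat_lit 3), (nat_lit 1), (nat_lit 0), (nat_lit 3), (nat_lit 4), (nat_lit 0), (nat_lit 3), (nat_lit 1), (nat_lit 0), (nat_lit 3)], (nat_lit 0), (nat_lit 2)))) (.node (.leaf ([(nat_lit 4),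 (nat_lit 1), (nat_lit 3), (nat_lit 0), (nat_lit 1), (nat_lit 3), (nat_lit 4), (nat_lit 2)], (nat_lit 0), (nat_lit 3))) (.leaf ([], (nat_lit 0), (nat_lit 0))))) (.node (.node (.leaf ([(nat_lit 1), (nat_lit 3), (nat_lit 2), (nat_lit 1), (nat_lit 0), (nat_lit 3), (nat_lit 0), (nat_lit 1), (nat_lit 2), (nat_lit 3), (nat_lit 4), (nat_lit 1)], (nat_lit 0), (nat_lit 3))) (.leaf ([(nat_lit 1), (nat_lit 3), (nat_lit 4), (nat_lit 0), (nat_lit 1), (nat_lit 3), (nat_lit 2), (nat_lit 0), (nat_lit 3), (nat_lit 4), (nat_lit 1), (nat_lit 2), (nat_lit 3), (nat_lit 2), (nat_lit 0), (nat_lit 1)], (nat_lit 0), (nat_lit 2)))) (.node (.leaf ([(nat_lit 2), (nat_lit 3), (nat_lit 0), (nat_lit 1), (nat_lit 3), (nat_lit 4), (nat_lit 3), (nat_lit 0), (nat_lit 1), (nat_lit 3), (nat_lit 1), (nat_lit 2), (nat_lit 0)], (nat_lit 0), (nat_lit 3))) (.leaf ([], (nat_lit 0), (nat_lit 0))))))) (.node (.node (.node (.node (.leaf ([(nat_lit 4), (nat_lit 1), (nat_lit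 2), (nat_lit 3), (nat_lit 0), (nat_lit 1), (nat_lit 2), (nat_lit 1), (nat_lit 3), (nat_lit 4)], (nat_lit 0), (nat_lit 3))) (.leaf ([(nat_lit 1), (nat_lit 3), (nat_lit 2), (nat_lit 0), (nat_lit 1), (nat_lit 3), (nat_lit 0), (nat_lit 1), (nat_lit 2), (nat_lit 3), (nat_lit 4), (nat_lit 0), (nat_lit 1), (nat_lit 0)], (nat_lit 0), (nat_lit 3)))) (.node (.leaf ([(nat_lit 1), (nat_lit 3), (nat_lit 2), (nat_lit 1), (nat_lit 0), (nat_lit 3), (nat_lit 0), (nat_lit 1), (nat_lit 2), (nat_lit 3), (nat_lit 4), (nat_lit 1), (nat_lit 0)], (nat_lit 0), (nat_lit 3))) (.leaf ([], (nat_lit 0), (nat_lit 0))))) (.node (.node (.leaf ([(nat_lit 4), (nat_lit 1), (nat_lit 3), (nat_lit 0), (nat_lit 1), (nat_lit 3)], (nat_lit 0), (nat_lit 2))) (.leaf ([(nat_lit 2), (nat_lit 3), (nat_lit 1), (nat_lit 0), (nat_lit 3), (nat_lit 1), (nat_lit 2), (nat_lit 3), (nat_lit 1), (nat_lit 0), (nat_lit 3), (nat_lit 4), (nat_lit 1), (nat_lit 2), (nat_lit 0)], (nat_lit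 0), (nat_lit 3)))) (.node (.leaf ([(nat_lit 1), (nat_lit 2), (nat_lit 1), (nat_lit 3), (nat_lit 0), (nat_lit 1), (nat_lit 2), (nat_lit 0), (nat_lit 3), (nat_lit 4), (nat_lit 1), (nat_lit 2), (nat_lit 0)], (nat_lit 0), (nat_lit 3))) (.leaf ([], (nat_lit 0), (nat_lit 0)))))) (.node (.node (.node (.leaf ([(nat_lit 2), (nat_lit 1), (nat_lit 3), (nat_lit 0), (nat_lit 1), (nat_lit 3), (nat_lit 4), (nat_lit 0)], (nat_lit 0), (nat_lit 3))) (.leaf ([(nat_lit 3), (nat_lit 1), (nat_lit 0), (nat_lit 3), (nat_lit 1), (nat_lit 2), (nat_lit 3), (nat_lit 1), (nat_lit 0), (nat_lit 3), (nat_lit 4), (nat_lit 1), (nat_lit 2), (nat_lit 0)], (nat_lit 0), (nat_lit 3)))) (.node (.leaf ([(nat_lit 3), (nat_lit 0), (nat_lit 1), (nat_lit 3), (nat_lit 4), (nat_lit 3), (nat_lit 0), (nat_lit 1), (nat_lit 3), (nat_lit 1), (nat_lit 2), (nat_lit 0)], (nat_lit 0), (nat_lit 3))) (.leaf ([], (nat_lit 0), (nat_lit 0))))) (.node (.node (.leaf ([(nat_lit 3), (nat_lit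 4), (nat_lit 0), (nat_lit 3), (nat_lit 2), (nat_lit 0), (nat_lit 1), (nat_lit 3), (nat_lit 4), (nat_lit 0), (nat_lit 3)], (nat_lit 0), (nat_lit 2))) (.leaf ([], (nat_lit 0), (nat_lit 0)))) (.node (.leaf ([(nat_lit 2), (nat_lit 1), (nat_lit 3), (nat_lit 2), (nat_lit 0), (nat_lit 1), (nat_lit 0), (nat_lit 3), (nat_lit 4), (nat_lit 2), (nat_lit 1), (nat_lit 0)], (nat_lit 0), (nat_lit 3))) (.leaf ([], (nat_lit 0), (nat_lit 0)))))))) (.node (.node (.node (.node (.node (.leaf ([(nat_lit 4), (nat_lit 3), (nat_lit 1), (nat_lit 0), (nat_lit 3), (nat_lit 4), (nat_lit 1)], (nat_lit 0), (nat_lit 3))) (.leaf ([(nat_lit 1), (nat_lit 3), (nat_lit 2), (nat_lit 0), (nat_lit 1), (nat_lit 0), (nat_lit 3), (nat_lit 4), (nat_lit 2), (nat_lit 1)], (nat_lit 0), (nat_lit 3)))) (.node (.leaf ([(nat_lit 3), (nat_lit 1), (nat_lit 0), (nat_lit 3), (nat_lit 4), (nat_lit 1), (nat_lit 2), (nat_lit 0)], (nat_lit 0), (nat_lit 3))) (.leaf ([], (nat_lit 0), (nat_lit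 0))))) (.node (.node (.leaf ([(nat_lit 3), (nat_lit 0), (nat_lit 1), (nat_lit 3), (nat_lit 4), (nat_lit 3), (nat_lit 1), (nat_lit 0), (nat_lit 3)], (nat_lit 0), (nat_lit 2))) (.leaf ([(nat_lit 4), (nat_lit 3), (nat_lit 2), (nat_lit 1), (nat_lit 3), (nat_lit 2), (nat_lit 0), (nat_lit 1), (nat_lit 3), (nat_lit 2), (nat_lit 0), (nat_lit 3), (nat_lit 4), (nat_lit 0), (nat_lit 1)], (nat_lit 0), (nat_lit 3)))) (.node (.leaf ([(nat_lit 3), (nat_lit 0), (nat_lit 1), (nat_lit 3), (nat_lit 2), (nat_lit 1), (nat_lit 0), (nat_lit 3), (nat_lit 1), (nat_lit 2), (nat_lit 3), (nat_lit 4), (nat_lit 2), (nat_lit 3), (nat_lit 1), (nat_lit 0), (nat_lit 3)], (nat_lit 0), (nat_lit 2))) (.leaf ([], (nat_lit 0), (nat_lit 0)))))) (.node (.node (.node (.leaf ([(nat_lit 2), (nat_lit 3), (nat_lit 1), (nat_lit 0), (nat_lit 3), (nat_lit 4), (nat_lit 3), (nat_lit 0), (nat_lit 1), (nat_lit 3)], (nat_lit 0), (nat_lit 2))) (.leaf ([(nat_lit 1), (nat_lit 0), (nat_lit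 3), (nat_lit 4), (nat_lit 1), (nat_lit 3), (nat_lit 1), (nat_lit 2), (nat_lit 0), (nat_lit 1), (nat_lit 3), (nat_lit 4), (nat_lit 0), (nat_lit 3)], (nat_lit 0), (nat_lit 2)))) (.node (.leaf ([(nat_lit 3), (nat_lit 4), (nat_lit 0), (nat_lit 3), (nat_lit 0), (nat_lit 1), (nat_lit 2), (nat_lit 3), (nat_lit 4), (nat_lit 0), (nat_lit 3), (nat_lit 0)], (nat_lit 0), (nat_lit 1))) (.leaf ([], (nat_lit 0), (nat_lit 0))))) (.node (.node (.leaf ([(nat_lit 3), (nat_lit 0), (nat_lit 1), (nat_lit 3), (nat_lit 4), (nat_lit 3), (nat_lit 1), (nat_lit 0), (nat_lit 3), (nat_lit 2)], (nat_lit 0), (nat_lit 1))) (.leaf ([], (nat_lit 0), (nat_lit 0)))) (.node (.leaf ([(nat_lit 1), (nat_lit 2), (nat_lit 0), (nat_lit 3), (nat_lit 1), (nat_lit 2), (nat_lit 3), (nat_lit 4), (nat_lit 0), (nat_lit 1), (nat_lit 2), (nat_lit 0)], (nat_lit 0), (nat_lit 3))) (.leaf ([], (nat_lit 0), (nat_lit 0))))))) (.node (.node (.node (.node (.leaf ([(nat_lit 4), (nat_lit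 2), (nat_lit 0)], (nat_lit 0), (nat_lit 3))) (.leaf ([(nat_lit 1), (nat_lit 0), (nat_lit 3), (nat_lit 2), (nat_lit 1), (nat_lit 0), (nat_lit 3), (nat_lit 1), (nat_lit 2), (nat_lit 0), (nat_lit 3), (nat_lit 4), (nat_lit 1)], (nat_lit 0), (nat_lit 3)))) (.node (.leaf ([(nat_lit 1), (nat_lit 3), (nat_lit 0), (nat_lit 1), (nat_lit 3), (nat_lit 2), (nat_lit 1), (nat_lit 3), (nat_lit 0), (nat_lit 1), (nat_lit 3), (nat_lit 4)], (nat_lit 0), (nat_lit 3))) (.leaf ([], (nat_lit 0), (nat_lit 0))))) (.node (.node (.leaf ([(nat_lit 2), (nat_lit 3), (nat_lit 1), (nat_lit 0), (nat_lit 3), (nat_lit 4), (nat_lit 3), (nat_lit 0), (nat_lit 1), (nat_lit 3), (nat_lit 2)], (nat_lit 0), (nat_lit 3))) (.leaf ([(nat_lit 2), (nat_lit 3), (nat_lit 1), (nat_lit 0), (nat_lit 3), (nat_lit 1), (nat_lit 2), (nat_lit 3), (nat_lit 1), (nat_lit 0), (nat_lit 3), (nat_lit 4), (nat_lit 1), (nat_lit 2)], (nat_lit 0), (nat_lit 3)))) (.node (.leaf ([(nat_lit 1), (nat_lit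 2), (nat_lit 1), (nat_lit 0), (nat_lit 3), (nat_lit 1), (nat_lit 2), (nat_lit 3), (nat_lit 4), (nat_lit 0), (nat_lit 1)], (nat_lit 0), (nat_lit 3))) (.leaf ([], (nat_lit 0), (nat_lit 0)))))) (.node (.node (.node (.leaf ([(nat_lit 1), (nat_lit 2), (nat_lit 0), (nat_lit 3), (nat_lit 1), (nat_lit 2), (nat_lit 1), (nat_lit 0), (nat_lit 3), (nat_lit 4), (nat_lit 0)], (nat_lit 0), (nat_lit 3))) (.leaf ([(nat_lit 1), (nat_lit 3), (nat_lit 2), (nat_lit 0), (nat_lit 1), (nat_lit 3), (nat_lit 0), (nat_lit 1), (nat_lit 2), (nat_lit 3), (nat_lit 4), (nat_lit 0), (nat_lit 1)], (nat_lit 0), (nat_lit 3)))) (.node (.leaf ([(nat_lit 4), (nat_lit 2), (nat_lit 1), (nat_lit 3), (nat_lit 2), (nat_lit 1), (nat_lit 0), (nat_lit 3), (nat_lit 0), (nat_lit 1), (nat_lit 2), (nat_lit 3), (nat_lit 4), (nat_lit 1)], (nat_lit 0), (nat_lit 3))) (.leaf ([], (nat_lit 0), (nat_lit 0))))) (.node (.node (.leaf ([(nat_lit 3), (nat_lit 1), (nat_lit 2), (nat_lit 3),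 (nat_lit 1), (nat_lit 0), (nat_lit 3), (nat_lit 2), (nat_lit 1), (nat_lit 3), (nat_lit 4), (nat_lit 2), (nat_lit 1)], (nat_lit 0), (nat_lit 3))) (.leaf ([], (nat_lit 0), (nat_lit 0)))) (.node (.leaf ([(nat_lit 4), (nat_lit 1), (nat_lit 0), (nat_lit 3), (nat_lit 2), (nat_lit 1), (nat_lit 3), (nat_lit 4), (nat_lit 2), (nat_lit 0), (nat_lit 1), (nat_lit 0)], (nat_lit 0), (nat_lit 3))) (.leaf ([], (nat_lit 0), (nat_lit 0))))))))))
noncomputable def kGW01 : BT (List ℕ × ℕ × ℕ) := (.node (.node (.node (.node (.node (.node (.node (.leaf ([], (nat_lit 0), (nat_lit 2))) (.leaf ([(nat_lit 2), (nat_lit 3), (nat_lit 0), (nat_lit 1), (nat_lit 2), (nat_lit 3), (nat_lit 1), (nat_lit 2), (nat_lit 0), (nat_lit 3), (nat_lit 4), (nat_lit 2), (nat_lit 0)], (nat_lit 0), (nat_lit 3)))) (.node (.leaf ([(nat_lit 1), (nat_lit 0), (nat_lit 3), (nat_lit 2), (nat_lit 1), (nat_lit 0), (nat_lit 3), (nat_lit 1), (nat_lit 2), (nat_lit 1), (nat_lit 3), (nat_lit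 4)], (nat_lit 0), (nat_lit 3))) (.leaf ([], (nat_lit 0), (nat_lit 0))))) (.node (.node (.leaf ([(nat_lit 3), (nat_lit 1), (nat_lit 0), (nat_lit 3), (nat_lit 4), (nat_lit 3), (nat_lit 0), (nat_lit 1), (nat_lit 3), (nat_lit 2)], (nat_lit 0), (nat_lit 3))) (.leaf ([(nat_lit 4), (nat_lit 1), (nat_lit 0), (nat_lit 3), (nat_lit 2), (nat_lit 1), (nat_lit 0), (nat_lit 3), (nat_lit 1), (nat_lit 2), (nat_lit 0), (nat_lit 3), (nat_lit 4), (nat_lit 1)], (nat_lit 0), (nat_lit 3)))) (.node (.leaf ([(nat_lit 4), (nat_lit 1), (nat_lit 3), (nat_lit 0), (nat_lit 1), (nat_lit 3), (nat_lit 4), (nat_lit 2), (nat_lit 0)], (nat_lit 0), (nat_lit 3))) (.leaf ([], (nat_lit 0), (nat_lit 0)))))) (.node (.node (.node (.leaf ([(nat_lit 4), (nat_lit 1), (nat_lit 2), (nat_lit 3), (nat_lit 0), (nat_lit 1), (nat_lit 2), (nat_lit 1), (nat_lit 3), (nat_lit 4), (nat_lit 0)], (nat_lit 0), (nat_lit 3))) (.leaf ([(nat_lit 1), (nat_lit 2), (nat_lit 0), (nat_lit 3),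 (nat_lit 1), (nat_lit 2), (nat_lit 3), (nat_lit 4), (nat_lit 0), (nat_lit 1), (nat_lit 2)], (nat_lit 0), (nat_lit 3)))) (.node (.leaf ([(nat_lit 1), (nat_lit 0), (nat_lit 3), (nat_lit 2), (nat_lit 1), (nat_lit 3), (nat_lit 4), (nat_lit 2), (nat_lit 3), (nat_lit 1), (nat_lit 0), (nat_lit 3)], (nat_lit 0), (nat_lit 2))) (.leaf ([], (nat_lit 0), (nat_lit 0))))) (.node (.node (.leaf ([(nat_lit 3), (nat_lit 2), (nat_lit 0), (nat_lit 3), (nat_lit 4), (nat_lit 3), (nat_lit 2), (nat_lit 0), (nat_lit 3), (nat_lit 0)], (nat_lit 0), (nat_lit 1))) (.leaf ([(nat_lit 4), (nat_lit 3), (nat_lit 1), (nat_lit 0), (nat_lit 3), (nat_lit 1), (nat_lit 2), (nat_lit 3), (nat_lit 1), (nat_lit 0), (nat_lit 3), (nat_lit 4), (nat_lit 1), (nat_lit 2)], (nat_lit 0), (nat_lit 3)))) (.node (.leaf ([(nat_lit 2), (nat_lit 1), (nat_lit 0), (nat_lit 3), (nat_lit 2), (nat_lit 1), (nat_lit 3), (nat_lit 4), (nat_lit 0), (nat_lit 1), (nat_lit 2), (nat_lit 1), (nat_lit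 0)], (nat_lit 0), (nat_lit 3))) (.leaf ([], (nat_lit 0), (nat_lit 0))))))) (.node (.node (.node (.node (.leaf ([(nat_lit 4), (nat_lit 2), (nat_lit 1), (nat_lit 3), (nat_lit 0), (nat_lit 1), (nat_lit 3), (nat_lit 4)], (nat_lit 0), (nat_lit 3))) (.leaf ([(nat_lit 1), (nat_lit 2), (nat_lit 0), (nat_lit 3), (nat_lit 1), (nat_lit 2), (nat_lit 3), (nat_lit 4), (nat_lit 0), (nat_lit 1)], (nat_lit 0), (nat_lit 3)))) (.node (.leaf ([(nat_lit 2), (nat_lit 3), (nat_lit 4), (nat_lit 0), (nat_lit 3), (nat_lit 1), (nat_lit 2), (nat_lit 3), (nat_lit 4), (nat_lit 0), (nat_lit 3)], (nat_lit 0), (nat_lit 3))) (.leaf ([], (nat_lit 0), (nat_lit 0))))) (.node (.node (.leaf ([(nat_lit 1), (nat_lit 0), (nat_lit 3), (nat_lit 4), (nat_lit 1), (nat_lit 3), (nat_lit 0), (nat_lit 1), (nat_lit 2), (nat_lit 3), (nat_lit 4), (nat_lit 0), (nat_lit 3), (nat_lit 0)], (nat_lit 0), (nat_lit 1))) (.leaf ([(nat_lit 4), (nat_lit 1), (nat_lit 3), (nat_lit 0), (nat_lit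 1), (nat_lit 3), (nat_lit 2), (nat_lit 1), (nat_lit 3), (nat_lit 0), (nat_lit 1), (nat_lit 3), (nat_lit 4), (nat_lit 2)], (nat_lit 0), (nat_lit 3)))) (.node (.leaf ([(nat_lit 1), (nat_lit 3), (nat_lit 0), (nat_lit 1), (nat_lit 3), (nat_lit 2), (nat_lit 1), (nat_lit 3), (nat_lit 0), (nat_lit 1), (nat_lit 3), (nat_lit 4), (nat_lit 0)], (nat_lit 0), (nat_lit 3))) (.leaf ([], (nat_lit 0), (nat_lit 0)))))) (.node (.node (.node (.leaf ([(nat_lit 3), (nat_lit 1), (nat_lit 0), (nat_lit 3), (nat_lit 1), (nat_lit 2)], (nat_lit 0), (nat_lit 3))) (.leaf ([(nat_lit 4), (nat_lit 3), (nat_lit 2), (nat_lit 0), (nat_lit 3), (nat_lit 4), (nat_lit 0), (nat_lit 1), (nat_lit 2), (nat_lit 0), (nat_lit 1)], (nat_lit 0), (nat_lit 3)))) (.node (.leaf ([(nat_lit 2), (nat_lit 1), (nat_lit 0), (nat_lit 3), (nat_lit 2), (nat_lit 1), (nat_lit 3), (nat_lit 4), (nat_lit 0), (nat_lit 1), (nat_lit 2), (nat_lit 1)], (nat_lit 0), (nat_lit 3))) (.leaf ([], (nat_lit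 0), (nat_lit 0))))) (.node (.node (.leaf ([(nat_lit 2), (nat_lit 1), (nat_lit 0), (nat_lit 3), (nat_lit 1), (nat_lit 2), (nat_lit 3), (nat_lit 4), (nat_lit 3), (nat_lit 2), (nat_lit 1), (nat_lit 3), (nat_lit 0), (nat_lit 1)], (nat_lit 0), (nat_lit 2))) (.leaf ([], (nat_lit 0), (nat_lit 0)))) (.node (.leaf ([(nat_lit 1), (nat_lit 3), (nat_lit 1), (nat_lit 2), (nat_lit 0), (nat_lit 1), (nat_lit 3), (nat_lit 4), (nat_lit 2), (nat_lit 3), (nat_lit 1), (nat_lit 0), (nat_lit 3)], (nat_lit 0), (nat_lit 2))) (.leaf ([], (nat_lit 0), (nat_lit 0)))))))) (.node (.node (.node (.node (.node (.leaf ([(nat_lit 4)], (nat_lit 0), (nat_lit 3))) (.leaf ([(nat_lit 1), (nat_lit 0), (nat_lit 3), (nat_lit 2), (nat_lit 1), (nat_lit 3), (nat_lit 4), (nat_lit 2), (nat_lit 0), (nat_lit 1)], (nat_lit 0), (nat_lit 3)))) (.node (.leaf ([(nat_lit 2), (nat_lit 3), (nat_lit 0), (nat_lit 1), (nat_lit 3), (nat_lit 4), (nat_lit 3), (nat_lit 1), (nat_lit 0), (nat_lit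 3), (nat_lit 2), (nat_lit 0)], (nat_lit 0), (nat_lit 3))) (.leaf ([], (nat_lit 0), (nat_lit 0))))) (.node (.node (.leaf ([(nat_lit 4), (nat_lit 1), (nat_lit 3), (nat_lit 0), (nat_lit 1), (nat_lit 3), (nat_lit 2)], (nat_lit 0), (nat_lit 1))) (.leaf ([(nat_lit 4), (nat_lit 3), (nat_lit 0), (nat_lit 1), (nat_lit 3), (nat_lit 2), (nat_lit 1), (nat_lit 0), (nat_lit 3), (nat_lit 2), (nat_lit 1), (nat_lit 3), (nat_lit 4), (nat_lit 0), (nat_lit 1)], (nat_lit 0), (nat_lit 3)))) (.node (.leaf ([(nat_lit 1), (nat_lit 2), (nat_lit 0), (nat_lit 3), (nat_lit 1), (nat_lit 2), (nat_lit 0), (nat_lit 1), (nat_lit 3), (nat_lit 4), (nat_lit 1)], (nat_lit 0), (nat_lit 3))) (.leaf ([], (nat_lit 0), (nat_lit 0)))))) (.node (.node (.node (.leaf ([(nat_lit 3), (nat_lit 1), (nat_lit 0), (nat_lit 3), (nat_lit 1), (nat_lit 2), (nat_lit 0)], (nat_lit 0), (nat_lit 1))) (.leaf ([(nat_lit 3), (nat_lit 2), (nat_lit 1), (nat_lit 3), (nat_lit 2), (nat_lit 0),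 (nat_lit 1), (nat_lit 3), (nat_lit 2), (nat_lit 0), (nat_lit 3), (nat_lit 4), (nat_lit 0), (nat_lit 1)], (nat_lit 0), (nat_lit 3)))) (.node (.leaf ([(nat_lit 1), (nat_lit 0), (nat_lit 3), (nat_lit 1), (nat_lit 2), (nat_lit 3), (nat_lit 4), (nat_lit 3), (nat_lit 2), (nat_lit 1), (nat_lit 3), (nat_lit 0), (nat_lit 1)], (nat_lit 0), (nat_lit 2))) (.leaf ([], (nat_lit 0), (nat_lit 0))))) (.node (.node (.leaf ([(nat_lit 2), (nat_lit 1), (nat_lit 3), (nat_lit 1), (nat_lit 2), (nat_lit 0), (nat_lit 1), (nat_lit 3), (nat_lit 4), (nat_lit 2), (nat_lit 0), (nat_lit 1), (nat_lit 0)], (nat_lit 0), (nat_lit 3))) (.leaf ([], (nat_lit 0), (nat_lit 0)))) (.node (.leaf ([(nat_lit 4), (nat_lit 2), (nat_lit 1), (nat_lit 3), (nat_lit 2), (nat_lit 1), (nat_lit 0), (nat_lit 3), (nat_lit 0), (nat_lit 1), (nat_lit 2), (nat_lit 3), (nat_lit 4), (nat_lit 1), (nat_lit 0)], (nat_lit 0), (nat_lit 3))) (.leaf ([], (nat_lit 0), (nat_lit 0))))))) (.node (.node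 (.node (.node (.leaf ([(nat_lit 3), (nat_lit 1), (nat_lit 0), (nat_lit 3), (nat_lit 4), (nat_lit 1), (nat_lit 0)], (nat_lit 0), (nat_lit 3))) (.leaf ([(nat_lit 1), (nat_lit 2), (nat_lit 3), (nat_lit 0), (nat_lit 1), (nat_lit 2), (nat_lit 0), (nat_lit 3), (nat_lit 4), (nat_lit 3), (nat_lit 0), (nat_lit 1), (nat_lit 3)], (nat_lit 0), (nat_lit 2)))) (.node (.leaf ([(nat_lit 1), (nat_lit 3), (nat_lit 1), (nat_lit 2), (nat_lit 0), (nat_lit 1), (nat_lit 3), (nat_lit 4), (nat_lit 1), (nat_lit 3), (nat_lit 2), (nat_lit 0), (nat_lit 3), (nat_lit 0)], (nat_lit 0), (nat_lit 1))) (.leaf ([], (nat_lit 0), (nat_lit 0))))) (.node (.node (.leaf ([(nat_lit 3), (nat_lit 1), (nat_lit 0), (nat_lit 3), (nat_lit 4), (nat_lit 3), (nat_lit 0), (nat_lit 1), (nat_lit 3), (nat_lit 2), (nat_lit 0)], (nat_lit 0), (nat_lit 3))) (.leaf ([(nat_lit 4), (nat_lit 2), (nat_lit 1), (nat_lit 3), (nat_lit 0), (nat_lit 1), (nat_lit 3), (nat_lit 2), (nat_lit 1), (nat_lit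 3), (nat_lit 0), (nat_lit 1), (nat_lit 3), (nat_lit 4), (nat_lit 2), (nat_lit 0)], (nat_lit 0), (nat_lit 3)))) (.node (.leaf ([(nat_lit 4), (nat_lit 1), (nat_lit 3), (nat_lit 2), (nat_lit 0), (nat_lit 1), (nat_lit 0), (nat_lit 3), (nat_lit 4), (nat_lit 2), (nat_lit 1)], (nat_lit 0), (nat_lit 3))) (.leaf ([], (nat_lit 0), (nat_lit 0)))))) (.node (.node (.node (.leaf ([(nat_lit 3), (nat_lit 1), (nat_lit 2), (nat_lit 1), (nat_lit 0), (nat_lit 3), (nat_lit 4), (nat_lit 1), (nat_lit 2), (nat_lit 1), (nat_lit 0)], (nat_lit 0), (nat_lit 3))) (.leaf ([(nat_lit 2), (nat_lit 3), (nat_lit 1), (nat_lit 2), (nat_lit 1), (nat_lit 0), (nat_lit 3), (nat_lit 4), (nat_lit 2), (nat_lit 3), (nat_lit 0), (nat_lit 1), (nat_lit 3)], (nat_lit 0), (nat_lit 2)))) (.node (.leaf ([(nat_lit 4), (nat_lit 1), (nat_lit 3), (nat_lit 2), (nat_lit 1), (nat_lit 0), (nat_lit 3), (nat_lit 0), (nat_lit 1), (nat_lit 2), (nat_lit 3), (nat_lit 4), (nat_lit 1), (nat_lit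 0)], (nat_lit 0), (nat_lit 3))) (.leaf ([], (nat_lit 0), (nat_lit 0))))) (.node (.node (.leaf ([(nat_lit 1), (nat_lit 3), (nat_lit 0), (nat_lit 1), (nat_lit 2), (nat_lit 3), (nat_lit 2), (nat_lit 1), (nat_lit 0), (nat_lit 3), (nat_lit 4), (nat_lit 1), (nat_lit 0)], (nat_lit 0), (nat_lit 3))) (.leaf ([], (nat_lit 0), (nat_lit 0)))) (.node (.leaf ([(nat_lit 2), (nat_lit 1), (nat_lit 3), (nat_lit 0), (nat_lit 1), (nat_lit 3), (nat_lit 2), (nat_lit 1), (nat_lit 3), (nat_lit 0), (nat_lit 1), (nat_lit 3), (nat_lit 4), (nat_lit 0)], (nat_lit 0), (nat_lit 3))) (.leaf ([], (nat_lit 0), (nat_lit 0))))))))) (.node (.node (.node (.node (.node (.node (.leaf ([(nat_lit 0)], (nat_lit 0), (nat_lit 3))) (.leaf ([(nat_lit 3), (nat_lit 2), (nat_lit 0), (nat_lit 3), (nat_lit 4), (nat_lit 1), (nat_lit 2), (nat_lit 0), (nat_lit 1)], (nat_lit 0), (nat_lit 3)))) (.node (.leaf ([(nat_lit 4), (nat_lit 3), (nat_lit 0), (nat_lit 1), (nat_lit 2), (nat_lit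 3), (nat_lit 1), (nat_lit 2), (nat_lit 0), (nat_lit 3), (nat_lit 4), (nat_lit 0)], (nat_lit 0), (nat_lit 3))) (.leaf ([], (nat_lit 0), (nat_lit 0))))) (.node (.node (.leaf ([(nat_lit 3), (nat_lit 2), (nat_lit 0), (nat_lit 3), (nat_lit 4), (nat_lit 3), (nat_lit 2), (nat_lit 0), (nat_lit 3)], (nat_lit 0), (nat_lit 1))) (.leaf ([(nat_lit 2), (nat_lit 1), (nat_lit 3), (nat_lit 0), (nat_lit 1), (nat_lit 3), (nat_lit 2), (nat_lit 1), (nat_lit 3), (nat_lit 0), (nat_lit 1), (nat_lit 3), (nat_lit 4), (nat_lit 2), (nat_lit 0)], (nat_lit 0), (nat_lit 3)))) (.node (.leaf ([(nat_lit 4), (nat_lit 3), (nat_lit 1), (nat_lit 0), (nat_lit 3), (nat_lit 4), (nat_lit 1), (nat_lit 2), (nat_lit 0)], (nat_lit 0), (nat_lit 3))) (.leaf ([], (nat_lit 0), (nat_lit 0)))))) (.node (.node (.node (.leaf ([(nat_lit 4), (nat_lit 1), (nat_lit 2), (nat_lit 0), (nat_lit 3), (nat_lit 1), (nat_lit 2), (nat_lit 1), (nat_lit 0), (nat_lit 3), (nat_lit 4), (nat_lit 0)],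 (nat_lit 0), (nat_lit 3))) (.leaf ([(nat_lit 4), (nat_lit 1), (nat_lit 3), (nat_lit 1), (nat_lit 2), (nat_lit 0), (nat_lit 1), (nat_lit 3), (nat_lit 4), (nat_lit 2), (nat_lit 3), (nat_lit 1), (nat_lit 0), (nat_lit 3)], (nat_lit 0), (nat_lit 2)))) (.node (.leaf ([(nat_lit 2), (nat_lit 3), (nat_lit 0), (nat_lit 1), (nat_lit 2), (nat_lit 3), (nat_lit 1), (nat_lit 2), (nat_lit 0), (nat_lit 3), (nat_lit 4), (nat_lit 0)], (nat_lit 0), (nat_lit 3))) (.leaf ([], (nat_lit 0), (nat_lit 0))))) (.node (.node (.leaf ([(nat_lit 3), (nat_lit 4), (nat_lit 0), (nat_lit 3), (nat_lit 2), (nat_lit 1), (nat_lit 3), (nat_lit 4), (nat_lit 0), (nat_lit 3)], (nat_lit 0), (nat_lit 2))) (.leaf ([(nat_lit 1), (nat_lit 2), (nat_lit 0), (nat_lit 3), (nat_lit 4), (nat_lit 2), (nat_lit 1), (nat_lit 3), (nat_lit 2), (nat_lit 0), (nat_lit 3), (nat_lit 4), (nat_lit 1), (nat_lit 0), (nat_lit 3), (nat_lit 1)], (nat_lit 0), (nat_lit 2)))) (.node (.leaf ([(nat_lit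 3), (nat_lit 2), (nat_lit 0), (nat_lit 3), (nat_lit 4), (nat_lit 1), (nat_lit 2), (nat_lit 0), (nat_lit 1), (nat_lit 0)], (nat_lit 0), (nat_lit 3))) (.leaf ([], (nat_lit 0), (nat_lit 0))))))) (.node (.node (.node (.node (.leaf ([(nat_lit 4), (nat_lit 3), (nat_lit 1), (nat_lit 2), (nat_lit 1), (nat_lit 0), (nat_lit 3), (nat_lit 4), (nat_lit 1), (nat_lit 2), (nat_lit 1)], (nat_lit 0), (nat_lit 3))) (.leaf ([(nat_lit 4), (nat_lit 1), (nat_lit 2), (nat_lit 0), (nat_lit 3), (nat_lit 1), (nat_lit 2), (nat_lit 3), (nat_lit 4), (nat_lit 0), (nat_lit 1), (nat_lit 0)], (nat_lit 0), (nat_lit 3)))) (.node (.leaf ([(nat_lit 2), (nat_lit 1), (nat_lit 3), (nat_lit 2), (nat_lit 1), (nat_lit 0), (nat_lit 3), (nat_lit 0), (nat_lit 1), (nat_lit 2), (nat_lit 3), (nat_lit 4), (nat_lit 1)], (nat_lit 0), (nat_lit 3))) (.leaf ([], (nat_lit 0), (nat_lit 0))))) (.node (.node (.leaf ([(nat_lit 4), (nat_lit 1), (nat_lit 3), (nat_lit 0), (nat_lit 1), (nat_lit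 2), (nat_lit 0), (nat_lit 3), (nat_lit 4), (nat_lit 3), (nat_lit 2), (nat_lit 0), (nat_lit 3)], (nat_lit 0), (nat_lit 1))) (.leaf ([(nat_lit 4), (nat_lit 1), (nat_lit 3), (nat_lit 2), (nat_lit 0), (nat_lit 1), (nat_lit 3), (nat_lit 0), (nat_lit 1), (nat_lit 2), (nat_lit 3), (nat_lit 4), (nat_lit 0), (nat_lit 1)], (nat_lit 0), (nat_lit 3)))) (.node (.leaf ([(nat_lit 1), (nat_lit 3), (nat_lit 1), (nat_lit 2), (nat_lit 0), (nat_lit 1), (nat_lit 3), (nat_lit 4), (nat_lit 2), (nat_lit 0), (nat_lit 1)], (nat_lit 0), (nat_lit 3))) (.leaf ([], (nat_lit 0), (nat_lit 0)))))) (.node (.node (.node (.leaf ([(nat_lit 4), (nat_lit 1), (nat_lit 0), (nat_lit 3), (nat_lit 1), (nat_lit 2), (nat_lit 3), (nat_lit 4), (nat_lit 3), (nat_lit 2), (nat_lit 0), (nat_lit 3), (nat_lit 0)], (nat_lit 0), (nat_lit 1))) (.leaf ([(nat_lit 2), (nat_lit 3), (nat_lit 0), (nat_lit 1), (nat_lit 3), (nat_lit 4), (nat_lit 3), (nat_lit 0), (nat_lit 1), (nat_lit 3), (nat_lit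 1)], (nat_lit 0), (nat_lit 2)))) (.node (.leaf ([(nat_lit 1), (nat_lit 3), (nat_lit 2), (nat_lit 0), (nat_lit 1), (nat_lit 0), (nat_lit 3), (nat_lit 4), (nat_lit 1), (nat_lit 2), (nat_lit 1), (nat_lit 0)], (nat_lit 0), (nat_lit 3))) (.leaf ([], (nat_lit 0), (nat_lit 0))))) (.node (.node (.leaf ([(nat_lit 2), (nat_lit 1), (nat_lit 0), (nat_lit 3), (nat_lit 4), (nat_lit 1), (nat_lit 3), (nat_lit 0), (nat_lit 1), (nat_lit 2), (nat_lit 3), (nat_lit 4), (nat_lit 0), (nat_lit 3), (nat_lit 0)], (nat_lit 0), (nat_lit 1))) (.leaf ([], (nat_lit 0), (nat_lit 0)))) (.node (.leaf ([(nat_lit 3), (nat_lit 0), (nat_lit 1), (nat_lit 2), (nat_lit 3), (nat_lit 1), (nat_lit 2), (nat_lit 0), (nat_lit 3), (nat_lit 4), (nat_lit 2), (nat_lit 0)], (nat_lit 0), (nat_lit 3))) (.leaf ([], (nat_lit 0), (nat_lit 0)))))))) (.node (.node (.node (.node (.node (.leaf ([(nat_lit 2), (nat_lit 0)], (nat_lit 0), (nat_lit 3))) (.leaf ([(nat_lit 3), (nat_lit 1), (nat_lit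 2), (nat_lit 1), (nat_lit 0), (nat_lit 3), (nat_lit 4), (nat_lit 2), (nat_lit 3), (nat_lit 0), (nat_lit 1), (nat_lit 3), (nat_lit 2)], (nat_lit 0), (nat_lit 1)))) (.node (.leaf ([(nat_lit 1), (nat_lit 3), (nat_lit 1), (nat_lit 2), (nat_lit 0), (nat_lit 3), (nat_lit 1), (nat_lit 2), (nat_lit 0), (nat_lit 3), (nat_lit 4), (nat_lit 0)], (nat_lit 0), (nat_lit 3))) (.leaf ([], (nat_lit 0), (nat_lit 0))))) (.node (.node (.leaf ([(nat_lit 4), (nat_lit 1), (nat_lit 3), (nat_lit 0), (nat_lit 1), (nat_lit 3), (nat_lit 2), (nat_lit 0)], (nat_lit 0), (nat_lit 1))) (.leaf ([(nat_lit 1), (nat_lit 2), (nat_lit 0), (nat_lit 1), (nat_lit 3), (nat_lit 2), (nat_lit 0), (nat_lit 3), (nat_lit 4), (nat_lit 3), (nat_lit 1), (nat_lit 0), (nat_lit 3), (nat_lit 1), (nat_lit 2)], (nat_lit 0), (nat_lit 3)))) (.node (.leaf ([(nat_lit 2), (nat_lit 1), (nat_lit 3), (nat_lit 2), (nat_lit 1), (nat_lit 0), (nat_lit 3), (nat_lit 0), (nat_lit 1), (nat_lit 2), (nat_lit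 3), (nat_lit 4), (nat_lit 1), (nat_lit 0)], (nat_lit 0), (nat_lit 3))) (.leaf ([], (nat_lit 0), (nat_lit 0)))))) (.node (.node (.node (.leaf ([(nat_lit 1), (nat_lit 2), (nat_lit 0), (nat_lit 3), (nat_lit 1), (nat_lit 2), (nat_lit 1), (nat_lit 0), (nat_lit 3), (nat_lit 4)], (nat_lit 0), (nat_lit 3))) (.leaf ([(nat_lit 1), (nat_lit 3), (nat_lit 2), (nat_lit 0), (nat_lit 3), (nat_lit 1), (nat_lit 2), (nat_lit 0), (nat_lit 1), (nat_lit 3), (nat_lit 2), (nat_lit 0), (nat_lit 3), (nat_lit 4), (nat_lit 1), (nat_lit 0)], (nat_lit 0), (nat_lit 3)))) (.node (.leaf ([(nat_lit 2), (nat_lit 1), (nat_lit 0), (nat_lit 3), (nat_lit 4), (nat_lit 1), (nat_lit 3), (nat_lit 0), (nat_lit 1), (nat_lit 2), (nat_lit 3), (nat_lit 4), (nat_lit 0), (nat_lit 3)], (nat_lit 0), (nat_lit 1))) (.leaf ([], (nat_lit 0), (nat_lit 0))))) (.node (.node (.leaf ([(nat_lit 4), (nat_lit 3), (nat_lit 0), (nat_lit 1), (nat_lit 2), (nat_lit 3), (nat_lit 1), (nat_lit 2),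 (nat_lit 0), (nat_lit 3), (nat_lit 4)], (nat_lit 0), (nat_lit 3))) (.leaf ([], (nat_lit 0), (nat_lit 0)))) (.node (.leaf ([(nat_lit 4), (nat_lit 2), (nat_lit 3), (nat_lit 1), (nat_lit 0), (nat_lit 3), (nat_lit 1), (nat_lit 2), (nat_lit 3), (nat_lit 1), (nat_lit 0), (nat_lit 3), (nat_lit 4), (nat_lit 1)], (nat_lit 0), (nat_lit 3))) (.leaf ([], (nat_lit 0), (nat_lit 0))))))) (.node (.node (.node (.node (.leaf ([(nat_lit 1), (nat_lit 2), (nat_lit 1), (nat_lit 3), (nat_lit 0), (nat_lit 1), (nat_lit 2), (nat_lit 1), (nat_lit 3), (nat_lit 4)], (nat_lit 0), (nat_lit 3))) (.leaf ([(nat_lit 3), (nat_lit 1), (nat_lit 0), (nat_lit 3), (nat_lit 4), (nat_lit 0), (nat_lit 3), (nat_lit 1), (nat_lit 0), (nat_lit 3), (nat_lit 2)], (nat_lit 0), (nat_lit 1)))) (.node (.leaf ([(nat_lit 1), (nat_lit 3), (nat_lit 1), (nat_lit 2), (nat_lit 0), (nat_lit 1), (nat_lit 3), (nat_lit 4), (nat_lit 2), (nat_lit 0), (nat_lit 1), (nat_lit 0)], (nat_lit 0), (nat_lit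 3))) (.leaf ([], (nat_lit 0), (nat_lit 0))))) (.node (.node (.leaf ([(nat_lit 3), (nat_lit 4), (nat_lit 0), (nat_lit 3), (nat_lit 2), (nat_lit 1), (nat_lit 3), (nat_lit 4), (nat_lit 0), (nat_lit 3), (nat_lit 0)], (nat_lit 0), (nat_lit 3))) (.leaf ([(nat_lit 4), (nat_lit 1), (nat_lit 2), (nat_lit 0), (nat_lit 1), (nat_lit 3), (nat_lit 2), (nat_lit 0), (nat_lit 3), (nat_lit 4), (nat_lit 3), (nat_lit 1), (nat_lit 0), (nat_lit 3), (nat_lit 1), (nat_lit 2)], (nat_lit 0), (nat_lit 3)))) (.node (.leaf ([(nat_lit 3), (nat_lit 0), (nat_lit 1), (nat_lit 3), (nat_lit 4), (nat_lit 3), (nat_lit 0), (nat_lit 1), (nat_lit 3), (nat_lit 1), (nat_lit 2)], (nat_lit 0), (nat_lit 3))) (.leaf ([], (nat_lit 0), (nat_lit 0)))))) (.node (.node (.node (.leaf ([(nat_lit 4), (nat_lit 1), (nat_lit 3), (nat_lit 0), (nat_lit 1), (nat_lit 3), (nat_lit 2), (nat_lit 0)], (nat_lit 0), (nat_lit 3))) (.leaf ([(nat_lit 4), (nat_lit 1), (nat_lit 3), (nat_lit 2), (nat_lit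 0), (nat_lit 1), (nat_lit 3), (nat_lit 0), (nat_lit 1), (nat_lit 2), (nat_lit 3), (nat_lit 4), (nat_lit 0), (nat_lit 1), (nat_lit 0)], (nat_lit 0), (nat_lit 3)))) (.node (.leaf ([(nat_lit 4), (nat_lit 3), (nat_lit 1), (nat_lit 0), (nat_lit 3), (nat_lit 1), (nat_lit 2), (nat_lit 3), (nat_lit 1), (nat_lit 0), (nat_lit 3), (nat_lit 4), (nat_lit 1)], (nat_lit 0), (nat_lit 3))) (.leaf ([], (nat_lit 0), (nat_lit 0))))) (.node (.node (.leaf ([(nat_lit 4), (nat_lit 1), (nat_lit 3), (nat_lit 2), (nat_lit 1), (nat_lit 0), (nat_lit 3), (nat_lit 0), (nat_lit 1), (nat_lit 2), (nat_lit 3), (nat_lit 4), (nat_lit 1)], (nat_lit 0), (nat_lit 3))) (.leaf ([], (nat_lit 0), (nat_lit 0)))) (.node (.leaf ([(nat_lit 1), (nat_lit 2), (nat_lit 0), (nat_lit 3), (nat_lit 1), (nat_lit 2), (nat_lit 0), (nat_lit 1), (nat_lit 3), (nat_lit 4), (nat_lit 1), (nat_lit 0)], (nat_lit 0), (nat_lit 3))) (.leaf ([], (nat_lit 0), (nat_lit 0))))))))))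
noncomputable def kGW0 : BT (List ℕ × ℕ × ℕ) := .node kGW00 kGW01
noncomputable def kGW10 : BT (List ℕ × ℕ × ℕ) := (.node (.node (.node (.node (.node (.node (.node (.leaf ([], (nat_lit 0), (nat_lit 1))) (.leaf ([(nat_lit 1), (nat_lit 3), (nat_lit 2), (nat_lit 0), (nat_lit 3), (nat_lit 1), (nat_lit 2), (nat_lit 0), (nat_lit 1), (nat_lit 3), (nat_lit 2), (nat_lit 0), (nat_lit 3), (nat_lit 4), (nat_lit 1)], (nat_lit 0), (nat_lit 3)))) (.node (.leaf ([(nat_lit 2), (nat_lit 3), (nat_lit 4), (nat_lit 0), (nat_lit 3), (nat_lit 1), (nat_lit 2), (nat_lit 3), (nat_lit 4), (nat_lit 0), (nat_lit 3), (nat_lit 0)], (nat_lit 0), (nat_lit 3))) (.leaf ([], (nat_lit 0), (nat_lit 0))))) (.node (.node (.leaf ([(nat_lit 4), (nat_lit 3), (nat_lit 1), (nat_lit 0), (nat_lit 3), (nat_lit 1), (nat_lit 2), (nat_lit 0)], (nat_lit 0), (nat_lit 1))) (.leaf ([(nat_lit 1), (nat_lit 0), (nat_lit 3), (nat_lit 2), (nat_lit 1), (nat_lit 0), (nat_lit 3), (nat_lit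 1), (nat_lit 2), (nat_lit 0), (nat_lit 3), (nat_lit 4), (nat_lit 1), (nat_lit 0)], (nat_lit 0), (nat_lit 3)))) (.node (.leaf ([(nat_lit 3), (nat_lit 0), (nat_lit 1), (nat_lit 0), (nat_lit 3), (nat_lit 2), (nat_lit 1), (nat_lit 0), (nat_lit 3), (nat_lit 4), (nat_lit 2), (nat_lit 1), (nat_lit 0)], (nat_lit 0), (nat_lit 3))) (.leaf ([], (nat_lit 0), (nat_lit 0)))))) (.node (.node (.node (.leaf ([(nat_lit 2), (nat_lit 1), (nat_lit 3), (nat_lit 0), (nat_lit 1), (nat_lit 3), (nat_lit 4)], (nat_lit 0), (nat_lit 3))) (.leaf ([(nat_lit 3), (nat_lit 2), (nat_lit 0), (nat_lit 3), (nat_lit 4), (nat_lit 3), (nat_lit 2), (nat_lit 1), (nat_lit 3), (nat_lit 0), (nat_lit 1)], (nat_lit 0), (nat_lit 2)))) (.node (.leaf ([(nat_lit 3), (nat_lit 1), (nat_lit 2), (nat_lit 0), (nat_lit 3), (nat_lit 0), (nat_lit 1), (nat_lit 2), (nat_lit 3), (nat_lit 4), (nat_lit 2)], (nat_lit 0), (nat_lit 3))) (.leaf ([], (nat_lit 0), (nat_lit 0))))) (.node (.node (.leaf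 ([(nat_lit 2), (nat_lit 3), (nat_lit 1), (nat_lit 2), (nat_lit 0), (nat_lit 3), (nat_lit 0), (nat_lit 1), (nat_lit 2), (nat_lit 3), (nat_lit 4)], (nat_lit 0), (nat_lit 3))) (.leaf ([(nat_lit 4), (nat_lit 2), (nat_lit 1), (nat_lit 3), (nat_lit 0), (nat_lit 1), (nat_lit 3), (nat_lit 2), (nat_lit 1), (nat_lit 3), (nat_lit 0), (nat_lit 1), (nat_lit 3), (nat_lit 4), (nat_lit 2)], (nat_lit 0), (nat_lit 3)))) (.node (.leaf ([(nat_lit 2), (nat_lit 3), (nat_lit 4), (nat_lit 0), (nat_lit 3), (nat_lit 1), (nat_lit 2), (nat_lit 0), (nat_lit 1), (nat_lit 3), (nat_lit 4), (nat_lit 0), (nat_lit 3)], (nat_lit 0), (nat_lit 3))) (.leaf ([], (nat_lit 0), (nat_lit 0))))))) (.node (.node (.node (.node (.leaf ([(nat_lit 4), (nat_lit 1), (nat_lit 3), (nat_lit 0), (nat_lit 1), (nat_lit 3), (nat_lit 4), (nat_lit 0)], (nat_lit 0), (nat_lit 3))) (.leaf ([(nat_lit 1), (nat_lit 2), (nat_lit 1), (nat_lit 0), (nat_lit 3), (nat_lit 1), (nat_lit 2), (nat_lit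 3), (nat_lit 4), (nat_lit 0), (nat_lit 1), (nat_lit 0)], (nat_lit 0), (nat_lit 3)))) (.node (.leaf ([(nat_lit 3), (nat_lit 2), (nat_lit 0), (nat_lit 3), (nat_lit 4), (nat_lit 3), (nat_lit 2), (nat_lit 0), (nat_lit 3), (nat_lit 2), (nat_lit 0)], (nat_lit 0), (nat_lit 1))) (.leaf ([], (nat_lit 0), (nat_lit 0))))) (.node (.node (.leaf ([(nat_lit 2), (nat_lit 3), (nat_lit 4), (nat_lit 0), (nat_lit 3), (nat_lit 2), (nat_lit 0), (nat_lit 1), (nat_lit 3), (nat_lit 4), (nat_lit 0), (nat_lit 3)], (nat_lit 0), (nat_lit 2))) (.leaf ([(nat_lit 2), (nat_lit 1), (nat_lit 3), (nat_lit 0), (nat_lit 1), (nat_lit 3), (nat_lit 2), (nat_lit 1), (nat_lit 3), (nat_lit 0), (nat_lit 1), (nat_lit 3), (nat_lit 4), (nat_lit 2)], (nat_lit 0), (nat_lit 3)))) (.node (.leaf ([(nat_lit 1), (nat_lit 2), (nat_lit 3), (nat_lit 0), (nat_lit 1), (nat_lit 2), (nat_lit 0), (nat_lit 3), (nat_lit 4), (nat_lit 1)], (nat_lit 0), (nat_lit 3))) (.leaf ([], (nat_lit 0),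 (nat_lit 0)))))) (.node (.node (.node (.leaf ([(nat_lit 1), (nat_lit 2), (nat_lit 1), (nat_lit 3), (nat_lit 0), (nat_lit 1), (nat_lit 2), (nat_lit 1), (nat_lit 3), (nat_lit 4), (nat_lit 0)], (nat_lit 0), (nat_lit 3))) (.leaf ([(nat_lit 1), (nat_lit 3), (nat_lit 0), (nat_lit 1), (nat_lit 3), (nat_lit 2), (nat_lit 1), (nat_lit 3), (nat_lit 0), (nat_lit 1), (nat_lit 3), (nat_lit 4), (nat_lit 2)], (nat_lit 0), (nat_lit 3)))) (.node (.leaf ([(nat_lit 3), (nat_lit 4), (nat_lit 0), (nat_lit 3), (nat_lit 1), (nat_lit 2), (nat_lit 0), (nat_lit 1), (nat_lit 3), (nat_lit 4), (nat_lit 0), (nat_lit 3)], (nat_lit 0), (nat_lit 3))) (.leaf ([], (nat_lit 0), (nat_lit 0))))) (.node (.node (.leaf ([(nat_lit 2), (nat_lit 3), (nat_lit 0), (nat_lit 1), (nat_lit 2), (nat_lit 3), (nat_lit 1), (nat_lit 2), (nat_lit 0), (nat_lit 3), (nat_lit 4)], (nat_lit 0), (nat_lit 3))) (.leaf ([], (nat_lit 0), (nat_lit 0)))) (.node (.leaf ([(nat_lit 3), (nat_lit 1),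 (nat_lit 2), (nat_lit 1), (nat_lit 0), (nat_lit 3), (nat_lit 4), (nat_lit 2), (nat_lit 1), (nat_lit 0)], (nat_lit 0), (nat_lit 3))) (.leaf ([], (nat_lit 0), (nat_lit 0)))))))) (.node (.node (.node (.node (.node (.leaf ([(nat_lit 2)], (nat_lit 0), (nat_lit 3))) (.leaf ([(nat_lit 1), (nat_lit 0), (nat_lit 3), (nat_lit 2), (nat_lit 1), (nat_lit 3), (nat_lit 4), (nat_lit 1), (nat_lit 3), (nat_lit 2), (nat_lit 0), (nat_lit 3), (nat_lit 0)], (nat_lit 0), (nat_lit 1)))) (.node (.leaf ([(nat_lit 3), (nat_lit 4), (nat_lit 0), (nat_lit 3), (nat_lit 2), (nat_lit 1), (nat_lit 3), (nat_lit 4), (nat_lit 0), (nat_lit 3)], (nat_lit 0), (nat_lit 3))) (.leaf ([], (nat_lit 0), (nat_lit 0))))) (.node (.node (.leaf ([(nat_lit 4), (nat_lit 3), (nat_lit 1), (nat_lit 0), (nat_lit 3), (nat_lit 1), (nat_lit 2)], (nat_lit 0), (nat_lit 3))) (.leaf ([(nat_lit 3), (nat_lit 0), (nat_lit 1), (nat_lit 3), (nat_lit 2), (nat_lit 1), (nat_lit 0), (nat_lit 3), (nat_lit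 2), (nat_lit 1), (nat_lit 3), (nat_lit 4), (nat_lit 0), (nat_lit 1), (nat_lit 0)], (nat_lit 0), (nat_lit 3)))) (.node (.leaf ([(nat_lit 2), (nat_lit 3), (nat_lit 1), (nat_lit 0), (nat_lit 3), (nat_lit 4), (nat_lit 1), (nat_lit 2), (nat_lit 0)], (nat_lit 0), (nat_lit 3))) (.leaf ([], (nat_lit 0), (nat_lit 0)))))) (.node (.node (.node (.leaf ([(nat_lit 2), (nat_lit 3), (nat_lit 1), (nat_lit 0), (nat_lit 3), (nat_lit 4), (nat_lit 1)], (nat_lit 0), (nat_lit 3))) (.leaf ([(nat_lit 2), (nat_lit 1), (nat_lit 0), (nat_lit 3), (nat_lit 2), (nat_lit 1), (nat_lit 3), (nat_lit 4), (nat_lit 2), (nat_lit 0), (nat_lit 1)], (nat_lit 0), (nat_lit 3)))) (.node (.leaf ([(nat_lit 4), (nat_lit 2), (nat_lit 1), (nat_lit 3), (nat_lit 2), (nat_lit 0), (nat_lit 1), (nat_lit 0), (nat_lit 3), (nat_lit 4), (nat_lit 2), (nat_lit 1)], (nat_lit 0), (nat_lit 3))) (.leaf ([], (nat_lit 0), (nat_lit 0))))) (.node (.node (.leaf ([(nat_lit 3), (nat_lit 0), (nat_lit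 1), (nat_lit 3), (nat_lit 4), (nat_lit 3), (nat_lit 1), (nat_lit 0), (nat_lit 3), (nat_lit 2), (nat_lit 0)], (nat_lit 0), (nat_lit 3))) (.leaf ([], (nat_lit 0), (nat_lit 0)))) (.node (.leaf ([(nat_lit 4), (nat_lit 2), (nat_lit 3), (nat_lit 1), (nat_lit 0), (nat_lit 3), (nat_lit 4), (nat_lit 1), (nat_lit 2), (nat_lit 0)], (nat_lit 0), (nat_lit 3))) (.leaf ([], (nat_lit 0), (nat_lit 0))))))) (.node (.node (.node (.node (.leaf ([(nat_lit 4), (nat_lit 2), (nat_lit 3), (nat_lit 1), (nat_lit 0), (nat_lit 3), (nat_lit 4), (nat_lit 1), (nat_lit 0)], (nat_lit 0), (nat_lit 3))) (.leaf ([(nat_lit 1), (nat_lit 2), (nat_lit 0), (nat_lit 3), (nat_lit 1), (nat_lit 2), (nat_lit 3), (nat_lit 4), (nat_lit 3), (nat_lit 1), (nat_lit 0), (nat_lit 3)], (nat_lit 0), (nat_lit 2)))) (.node (.leaf ([(nat_lit 3), (nat_lit 2), (nat_lit 1), (nat_lit 0), (nat_lit 3), (nat_lit 2), (nat_lit 1), (nat_lit 0), (nat_lit 3), (nat_lit 4), (nat_lit 3), (nat_lit 1),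 (nat_lit 0), (nat_lit 3)], (nat_lit 0), (nat_lit 2))) (.leaf ([], (nat_lit 0), (nat_lit 0))))) (.node (.node (.leaf ([(nat_lit 3), (nat_lit 4), (nat_lit 0), (nat_lit 3), (nat_lit 1), (nat_lit 2), (nat_lit 3), (nat_lit 4), (nat_lit 0), (nat_lit 3), (nat_lit 0)], (nat_lit 0), (nat_lit 3))) (.leaf ([(nat_lit 4), (nat_lit 1), (nat_lit 0), (nat_lit 3), (nat_lit 2), (nat_lit 1), (nat_lit 0), (nat_lit 3), (nat_lit 1), (nat_lit 2), (nat_lit 0), (nat_lit 3), (nat_lit 4), (nat_lit 1), (nat_lit 0)], (nat_lit 0), (nat_lit 3)))) (.node (.leaf ([(nat_lit 2), (nat_lit 1), (nat_lit 3), (nat_lit 0), (nat_lit 1), (nat_lit 3), (nat_lit 4), (nat_lit 2), (nat_lit 0)], (nat_lit 0), (nat_lit 3))) (.leaf ([], (nat_lit 0), (nat_lit 0)))))) (.node (.node (.node (.leaf ([(nat_lit 1), (nat_lit 0), (nat_lit 3), (nat_lit 1), (nat_lit 2), (nat_lit 3), (nat_lit 4), (nat_lit 3), (nat_lit 2), (nat_lit 0), (nat_lit 3), (nat_lit 0)], (nat_lit 0), (nat_lit 1)))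 (.leaf ([(nat_lit 1), (nat_lit 0), (nat_lit 3), (nat_lit 1), (nat_lit 2), (nat_lit 3), (nat_lit 4), (nat_lit 3), (nat_lit 2), (nat_lit 0), (nat_lit 3), (nat_lit 2)], (nat_lit 0), (nat_lit 1)))) (.node (.leaf ([(nat_lit 4), (nat_lit 2), (nat_lit 3), (nat_lit 1), (nat_lit 0), (nat_lit 3), (nat_lit 4), (nat_lit 1), (nat_lit 2)], (nat_lit 0), (nat_lit 3))) (.leaf ([], (nat_lit 0), (nat_lit 0))))) (.node (.node (.leaf ([(nat_lit 3), (nat_lit 4), (nat_lit 0), (nat_lit 3), (nat_lit 1), (nat_lit 2), (nat_lit 0), (nat_lit 1), (nat_lit 3), (nat_lit 4), (nat_lit 0), (nat_lit 3), (nat_lit 0)], (nat_lit 0), (nat_lit 3))) (.leaf ([], (nat_lit 0), (nat_lit 0)))) (.node (.leaf ([(nat_lit 2), (nat_lit 1), (nat_lit 0), (nat_lit 3), (nat_lit 2), (nat_lit 1), (nat_lit 3), (nat_lit 4), (nat_lit 2), (nat_lit 0), (nat_lit 1), (nat_lit 0)], (nat_lit 0), (nat_lit 3))) (.leaf ([], (nat_lit 0), (nat_lit 0))))))))) (.node (.node (.node (.node (.node (.node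 (.leaf ([(nat_lit 0)], (nat_lit 0), (nat_lit 1))) (.leaf ([(nat_lit 3), (nat_lit 2), (nat_lit 1), (nat_lit 0), (nat_lit 3), (nat_lit 2), (nat_lit 1), (nat_lit 0), (nat_lit 3), (nat_lit 4), (nat_lit 3), (nat_lit 0), (nat_lit 1), (nat_lit 3), (nat_lit 1)], (nat_lit 0), (nat_lit 2)))) (.node (.leaf ([(nat_lit 2), (nat_lit 3), (nat_lit 1), (nat_lit 0), (nat_lit 3), (nat_lit 1), (nat_lit 2), (nat_lit 3), (nat_lit 1), (nat_lit 0), (nat_lit 3), (nat_lit 4), (nat_lit 1), (nat_lit 0)], (nat_lit 0), (nat_lit 3))) (.leaf ([], (nat_lit 0), (nat_lit 0))))) (.node (.node (.leaf ([(nat_lit 3), (nat_lit 1), (nat_lit 2), (nat_lit 0), (nat_lit 3), (nat_lit 0), (nat_lit 1), (nat_lit 2), (nat_lit 3), (nat_lit 4)], (nat_lit 0), (nat_lit 3))) (.leaf ([(nat_lit 1), (nat_lit 2), (nat_lit 3), (nat_lit 2), (nat_lit 0), (nat_lit 1), (nat_lit 0), (nat_lit 3), (nat_lit 4), (nat_lit 3), (nat_lit 2), (nat_lit 0), (nat_lit 3), (nat_lit 0)], (nat_lit 0), (nat_lit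 1)))) (.node (.leaf ([(nat_lit 3), (nat_lit 1), (nat_lit 2), (nat_lit 0), (nat_lit 3), (nat_lit 1), (nat_lit 0), (nat_lit 3), (nat_lit 2), (nat_lit 1), (nat_lit 0), (nat_lit 3), (nat_lit 4), (nat_lit 0)], (nat_lit 0), (nat_lit 3))) (.leaf ([], (nat_lit 0), (nat_lit 0)))))) (.node (.node (.node (.leaf ([(nat_lit 1), (nat_lit 3), (nat_lit 0), (nat_lit 1), (nat_lit 3), (nat_lit 2)], (nat_lit 0), (nat_lit 3))) (.leaf ([(nat_lit 1), (nat_lit 3), (nat_lit 2), (nat_lit 0), (nat_lit 1), (nat_lit 0), (nat_lit 3), (nat_lit 4), (nat_lit 2), (nat_lit 1), (nat_lit 0)], (nat_lit 0), (nat_lit 3)))) (.node (.leaf ([(nat_lit 3), (nat_lit 2), (nat_lit 1), (nat_lit 0), (nat_lit 3), (nat_lit 2), (nat_lit 1), (nat_lit 0), (nat_lit 3), (nat_lit 4), (nat_lit 0), (nat_lit 1)], (nat_lit 0), (nat_lit 3))) (.leaf ([], (nat_lit 0), (nat_lit 0))))) (.node (.node (.leaf ([(nat_lit 3), (nat_lit 4), (nat_lit 0), (nat_lit 3), (nat_lit 1), (nat_lit 2), (nat_lit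 3), (nat_lit 4), (nat_lit 0), (nat_lit 3)], (nat_lit 0), (nat_lit 1))) (.leaf ([(nat_lit 4), (nat_lit 2), (nat_lit 3), (nat_lit 1), (nat_lit 0), (nat_lit 3), (nat_lit 1), (nat_lit 2), (nat_lit 3), (nat_lit 1), (nat_lit 0), (nat_lit 3), (nat_lit 4), (nat_lit 1), (nat_lit 2)], (nat_lit 0), (nat_lit 3)))) (.node (.leaf ([(nat_lit 1), (nat_lit 2), (nat_lit 0), (nat_lit 3), (nat_lit 1), (nat_lit 2), (nat_lit 3), (nat_lit 4), (nat_lit 0), (nat_lit 1), (nat_lit 0)], (nat_lit 0), (nat_lit 3))) (.leaf ([], (nat_lit 0), (nat_lit 0))))))) (.node (.node (.node (.node (.leaf ([(nat_lit 4), (nat_lit 2)], (nat_lit 0), (nat_lit 3))) (.leaf ([(nat_lit 4), (nat_lit 3), (nat_lit 2), (nat_lit 0), (nat_lit 3), (nat_lit 4), (nat_lit 0), (nat_lit 1), (nat_lit 2), (nat_lit 0), (nat_lit 1), (nat_lit 0)], (nat_lit 0), (nat_lit 3)))) (.node (.leaf ([(nat_lit 3), (nat_lit 1), (nat_lit 0), (nat_lit 3), (nat_lit 4), (nat_lit 0), (nat_lit 3), (nat_lit 1),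 (nat_lit 0), (nat_lit 3), (nat_lit 2)], (nat_lit 0), (nat_lit 3))) (.leaf ([], (nat_lit 0), (nat_lit 0))))) (.node (.node (.leaf ([(nat_lit 1), (nat_lit 3), (nat_lit 0), (nat_lit 1), (nat_lit 2), (nat_lit 3), (nat_lit 2), (nat_lit 1), (nat_lit 0), (nat_lit 3), (nat_lit 4), (nat_lit 1)], (nat_lit 0), (nat_lit 3))) (.leaf ([(nat_lit 4), (nat_lit 3), (nat_lit 1), (nat_lit 0), (nat_lit 3), (nat_lit 1), (nat_lit 2), (nat_lit 3), (nat_lit 1), (nat_lit 0), (nat_lit 3), (nat_lit 4), (nat_lit 1), (nat_lit 2), (nat_lit 0)], (nat_lit 0), (nat_lit 3)))) (.node (.leaf ([(nat_lit 1), (nat_lit 2), (nat_lit 3), (nat_lit 0), (nat_lit 1), (nat_lit 2), (nat_lit 0), (nat_lit 3), (nat_lit 4), (nat_lit 1), (nat_lit 2)], (nat_lit 0), (nat_lit 3))) (.leaf ([], (nat_lit 0), (nat_lit 0)))))) (.node (.node (.node (.leaf ([(nat_lit 2), (nat_lit 3), (nat_lit 0), (nat_lit 1), (nat_lit 3), (nat_lit 4), (nat_lit 3), (nat_lit 1), (nat_lit 0), (nat_lit 3)], (nat_lit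 0), (nat_lit 2))) (.leaf ([(nat_lit 4), (nat_lit 3), (nat_lit 2), (nat_lit 0), (nat_lit 3), (nat_lit 4), (nat_lit 1), (nat_lit 2), (nat_lit 0), (nat_lit 1)], (nat_lit 0), (nat_lit 3)))) (.node (.leaf ([(nat_lit 3), (nat_lit 1), (nat_lit 2), (nat_lit 3), (nat_lit 1), (nat_lit 0), (nat_lit 3), (nat_lit 2), (nat_lit 1), (nat_lit 3), (nat_lit 4), (nat_lit 2), (nat_lit 1), (nat_lit 0)], (nat_lit 0), (nat_lit 3))) (.leaf ([], (nat_lit 0), (nat_lit 0))))) (.node (.node (.leaf ([(nat_lit 1), (nat_lit 0), (nat_lit 3), (nat_lit 4), (nat_lit 1), (nat_lit 3), (nat_lit 0), (nat_lit 1), (nat_lit 2), (nat_lit 3), (nat_lit 4), (nat_lit 0), (nat_lit 3)], (nat_lit 0), (nat_lit 1))) (.leaf ([], (nat_lit 0), (nat_lit 0)))) (.node (.leaf ([(nat_lit 1), (nat_lit 2), (nat_lit 1), (nat_lit 3), (nat_lit 0), (nat_lit 1), (nat_lit 2), (nat_lit 0), (nat_lit 3), (nat_lit 4), (nat_lit 3), (nat_lit 0), (nat_lit 1), (nat_lit 3)], (nat_lit 0), (nat_lit 2)))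 (.leaf ([], (nat_lit 0), (nat_lit 0)))))))) (.node (.node (.node (.node (.node (.leaf ([(nat_lit 4), (nat_lit 3), (nat_lit 1), (nat_lit 0), (nat_lit 3), (nat_lit 4), (nat_lit 1), (nat_lit 0)], (nat_lit 0), (nat_lit 3))) (.leaf ([(nat_lit 1), (nat_lit 0), (nat_lit 3), (nat_lit 1), (nat_lit 2), (nat_lit 3), (nat_lit 4), (nat_lit 3), (nat_lit 2), (nat_lit 0), (nat_lit 3), (nat_lit 2), (nat_lit 0)], (nat_lit 0), (nat_lit 1)))) (.node (.leaf ([(nat_lit 2), (nat_lit 3), (nat_lit 1), (nat_lit 2), (nat_lit 0), (nat_lit 3), (nat_lit 0), (nat_lit 1), (nat_lit 2), (nat_lit 3), (nat_lit 4), (nat_lit 0)], (nat_lit 0), (nat_lit 3))) (.leaf ([], (nat_lit 0), (nat_lit 0))))) (.node (.node (.leaf ([(nat_lit 4), (nat_lit 1), (nat_lit 0), (nat_lit 3), (nat_lit 1), (nat_lit 2), (nat_lit 3), (nat_lit 4), (nat_lit 3), (nat_lit 2), (nat_lit 0), (nat_lit 3)], (nat_lit 0), (nat_lit 1))) (.leaf ([(nat_lit 1), (nat_lit 2), (nat_lit 3), (nat_lit 2), (nat_lit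 0), (nat_lit 1), (nat_lit 0), (nat_lit 3), (nat_lit 4), (nat_lit 3), (nat_lit 2), (nat_lit 0), (nat_lit 3)], (nat_lit 0), (nat_lit 1)))) (.node (.leaf ([(nat_lit 1), (nat_lit 0), (nat_lit 3), (nat_lit 2), (nat_lit 1), (nat_lit 3), (nat_lit 4), (nat_lit 0), (nat_lit 1), (nat_lit 2), (nat_lit 1), (nat_lit 0)], (nat_lit 0), (nat_lit 3))) (.leaf ([], (nat_lit 0), (nat_lit 0)))))) (.node (.node (.node (.leaf ([(nat_lit 3), (nat_lit 1), (nat_lit 0), (nat_lit 3), (nat_lit 1), (nat_lit 2)], (nat_lit 0), (nat_lit 1))) (.leaf ([(nat_lit 2), (nat_lit 1), (nat_lit 3), (nat_lit 2), (nat_lit 0), (nat_lit 1), (nat_lit 0), (nat_lit 3), (nat_lit 4), (nat_lit 2), (nat_lit 0), (nat_lit 3), (nat_lit 1), (nat_lit 0), (nat_lit 3)], (nat_lit 0), (nat_lit 2)))) (.node (.leaf ([(nat_lit 3), (nat_lit 2), (nat_lit 0), (nat_lit 1), (nat_lit 3), (nat_lit 2), (nat_lit 0), (nat_lit 1), (nat_lit 3), (nat_lit 4), (nat_lit 3), (nat_lit 0), (nat_lit 1), (nat_lit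 3)], (nat_lit 0), (nat_lit 2))) (.leaf ([], (nat_lit 0), (nat_lit 0))))) (.node (.node (.leaf ([(nat_lit 2), (nat_lit 1), (nat_lit 0), (nat_lit 3), (nat_lit 2), (nat_lit 1), (nat_lit 3), (nat_lit 4), (nat_lit 2), (nat_lit 3), (nat_lit 1), (nat_lit 0), (nat_lit 3)], (nat_lit 0), (nat_lit 2))) (.leaf ([], (nat_lit 0), (nat_lit 0)))) (.node (.leaf ([(nat_lit 3), (nat_lit 1), (nat_lit 0), (nat_lit 3), (nat_lit 4), (nat_lit 0), (nat_lit 3), (nat_lit 1), (nat_lit 0), (nat_lit 3)], (nat_lit 0), (nat_lit 2))) (.leaf ([], (nat_lit 0), (nat_lit 0))))))) (.node (.node (.node (.node (.leaf ([(nat_lit 4), (nat_lit 1), (nat_lit 2), (nat_lit 1), (nat_lit 3), (nat_lit 0), (nat_lit 1), (nat_lit 2), (nat_lit 1), (nat_lit 3), (nat_lit 4), (nat_lit 0)], (nat_lit 0), (nat_lit 3))) (.leaf ([(nat_lit 4), (nat_lit 3), (nat_lit 2), (nat_lit 0), (nat_lit 3), (nat_lit 4), (nat_lit 1), (nat_lit 2), (nat_lit 0), (nat_lit 1), (nat_lit 0)], (nat_lit 0), (nat_lit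 3)))) (.node (.leaf ([(nat_lit 2), (nat_lit 1), (nat_lit 3), (nat_lit 1), (nat_lit 2), (nat_lit 0), (nat_lit 1), (nat_lit 3), (nat_lit 4), (nat_lit 2), (nat_lit 0), (nat_lit 1)], (nat_lit 0), (nat_lit 3))) (.leaf ([], (nat_lit 0), (nat_lit 0))))) (.node (.node (.leaf ([(nat_lit 3), (nat_lit 1), (nat_lit 0), (nat_lit 3), (nat_lit 4), (nat_lit 3), (nat_lit 0), (nat_lit 1), (nat_lit 3), (nat_lit 2)], (nat_lit 0), (nat_lit 1))) (.leaf ([(nat_lit 1), (nat_lit 3), (nat_lit 2), (nat_lit 1), (nat_lit 0), (nat_lit 3), (nat_lit 0), (nat_lit 1), (nat_lit 2), (nat_lit 3), (nat_lit 4), (nat_lit 3), (nat_lit 0), (nat_lit 1), (nat_lit 3)], (nat_lit 0), (nat_lit 2)))) (.node (.leaf ([(nat_lit 2), (nat_lit 3), (nat_lit 1), (nat_lit 0), (nat_lit 3), (nat_lit 4), (nat_lit 1), (nat_lit 2)], (nat_lit 0), (nat_lit 3))) (.leaf ([], (nat_lit 0), (nat_lit 0)))))) (.node (.node (.node (.leaf ([(nat_lit 1), (nat_lit 3), (nat_lit 0), (nat_lit 1), (nat_lit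 3)], (nat_lit 0), (nat_lit 2))) (.leaf ([(nat_lit 3), (nat_lit 2), (nat_lit 1), (nat_lit 3), (nat_lit 2), (nat_lit 0), (nat_lit 1), (nat_lit 3), (nat_lit 2), (nat_lit 0), (nat_lit 3), (nat_lit 4), (nat_lit 0), (nat_lit 1), (nat_lit 0)], (nat_lit 0), (nat_lit 3)))) (.node (.leaf ([(nat_lit 1), (nat_lit 2), (nat_lit 1), (nat_lit 0), (nat_lit 3), (nat_lit 1), (nat_lit 2), (nat_lit 3), (nat_lit 4), (nat_lit 0), (nat_lit 1), (nat_lit 2), (nat_lit 0)], (nat_lit 0), (nat_lit 3))) (.leaf ([], (nat_lit 0), (nat_lit 0))))) (.node (.node (.leaf ([(nat_lit 1), (nat_lit 3), (nat_lit 4), (nat_lit 2), (nat_lit 3), (nat_lit 0), (nat_lit 1), (nat_lit 0), (nat_lit 3), (nat_lit 4), (nat_lit 2), (nat_lit 3), (nat_lit 1)], (nat_lit 0), (nat_lit 2))) (.leaf ([], (nat_lit 0), (nat_lit 0)))) (.node (.leaf ([(nat_lit 3), (nat_lit 0), (nat_lit 1), (nat_lit 2), (nat_lit 1), (nat_lit 3), (nat_lit 4), (nat_lit 1), (nat_lit 3), (nat_lit 2), (nat_lit 0), (nat_lit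 3)], (nat_lit 0), (nat_lit 1))) (.leaf ([], (nat_lit 0), (nat_lit 0))))))))))
noncomputable def kGW11 : BT (List ℕ × ℕ × ℕ) := (.node (.node (.node (.node (.node (.node (.node (.leaf ([], (nat_lit 0), (nat_lit 3))) (.leaf ([(nat_lit 3), (nat_lit 2), (nat_lit 0), (nat_lit 3), (nat_lit 4), (nat_lit 0), (nat_lit 1), (nat_lit 2), (nat_lit 0), (nat_lit 1)], (nat_lit 0), (nat_lit 3)))) (.node (.leaf ([(nat_lit 2), (nat_lit 3), (nat_lit 1), (nat_lit 0), (nat_lit 3), (nat_lit 4), (nat_lit 3), (nat_lit 0), (nat_lit 1), (nat_lit 3), (nat_lit 2), (nat_lit 0)], (nat_lit 0), (nat_lit 3))) (.leaf ([], (nat_lit 0), (nat_lit 0))))) (.node (.node (.leaf ([(nat_lit 3), (nat_lit 1), (nat_lit 0), (nat_lit 3), (nat_lit 4), (nat_lit 3), (nat_lit 0), (nat_lit 1), (nat_lit 3)], (nat_lit 0), (nat_lit 2))) (.leaf ([(nat_lit 3), (nat_lit 1), (nat_lit 2), (nat_lit 1), (nat_lit 0), (nat_lit 3), (nat_lit 4), (nat_lit 2), (nat_lit 3), (nat_lit 0), (nat_lit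 1), (nat_lit 3)], (nat_lit 0), (nat_lit 2)))) (.node (.leaf ([(nat_lit 2), (nat_lit 3), (nat_lit 1), (nat_lit 0), (nat_lit 3), (nat_lit 1), (nat_lit 2), (nat_lit 3), (nat_lit 1), (nat_lit 0), (nat_lit 3), (nat_lit 4), (nat_lit 1)], (nat_lit 0), (nat_lit 3))) (.leaf ([], (nat_lit 0), (nat_lit 0)))))) (.node (.node (.node (.leaf ([(nat_lit 1), (nat_lit 2), (nat_lit 3), (nat_lit 0), (nat_lit 1), (nat_lit 2), (nat_lit 1), (nat_lit 3), (nat_lit 4)], (nat_lit 0), (nat_lit 3))) (.leaf ([(nat_lit 1), (nat_lit 3), (nat_lit 0), (nat_lit 1), (nat_lit 3), (nat_lit 2), (nat_lit 1), (nat_lit 3), (nat_lit 0), (nat_lit 1), (nat_lit 3), (nat_lit 4), (nat_lit 2), (nat_lit 0)], (nat_lit 0), (nat_lit 3)))) (.node (.leaf ([(nat_lit 1), (nat_lit 0), (nat_lit 3), (nat_lit 2), (nat_lit 1), (nat_lit 3), (nat_lit 4), (nat_lit 0), (nat_lit 1), (nat_lit 2), (nat_lit 1)], (nat_lit 0), (nat_lit 3))) (.leaf ([], (nat_lit 0), (nat_lit 0))))) (.node (.node (.leaf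 ([(nat_lit 3), (nat_lit 2), (nat_lit 0), (nat_lit 3), (nat_lit 4), (nat_lit 3), (nat_lit 2), (nat_lit 0), (nat_lit 3), (nat_lit 2)], (nat_lit 0), (nat_lit 1))) (.leaf ([(nat_lit 4), (nat_lit 2), (nat_lit 3), (nat_lit 1), (nat_lit 0), (nat_lit 3), (nat_lit 1), (nat_lit 2), (nat_lit 3), (nat_lit 1), (nat_lit 0), (nat_lit 3), (nat_lit 4), (nat_lit 1), (nat_lit 2), (nat_lit 0)], (nat_lit 0), (nat_lit 3)))) (.node (.leaf ([(nat_lit 2), (nat_lit 3), (nat_lit 1), (nat_lit 0), (nat_lit 3), (nat_lit 4), (nat_lit 0), (nat_lit 3), (nat_lit 1), (nat_lit 0), (nat_lit 3), (nat_lit 2), (nat_lit 0)], (nat_lit 0), (nat_lit 3))) (.leaf ([], (nat_lit 0), (nat_lit 0))))))) (.node (.node (.node (.node (.leaf ([(nat_lit 1), (nat_lit 3), (nat_lit 0), (nat_lit 1), (nat_lit 3), (nat_lit 4)], (nat_lit 0), (nat_lit 3))) (.leaf ([(nat_lit 2), (nat_lit 3), (nat_lit 0), (nat_lit 1), (nat_lit 3), (nat_lit 4), (nat_lit 3), (nat_lit 0), (nat_lit 1), (nat_lit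 3), (nat_lit 1), (nat_lit 2)], (nat_lit 0), (nat_lit 3)))) (.node (.leaf ([(nat_lit 3), (nat_lit 2), (nat_lit 1), (nat_lit 0), (nat_lit 3), (nat_lit 2), (nat_lit 1), (nat_lit 0), (nat_lit 3), (nat_lit 4), (nat_lit 0), (nat_lit 1), (nat_lit 0)], (nat_lit 0), (nat_lit 3))) (.leaf ([], (nat_lit 0), (nat_lit 0))))) (.node (.node (.leaf ([(nat_lit 1), (nat_lit 3), (nat_lit 0), (nat_lit 1), (nat_lit 2), (nat_lit 0), (nat_lit 3), (nat_lit 4), (nat_lit 3), (nat_lit 2), (nat_lit 0), (nat_lit 3), (nat_lit 0)], (nat_lit 0), (nat_lit 1))) (.leaf ([(nat_lit 3), (nat_lit 1), (nat_lit 0), (nat_lit 3), (nat_lit 1), (nat_lit 2), (nat_lit 3), (nat_lit 1), (nat_lit 0), (nat_lit 3), (nat_lit 4), (nat_lit 1), (nat_lit 2)], (nat_lit 0), (nat_lit 3)))) (.node (.leaf ([(nat_lit 1), (nat_lit 3), (nat_lit 1), (nat_lit 2), (nat_lit 0), (nat_lit 1), (nat_lit 3), (nat_lit 4), (nat_lit 1), (nat_lit 3), (nat_lit 2), (nat_lit 0), (nat_lit 3)], (nat_lit 0),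 (nat_lit 1))) (.leaf ([], (nat_lit 0), (nat_lit 0)))))) (.node (.node (.node (.leaf ([(nat_lit 1), (nat_lit 3), (nat_lit 0), (nat_lit 1), (nat_lit 3), (nat_lit 2)], (nat_lit 0), (nat_lit 1))) (.leaf ([(nat_lit 3), (nat_lit 1), (nat_lit 2), (nat_lit 1), (nat_lit 0), (nat_lit 3), (nat_lit 4), (nat_lit 2), (nat_lit 3), (nat_lit 0), (nat_lit 1), (nat_lit 3), (nat_lit 2), (nat_lit 0)], (nat_lit 0), (nat_lit 1)))) (.node (.leaf ([(nat_lit 2), (nat_lit 3), (nat_lit 4), (nat_lit 0), (nat_lit 3), (nat_lit 1), (nat_lit 2), (nat_lit 0), (nat_lit 1), (nat_lit 3), (nat_lit 4), (nat_lit 0), (nat_lit 3), (nat_lit 0)], (nat_lit 0), (nat_lit 3))) (.leaf ([], (nat_lit 0), (nat_lit 0))))) (.node (.node (.leaf ([(nat_lit 3), (nat_lit 4), (nat_lit 0), (nat_lit 3), (nat_lit 0), (nat_lit 1), (nat_lit 2), (nat_lit 3), (nat_lit 4), (nat_lit 0), (nat_lit 3)], (nat_lit 0), (nat_lit 1))) (.leaf ([], (nat_lit 0), (nat_lit 0)))) (.node (.leaf ([(nat_lit 3),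 (nat_lit 0), (nat_lit 1), (nat_lit 3), (nat_lit 4), (nat_lit 3), (nat_lit 0), (nat_lit 1), (nat_lit 3), (nat_lit 1), (nat_lit 2)], (nat_lit 0), (nat_lit 1))) (.leaf ([], (nat_lit 0), (nat_lit 0)))))))) (.node (.node (.node (.node (.node (.leaf ([(nat_lit 2), (nat_lit 0)], (nat_lit 0), (nat_lit 1))) (.leaf ([(nat_lit 3), (nat_lit 1), (nat_lit 2), (nat_lit 1), (nat_lit 3), (nat_lit 0), (nat_lit 1), (nat_lit 2), (nat_lit 3), (nat_lit 4), (nat_lit 3), (nat_lit 1), (nat_lit 0), (nat_lit 3)], (nat_lit 0), (nat_lit 2)))) (.node (.leaf ([(nat_lit 3), (nat_lit 2), (nat_lit 0), (nat_lit 1), (nat_lit 3), (nat_lit 2), (nat_lit 0), (nat_lit 1), (nat_lit 3), (nat_lit 4), (nat_lit 1), (nat_lit 0)], (nat_lit 0), (nat_lit 3))) (.leaf ([], (nat_lit 0), (nat_lit 0))))) (.node (.node (.leaf ([(nat_lit 3), (nat_lit 0), (nat_lit 1), (nat_lit 3), (nat_lit 4), (nat_lit 3), (nat_lit 1), (nat_lit 0), (nat_lit 3), (nat_lit 2)], (nat_lit 0), (nat_lit 3)))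 (.leaf ([(nat_lit 1), (nat_lit 3), (nat_lit 0), (nat_lit 1), (nat_lit 2), (nat_lit 0), (nat_lit 3), (nat_lit 4), (nat_lit 3), (nat_lit 2), (nat_lit 0), (nat_lit 3), (nat_lit 2), (nat_lit 0)], (nat_lit 0), (nat_lit 1)))) (.node (.leaf ([(nat_lit 1), (nat_lit 3), (nat_lit 1), (nat_lit 2), (nat_lit 0), (nat_lit 3), (nat_lit 1), (nat_lit 2), (nat_lit 0), (nat_lit 1), (nat_lit 0), (nat_lit 3), (nat_lit 4), (nat_lit 1), (nat_lit 0)], (nat_lit 0), (nat_lit 3))) (.leaf ([], (nat_lit 0), (nat_lit 0)))))) (.node (.node (.node (.leaf ([(nat_lit 2), (nat_lit 3), (nat_lit 1), (nat_lit 0), (nat_lit 3), (nat_lit 4), (nat_lit 1), (nat_lit 0)], (nat_lit 0), (nat_lit 3))) (.leaf ([(nat_lit 4), (nat_lit 1), (nat_lit 0), (nat_lit 3), (nat_lit 2), (nat_lit 1), (nat_lit 3), (nat_lit 4), (nat_lit 2), (nat_lit 0), (nat_lit 1)], (nat_lit 0), (nat_lit 3)))) (.node (.leaf ([(nat_lit 3), (nat_lit 1), (nat_lit 0), (nat_lit 3), (nat_lit 4), (nat_lit 1), (nat_lit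 2)], (nat_lit 0), (nat_lit 3))) (.leaf ([], (nat_lit 0), (nat_lit 0))))) (.node (.node (.leaf ([(nat_lit 2), (nat_lit 3), (nat_lit 0), (nat_lit 1), (nat_lit 3), (nat_lit 4), (nat_lit 3), (nat_lit 1), (nat_lit 0), (nat_lit 3), (nat_lit 2)], (nat_lit 0), (nat_lit 3))) (.leaf ([], (nat_lit 0), (nat_lit 0)))) (.node (.leaf ([(nat_lit 1), (nat_lit 2), (nat_lit 1), (nat_lit 0), (nat_lit 3), (nat_lit 1), (nat_lit 2), (nat_lit 3), (nat_lit 4), (nat_lit 0), (nat_lit 1), (nat_lit 2)], (nat_lit 0), (nat_lit 3))) (.leaf ([], (nat_lit 0), (nat_lit 0))))))) (.node (.node (.node (.node (.leaf ([(nat_lit 4), (nat_lit 1), (nat_lit 2), (nat_lit 0), (nat_lit 3), (nat_lit 1), (nat_lit 2), (nat_lit 1), (nat_lit 0), (nat_lit 3), (nat_lit 4)], (nat_lit 0), (nat_lit 3))) (.leaf ([(nat_lit 3), (nat_lit 0), (nat_lit 1), (nat_lit 2), (nat_lit 1), (nat_lit 3), (nat_lit 4), (nat_lit 1), (nat_lit 3), (nat_lit 2), (nat_lit 0), (nat_lit 3), (nat_lit 0)], (nat_lit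 0), (nat_lit 1)))) (.node (.leaf ([(nat_lit 1), (nat_lit 2), (nat_lit 1), (nat_lit 3), (nat_lit 0), (nat_lit 1), (nat_lit 2), (nat_lit 0), (nat_lit 3), (nat_lit 4), (nat_lit 1), (nat_lit 2)], (nat_lit 0), (nat_lit 3))) (.leaf ([], (nat_lit 0), (nat_lit 0))))) (.node (.node (.leaf ([(nat_lit 3), (nat_lit 1), (nat_lit 0), (nat_lit 3), (nat_lit 1), (nat_lit 2), (nat_lit 3), (nat_lit 1), (nat_lit 0), (nat_lit 3), (nat_lit 4), (nat_lit 1), (nat_lit 0)], (nat_lit 0), (nat_lit 3))) (.leaf ([(nat_lit 4), (nat_lit 3), (nat_lit 0), (nat_lit 1), (nat_lit 3), (nat_lit 2), (nat_lit 1), (nat_lit 0), (nat_lit 3), (nat_lit 2), (nat_lit 1), (nat_lit 3), (nat_lit 4), (nat_lit 0), (nat_lit 1), (nat_lit 0)], (nat_lit 0), (nat_lit 3)))) (.node (.leaf ([(nat_lit 4), (nat_lit 2), (nat_lit 1), (nat_lit 3), (nat_lit 2), (nat_lit 0), (nat_lit 1), (nat_lit 0), (nat_lit 3), (nat_lit 4), (nat_lit 2), (nat_lit 1), (nat_lit 0)], (nat_lit 0), (nat_lit 3)))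 (.leaf ([], (nat_lit 0), (nat_lit 0)))))) (.node (.node (.node (.leaf ([(nat_lit 4), (nat_lit 1), (nat_lit 3), (nat_lit 0), (nat_lit 1), (nat_lit 3), (nat_lit 2)], (nat_lit 0), (nat_lit 3))) (.leaf ([(nat_lit 1), (nat_lit 3), (nat_lit 4), (nat_lit 3), (nat_lit 0), (nat_lit 1), (nat_lit 0), (nat_lit 3), (nat_lit 2), (nat_lit 1), (nat_lit 3), (nat_lit 4), (nat_lit 0), (nat_lit 3)], (nat_lit 0), (nat_lit 2)))) (.node (.leaf ([(nat_lit 3), (nat_lit 1), (nat_lit 2), (nat_lit 0), (nat_lit 3), (nat_lit 0), (nat_lit 1), (nat_lit 2), (nat_lit 3), (nat_lit 4), (nat_lit 2), (nat_lit 0)], (nat_lit 0), (nat_lit 3))) (.leaf ([], (nat_lit 0), (nat_lit 0))))) (.node (.node (.leaf ([(nat_lit 1), (nat_lit 3), (nat_lit 2), (nat_lit 0), (nat_lit 1), (nat_lit 0), (nat_lit 3), (nat_lit 4), (nat_lit 1), (nat_lit 2), (nat_lit 1)], (nat_lit 0), (nat_lit 3))) (.leaf ([], (nat_lit 0), (nat_lit 0)))) (.node (.leaf ([(nat_lit 1), (nat_lit 2), (nat_lit 1),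 (nat_lit 0), (nat_lit 3), (nat_lit 1), (nat_lit 2), (nat_lit 3), (nat_lit 4), (nat_lit 3), (nat_lit 1), (nat_lit 0), (nat_lit 3)], (nat_lit 0), (nat_lit 2))) (.leaf ([], (nat_lit 0), (nat_lit 0))))))))) (.node (.node (.node (.node (.node (.node (.leaf ([(nat_lit 2)], (nat_lit 0), (nat_lit 1))) (.leaf ([(nat_lit 1), (nat_lit 2), (nat_lit 3), (nat_lit 0), (nat_lit 1), (nat_lit 2), (nat_lit 0), (nat_lit 3), (nat_lit 4), (nat_lit 1), (nat_lit 2), (nat_lit 0)], (nat_lit 0), (nat_lit 3)))) (.node (.leaf ([(nat_lit 3), (nat_lit 1), (nat_lit 0), (nat_lit 3), (nat_lit 4), (nat_lit 3), (nat_lit 0), (nat_lit 1), (nat_lit 3), (nat_lit 2), (nat_lit 0)], (nat_lit 0), (nat_lit 1))) (.leaf ([], (nat_lit 0), (nat_lit 0))))) (.node (.node (.leaf ([(nat_lit 4), (nat_lit 3), (nat_lit 1), (nat_lit 0), (nat_lit 3), (nat_lit 1), (nat_lit 2), (nat_lit 0)], (nat_lit 0), (nat_lit 3))) (.leaf ([(nat_lit 4), (nat_lit 1), (nat_lit 3), (nat_lit 0), (nat_lit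 1), (nat_lit 3), (nat_lit 2), (nat_lit 1), (nat_lit 3), (nat_lit 0), (nat_lit 1), (nat_lit 3), (nat_lit 4), (nat_lit 2), (nat_lit 0)], (nat_lit 0), (nat_lit 3)))) (.node (.leaf ([(nat_lit 3), (nat_lit 2), (nat_lit 0), (nat_lit 1), (nat_lit 3), (nat_lit 2), (nat_lit 0), (nat_lit 1), (nat_lit 3), (nat_lit 4), (nat_lit 1)], (nat_lit 0), (nat_lit 3))) (.leaf ([], (nat_lit 0), (nat_lit 0)))))) (.node (.node (.node (.leaf ([(nat_lit 3), (nat_lit 1), (nat_lit 2), (nat_lit 1), (nat_lit 0), (nat_lit 3), (nat_lit 4), (nat_lit 1), (nat_lit 2), (nat_lit 1)], (nat_lit 0), (nat_lit 3))) (.leaf ([(nat_lit 3), (nat_lit 0), (nat_lit 1), (nat_lit 3), (nat_lit 2), (nat_lit 1), (nat_lit 0), (nat_lit 3), (nat_lit 2), (nat_lit 1), (nat_lit 3), (nat_lit 4), (nat_lit 0), (nat_lit 1)], (nat_lit 0), (nat_lit 3)))) (.node (.leaf ([(nat_lit 1), (nat_lit 3), (nat_lit 0), (nat_lit 1), (nat_lit 3), (nat_lit 4), (nat_lit 2), (nat_lit 0)], (nat_lit 0), (nat_lit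 3))) (.leaf ([], (nat_lit 0), (nat_lit 0))))) (.node (.node (.leaf ([(nat_lit 1), (nat_lit 3), (nat_lit 4), (nat_lit 1), (nat_lit 0), (nat_lit 3), (nat_lit 1), (nat_lit 2), (nat_lit 3), (nat_lit 4), (nat_lit 2), (nat_lit 0), (nat_lit 3), (nat_lit 0)], (nat_lit 0), (nat_lit 1))) (.leaf ([(nat_lit 3), (nat_lit 0), (nat_lit 1), (nat_lit 2), (nat_lit 3), (nat_lit 4), (nat_lit 1), (nat_lit 3), (nat_lit 2), (nat_lit 0), (nat_lit 3), (nat_lit 4), (nat_lit 1), (nat_lit 0), (nat_lit 3), (nat_lit 1)], (nat_lit 0), (nat_lit 2)))) (.node (.leaf ([(nat_lit 4), (nat_lit 1), (nat_lit 0), (nat_lit 3), (nat_lit 2), (nat_lit 1), (nat_lit 3), (nat_lit 4), (nat_lit 0), (nat_lit 1), (nat_lit 2), (nat_lit 1), (nat_lit 0)], (nat_lit 0), (nat_lit 3))) (.leaf ([], (nat_lit 0), (nat_lit 0))))))) (.node (.node (.node (.node (.leaf ([(nat_lit 4), (nat_lit 2), (nat_lit 3), (nat_lit 1), (nat_lit 0), (nat_lit 3), (nat_lit 4), (nat_lit 1)], (nat_lit 0), (nat_lit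 3))) (.leaf ([(nat_lit 3), (nat_lit 2), (nat_lit 0), (nat_lit 3), (nat_lit 4), (nat_lit 1), (nat_lit 2), (nat_lit 3), (nat_lit 1), (nat_lit 0), (nat_lit 3)], (nat_lit 0), (nat_lit 2)))) (.node (.leaf ([(nat_lit 3), (nat_lit 4), (nat_lit 0), (nat_lit 3), (nat_lit 1), (nat_lit 2), (nat_lit 3), (nat_lit 4), (nat_lit 0), (nat_lit 3), (nat_lit 0)], (nat_lit 0), (nat_lit 1))) (.leaf ([], (nat_lit 0), (nat_lit 0))))) (.node (.node (.leaf ([(nat_lit 2), (nat_lit 1), (nat_lit 3), (nat_lit 4), (nat_lit 2), (nat_lit 3), (nat_lit 0), (nat_lit 1), (nat_lit 0), (nat_lit 3), (nat_lit 4), (nat_lit 2), (nat_lit 3), (nat_lit 1)], (nat_lit 0), (nat_lit 2))) (.leaf ([(nat_lit 4), (nat_lit 3), (nat_lit 2), (nat_lit 1), (nat_lit 3), (nat_lit 2), (nat_lit 0), (nat_lit 1), (nat_lit 3), (nat_lit 2), (nat_lit 0), (nat_lit 3), (nat_lit 4), (nat_lit 0), (nat_lit 1), (nat_lit 0)], (nat_lit 0), (nat_lit 3)))) (.node (.leaf ([(nat_lit 3), (nat_lit 1), (nat_lit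 2), (nat_lit 1), (nat_lit 0), (nat_lit 3), (nat_lit 4), (nat_lit 2), (nat_lit 1)], (nat_lit 0), (nat_lit 3))) (.leaf ([], (nat_lit 0), (nat_lit 0)))))) (.node (.node (.node (.leaf ([(nat_lit 1), (nat_lit 3), (nat_lit 0), (nat_lit 1), (nat_lit 3), (nat_lit 2), (nat_lit 0)], (nat_lit 0), (nat_lit 1))) (.leaf ([(nat_lit 1), (nat_lit 0), (nat_lit 3), (nat_lit 2), (nat_lit 1), (nat_lit 3), (nat_lit 4), (nat_lit 1), (nat_lit 3), (nat_lit 2), (nat_lit 0), (nat_lit 3)], (nat_lit 0), (nat_lit 1)))) (.node (.leaf ([(nat_lit 4), (nat_lit 1), (nat_lit 0), (nat_lit 3), (nat_lit 2), (nat_lit 1), (nat_lit 3), (nat_lit 4), (nat_lit 0), (nat_lit 1), (nat_lit 2), (nat_lit 1)], (nat_lit 0), (nat_lit 3))) (.leaf ([], (nat_lit 0), (nat_lit 0))))) (.node (.node (.leaf ([(nat_lit 1), (nat_lit 3), (nat_lit 0), (nat_lit 1), (nat_lit 2), (nat_lit 0), (nat_lit 3), (nat_lit 4), (nat_lit 3), (nat_lit 2), (nat_lit 0), (nat_lit 3)], (nat_lit 0), (nat_lit 1)))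 (.leaf ([], (nat_lit 0), (nat_lit 0)))) (.node (.leaf ([(nat_lit 2), (nat_lit 3), (nat_lit 0), (nat_lit 1), (nat_lit 2), (nat_lit 3), (nat_lit 1), (nat_lit 2), (nat_lit 0), (nat_lit 3), (nat_lit 4), (nat_lit 2)], (nat_lit 0), (nat_lit 3))) (.leaf ([], (nat_lit 0), (nat_lit 0)))))))) (.node (.node (.node (.node (.node (.leaf ([(nat_lit 4), (nat_lit 0)], (nat_lit 0), (nat_lit 3))) (.leaf ([(nat_lit 4), (nat_lit 1), (nat_lit 3), (nat_lit 2), (nat_lit 0), (nat_lit 1), (nat_lit 0), (nat_lit 3), (nat_lit 4), (nat_lit 2), (nat_lit 1), (nat_lit 0)], (nat_lit 0), (nat_lit 3)))) (.node (.leaf ([(nat_lit 4), (nat_lit 3), (nat_lit 0), (nat_lit 1), (nat_lit 3), (nat_lit 4), (nat_lit 3), (nat_lit 1), (nat_lit 0), (nat_lit 3), (nat_lit 2), (nat_lit 0)], (nat_lit 0), (nat_lit 3))) (.leaf ([], (nat_lit 0), (nat_lit 0))))) (.node (.node (.leaf ([(nat_lit 3), (nat_lit 0), (nat_lit 1), (nat_lit 2), (nat_lit 3), (nat_lit 1), (nat_lit 2), (nat_lit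 0), (nat_lit 3), (nat_lit 4)], (nat_lit 0), (nat_lit 3))) (.leaf ([(nat_lit 4), (nat_lit 1), (nat_lit 3), (nat_lit 2), (nat_lit 0), (nat_lit 3), (nat_lit 1), (nat_lit 2), (nat_lit 0), (nat_lit 1), (nat_lit 3), (nat_lit 2), (nat_lit 0), (nat_lit 3), (nat_lit 4), (nat_lit 1), (nat_lit 0)], (nat_lit 0), (nat_lit 3)))) (.node (.leaf ([(nat_lit 3), (nat_lit 1), (nat_lit 0), (nat_lit 3), (nat_lit 4), (nat_lit 0), (nat_lit 3), (nat_lit 1), (nat_lit 0), (nat_lit 3), (nat_lit 2), (nat_lit 0)], (nat_lit 0), (nat_lit 3))) (.leaf ([], (nat_lit 0), (nat_lit 0)))))) (.node (.node (.node (.leaf ([(nat_lit 3), (nat_lit 2), (nat_lit 1), (nat_lit 3), (nat_lit 0), (nat_lit 1), (nat_lit 2), (nat_lit 3), (nat_lit 1), (nat_lit 0), (nat_lit 3), (nat_lit 4), (nat_lit 2), (nat_lit 3), (nat_lit 1), (nat_lit 0), (nat_lit 3)], (nat_lit 0), (nat_lit 2))) (.leaf ([(nat_lit 1), (nat_lit 2), (nat_lit 0), (nat_lit 1), (nat_lit 3), (nat_lit 2), (nat_lit 0), (nat_lit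 3), (nat_lit 4), (nat_lit 3), (nat_lit 1), (nat_lit 0), (nat_lit 3), (nat_lit 1), (nat_lit 2), (nat_lit 0)], (nat_lit 0), (nat_lit 3)))) (.node (.leaf ([(nat_lit 3), (nat_lit 2), (nat_lit 0), (nat_lit 1), (nat_lit 3), (nat_lit 2), (nat_lit 0), (nat_lit 1), (nat_lit 3), (nat_lit 4), (nat_lit 0), (nat_lit 3), (nat_lit 1), (nat_lit 0), (nat_lit 3)], (nat_lit 0), (nat_lit 2))) (.leaf ([], (nat_lit 0), (nat_lit 0))))) (.node (.node (.leaf ([(nat_lit 3), (nat_lit 0), (nat_lit 1), (nat_lit 2), (nat_lit 3), (nat_lit 1), (nat_lit 2), (nat_lit 0), (nat_lit 3), (nat_lit 4), (nat_lit 0)], (nat_lit 0), (nat_lit 3))) (.leaf ([], (nat_lit 0), (nat_lit 0)))) (.node (.leaf ([(nat_lit 1), (nat_lit 0), (nat_lit 3), (nat_lit 4), (nat_lit 1), (nat_lit 3), (nat_lit 2), (nat_lit 1), (nat_lit 3), (nat_lit 4), (nat_lit 0), (nat_lit 3)], (nat_lit 0), (nat_lit 2))) (.leaf ([], (nat_lit 0), (nat_lit 0))))))) (.node (.node (.node (.node (.leaf ([(nat_lit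 4), (nat_lit 2), (nat_lit 1), (nat_lit 3), (nat_lit 0), (nat_lit 1), (nat_lit 3), (nat_lit 4), (nat_lit 0)], (nat_lit 0), (nat_lit 3))) (.leaf ([(nat_lit 2), (nat_lit 1), (nat_lit 0), (nat_lit 3), (nat_lit 4), (nat_lit 1), (nat_lit 3), (nat_lit 2), (nat_lit 1), (nat_lit 3), (nat_lit 4), (nat_lit 0), (nat_lit 3)], (nat_lit 0), (nat_lit 2)))) (.node (.leaf ([(nat_lit 4), (nat_lit 3), (nat_lit 1), (nat_lit 0), (nat_lit 3), (nat_lit 4), (nat_lit 1), (nat_lit 2)], (nat_lit 0), (nat_lit 3))) (.leaf ([], (nat_lit 0), (nat_lit 0))))) (.node (.node (.leaf ([(nat_lit 3), (nat_lit 1), (nat_lit 2), (nat_lit 0), (nat_lit 3), (nat_lit 0), (nat_lit 1), (nat_lit 2), (nat_lit 3), (nat_lit 4), (nat_lit 0)], (nat_lit 0), (nat_lit 3))) (.leaf ([(nat_lit 3), (nat_lit 4), (nat_lit 0), (nat_lit 3), (nat_lit 1), (nat_lit 2), (nat_lit 0), (nat_lit 1), (nat_lit 3), (nat_lit 4), (nat_lit 0), (nat_lit 3)], (nat_lit 0), (nat_lit 2)))) (.node (.leaf ([(nat_lit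 3), (nat_lit 2), (nat_lit 0), (nat_lit 3), (nat_lit 4), (nat_lit 0), (nat_lit 1), (nat_lit 2), (nat_lit 0), (nat_lit 1), (nat_lit 0)], (nat_lit 0), (nat_lit 3))) (.leaf ([], (nat_lit 0), (nat_lit 0)))))) (.node (.node (.node (.leaf ([(nat_lit 1), (nat_lit 3), (nat_lit 4), (nat_lit 2), (nat_lit 3), (nat_lit 0), (nat_lit 1), (nat_lit 0), (nat_lit 3), (nat_lit 4), (nat_lit 2), (nat_lit 3), (nat_lit 1)], (nat_lit 0), (nat_lit 1))) (.leaf ([(nat_lit 4), (nat_lit 3), (nat_lit 2), (nat_lit 0), (nat_lit 3), (nat_lit 4), (nat_lit 1), (nat_lit 2), (nat_lit 3), (nat_lit 1), (nat_lit 0), (nat_lit 3)], (nat_lit 0), (nat_lit 2)))) (.node (.leaf ([(nat_lit 4), (nat_lit 2), (nat_lit 3), (nat_lit 1), (nat_lit 0), (nat_lit 3), (nat_lit 1), (nat_lit 2), (nat_lit 3), (nat_lit 1), (nat_lit 0), (nat_lit 3), (nat_lit 4), (nat_lit 1), (nat_lit 0)], (nat_lit 0), (nat_lit 3))) (.leaf ([], (nat_lit 0), (nat_lit 0))))) (.node (.node (.leaf ([(nat_lit 3),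 (nat_lit 4), (nat_lit 0), (nat_lit 3), (nat_lit 1), (nat_lit 2), (nat_lit 3), (nat_lit 4), (nat_lit 0), (nat_lit 3)], (nat_lit 0), (nat_lit 3))) (.leaf ([], (nat_lit 0), (nat_lit 0)))) (.node (.leaf ([(nat_lit 1), (nat_lit 0), (nat_lit 3), (nat_lit 4), (nat_lit 1), (nat_lit 3), (nat_lit 2), (nat_lit 0), (nat_lit 1), (nat_lit 3), (nat_lit 4), (nat_lit 0), (nat_lit 3)], (nat_lit 0), (nat_lit 2))) (.leaf ([], (nat_lit 0), (nat_lit 0))))))))))
noncomputable def kGW1 : BT (List ℕ × ℕ × ℕ) := .node kGW10 kGW11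
noncomputable def kGW : BT (List ℕ × ℕ × ℕ) := .node kGW0 kGW1
noncomputable def kGV : List (List ℕ) := [[], [(nat_lit 0), (nat_lit 1)], [(nat_lit 1), (nat_lit 2), (nat_lit 0), (nat_lit 1)], [(nat_lit 0), (nat_lit 3)], [(nat_lit 3), (nat_lit 4), (nat_lit 0), (nat_lit 3)]]
inductive DT where
  | pr (q r : ℕ) (t : DT) : DT
  | sp (x : ℕ) (l r : DT) : DT
  | k1 (x : ℕ) : DT
  | k2 (x y z : ℕ) : DT
  | k3 (x y z : ℕ) : DT
noncomputable def kD : DT := (.sp (nat_lit 2) (.sp (nat_lit 4) (.sp (nat_lit 44) (.pr (nat_lit 2) (nat_lit 44) (.k3 (nat_lit 2) (nat_lit 67) (nat_lit 4))) (.pr (nat_lit 2) (nat_lit 44) (.pr (nat_lit 4) (nat_lit 67) (.pr (nat_lit 4) (nat_lit 44) (.sp (nat_lit 47) (.pr (nat_lit 47) (nat_lit 53) (.sp (nat_lit 61) (.pr (nat_lit 61) (nat_lit 47) (.k3 (nat_lit 4) (nat_lit 289) (nat_lit 47))) (.pr (nat_lit 4) (nat_lit 61) (.pr (nat_lit 47) (nat_lit 84) (.sp (nat_lit 237) (.pr (nat_lit 2) (nat_lit 237) (.sp (nat_lit 88)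 (.pr (nat_lit 4) (nat_lit 88) (.pr (nat_lit 88) (nat_lit 47) (.k3 (nat_lit 64) (nat_lit 4) (nat_lit 319)))) (.pr (nat_lit 4) (nat_lit 88) (.pr (nat_lit 47) (nat_lit 64) (.sp (nat_lit 264) (.pr (nat_lit 2) (nat_lit 264) (.pr (nat_lit 292) (nat_lit 310) (.k3 (nat_lit 2) (nat_lit 292) (nat_lit 349)))) (.sp (nat_lit 323) (.pr (nat_lit 323) (nat_lit 237) (.k3 (nat_lit 2) (nat_lit 323) (nat_lit 204))) (.k2 (nat_lit 44) (nat_lit 88) (nat_lit 72)))))))) (.sp (nat_lit 328) (.pr (nat_lit 328) (nat_lit 2) (.sp (nat_lit 87) (.k3 (nat_lit 2) (nat_lit 87) (nat_lit 4)) (.pr (nat_lit 320) (nat_lit 87) (.pr (nat_lit 2) (nat_lit 87) (.pr (nat_lit 4) (nat_lit 87) (.pr (nat_lit 4) (nat_lit 300) (.sp (nat_lit 153) (.pr (nat_lit 320) (nat_lit 153) (.pr (nat_lit 2) (nat_lit 239) (.pr (nat_lit 47) (nat_lit 287) (.k3 (nat_lit 256) (nat_lit 2) (nat_lit 320))))) (.pr (nat_lit 320) (nat_lit 153) (.pr (nat_lit 2) (nat_lit 239) (.pr (nat_lit 47) (nat_lit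 287) (.sp (nat_lit 356) (.pr (nat_lit 356) (nat_lit 47) (.sp (nat_lit 315) (.pr (nat_lit 4) (nat_lit 315) (.sp (nat_lit 64) (.pr (nat_lit 64) (nat_lit 175) (.pr (nat_lit 4) (nat_lit 267) (.k3 (nat_lit 64) (nat_lit 4) (nat_lit 312)))) (.sp (nat_lit 109) (.pr (nat_lit 2) (nat_lit 109) (.pr (nat_lit 4) (nat_lit 162) (.pr (nat_lit 272) (nat_lit 170) (.k3 (nat_lit 320) (nat_lit 2) (nat_lit 323))))) (.sp (nat_lit 173) (.pr (nat_lit 356) (nat_lit 173) (.k3 (nat_lit 320) (nat_lit 204) (nat_lit 356))) (.k2 (nat_lit 44) (nat_lit 109) (nat_lit 64)))))) (.k2 (nat_lit 44) (nat_lit 120) (nat_lit 84)))) (.k2 (nat_lit 44) (nat_lit 120) (nat_lit 76))))))))))))) (.k2 (nat_lit 44) (nat_lit 61) (nat_lit 72)))))))) (.sp (nat_lit 81) (.pr (nat_lit 81) (nat_lit 4) (.pr (nat_lit 2) (nat_lit 72) (.k3 (nat_lit 2) (nat_lit 102) (nat_lit 4)))) (.pr (nat_lit 2) (nat_lit 81) (.pr (nat_lit 4) (nat_lit 81) (.pr (nat_lit 4) (nat_lit 116) (.sp (nat_lit 351) (.sp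 (nat_lit 64) (.sp (nat_lit 84) (.pr (nat_lit 4) (nat_lit 84) (.k3 (nat_lit 61) (nat_lit 4) (nat_lit 64))) (.pr (nat_lit 4) (nat_lit 84) (.sp (nat_lit 324) (.pr (nat_lit 4) (nat_lit 324) (.k3 (nat_lit 64) (nat_lit 289) (nat_lit 324))) (.sp (nat_lit 328) (.pr (nat_lit 2) (nat_lit 328) (.k3 (nat_lit 2) (nat_lit 320) (nat_lit 351))) (.pr (nat_lit 2) (nat_lit 328) (.pr (nat_lit 351) (nat_lit 320) (.k2 (nat_lit 44) (nat_lit 61) (nat_lit 72)))))))) (.sp (nat_lit 279) (.pr (nat_lit 4) (nat_lit 279) (.sp (nat_lit 84) (.pr (nat_lit 319) (nat_lit 84) (.k3 (nat_lit 4) (nat_lit 319) (nat_lit 204))) (.pr (nat_lit 4) (nat_lit 84) (.sp (nat_lit 324) (.pr (nat_lit 4) (nat_lit 324) (.pr (nat_lit 319) (nat_lit 289) (.k3 (nat_lit 4) (nat_lit 289) (nat_lit 349)))) (.sp (nat_lit 328) (.pr (nat_lit 2) (nat_lit 328) (.k3 (nat_lit 2) (nat_lit 320) (nat_lit 351))) (.pr (nat_lit 2) (nat_lit 328) (.pr (nat_lit 351) (nat_lit 320) (.k2 (nat_lit 44) (nat_lit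 61) (nat_lit 72))))))))) (.sp (nat_lit 323) (.k3 (nat_lit 2) (nat_lit 323) (nat_lit 351)) (.k2 (nat_lit 44) (nat_lit 47) (nat_lit 64))))) (.k2 (nat_lit 44) (nat_lit 47) (nat_lit 76)))))))))))) (.sp (nat_lit 44) (.pr (nat_lit 2) (nat_lit 44) (.pr (nat_lit 44) (nat_lit 4) (.pr (nat_lit 2) (nat_lit 53) (.sp (nat_lit 47) (.k3 (nat_lit 2) (nat_lit 67) (nat_lit 47)) (.pr (nat_lit 67) (nat_lit 47) (.pr (nat_lit 44) (nat_lit 47) (.sp (nat_lit 61) (.k3 (nat_lit 2) (nat_lit 67) (nat_lit 61)) (.pr (nat_lit 44) (nat_lit 61) (.sp (nat_lit 84) (.pr (nat_lit 84) (nat_lit 47) (.sp (nat_lit 72) (.pr (nat_lit 67) (nat_lit 72) (.k3 (nat_lit 2) (nat_lit 67) (nat_lit 351))) (.pr (nat_lit 2) (nat_lit 72) (.pr (nat_lit 67) (nat_lit 72) (.sp (nat_lit 289) (.sp (nat_lit 125) (.pr (nat_lit 2) (nat_lit 125) (.k3 (nat_lit 2) (nat_lit 87) (nat_lit 289))) (.pr (nat_lit 2) (nat_lit 125) (.sp (nat_lit 175) (.pr (nat_lit 84) (nat_lit 175) (.pr (nat_lit 175)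 (nat_lit 351) (.pr (nat_lit 175) (nat_lit 102) (.pr (nat_lit 84) (nat_lit 153) (.sp (nat_lit 272) (.pr (nat_lit 289) (nat_lit 272) (.sp (nat_lit 162) (.pr (nat_lit 67) (nat_lit 162) (.pr (nat_lit 300) (nat_lit 173) (.pr (nat_lit 175) (nat_lit 88) (.k3 (nat_lit 2) (nat_lit 67) (nat_lit 312))))) (.pr (nat_lit 67) (nat_lit 162) (.pr (nat_lit 300) (nat_lit 173) (.sp (nat_lit 170) (.pr (nat_lit 289) (nat_lit 170) (.pr (nat_lit 359) (nat_lit 282) (.k3 (nat_lit 289) (nat_lit 359) (nat_lit 323)))) (.pr (nat_lit 289) (nat_lit 170) (.pr (nat_lit 2) (nat_lit 282) (.pr (nat_lit 67) (nat_lit 245) (.pr (nat_lit 359) (nat_lit 242) (.sp (nat_lit 204) (.pr (nat_lit 289) (nat_lit 204) (.pr (nat_lit 359) (nat_lit 204) (.pr (nat_lit 175) (nat_lit 261) (.k3 (nat_lit 64) (nat_lit 261) (nat_lit 352))))) (.pr (nat_lit 289) (nat_lit 204) (.pr (nat_lit 84) (nat_lit 204) (.k2 (nat_lit 4) (nat_lit 64) (nat_lit 47)))))))))))))) (.k2 (nat_lit 4) (nat_lit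 87) (nat_lit 237))))))) (.sp (nat_lit 176) (.pr (nat_lit 176) (nat_lit 84) (.pr (nat_lit 2) (nat_lit 301) (.k3 (nat_lit 2) (nat_lit 256) (nat_lit 84)))) (.k2 (nat_lit 4) (nat_lit 72) (nat_lit 175)))))) (.k2 (nat_lit 4) (nat_lit 72) (nat_lit 237))))))) (.sp (nat_lit 289) (.pr (nat_lit 289) (nat_lit 76) (.sp (nat_lit 102) (.pr (nat_lit 2) (nat_lit 102) (.pr (nat_lit 67) (nat_lit 72) (.k3 (nat_lit 2) (nat_lit 67) (nat_lit 351)))) (.k2 (nat_lit 4) (nat_lit 61) (nat_lit 320)))) (.sp (nat_lit 324) (.pr (nat_lit 67) (nat_lit 324) (.k3 (nat_lit 2) (nat_lit 320) (nat_lit 324))) (.k2 (nat_lit 4) (nat_lit 61) (nat_lit 47))))))))))))) (.pr (nat_lit 2) (nat_lit 44) (.sp (nat_lit 47) (.pr (nat_lit 47) (nat_lit 67) (.sp (nat_lit 53) (.pr (nat_lit 2) (nat_lit 53) (.pr (nat_lit 47) (nat_lit 76) (.k3 (nat_lit 2) (nat_lit 102) (nat_lit 47)))) (.pr (nat_lit 2) (nat_lit 53) (.pr (nat_lit 47) (nat_lit 76) (.sp (nat_lit 351) (.sp (nat_lit 87) (.pr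 (nat_lit 2) (nat_lit 87) (.sp (nat_lit 109) (.pr (nat_lit 2) (nat_lit 109) (.pr (nat_lit 109) (nat_lit 125) (.k3 (nat_lit 2) (nat_lit 162) (nat_lit 204)))) (.sp (nat_lit 114) (.pr (nat_lit 114) (nat_lit 87) (.k3 (nat_lit 2) (nat_lit 114) (nat_lit 352))) (.sp (nat_lit 173) (.pr (nat_lit 173) (nat_lit 351) (.pr (nat_lit 173) (nat_lit 47) (.pr (nat_lit 351) (nat_lit 358) (.k3 (nat_lit 261) (nat_lit 344) (nat_lit 358))))) (.k2 (nat_lit 4) (nat_lit 44) (nat_lit 173)))))) (.sp (nat_lit 120) (.pr (nat_lit 120) (nat_lit 2) (.sp (nat_lit 109) (.pr (nat_lit 120) (nat_lit 109) (.k3 (nat_lit 2) (nat_lit 176) (nat_lit 352))) (.sp (nat_lit 114) (.pr (nat_lit 176) (nat_lit 114) (.k3 (nat_lit 2) (nat_lit 176) (nat_lit 204))) (.sp (nat_lit 173) (.pr (nat_lit 351) (nat_lit 173) (.pr (nat_lit 173) (nat_lit 47) (.pr (nat_lit 47) (nat_lit 261) (.k3 (nat_lit 261) (nat_lit 344) (nat_lit 358))))) (.k2 (nat_lit 4) (nat_lit 44) (nat_lit 173)))))) (.sp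 (nat_lit 153) (.pr (nat_lit 153) (nat_lit 351) (.pr (nat_lit 153) (nat_lit 47) (.pr (nat_lit 351) (nat_lit 359) (.k3 (nat_lit 175) (nat_lit 356) (nat_lit 359))))) (.k2 (nat_lit 4) (nat_lit 44) (nat_lit 153))))) (.k2 (nat_lit 4) (nat_lit 44) (nat_lit 351))))))) (.sp (nat_lit 53) (.pr (nat_lit 2) (nat_lit 53) (.pr (nat_lit 53) (nat_lit 47) (.pr (nat_lit 2) (nat_lit 72) (.sp (nat_lit 61) (.pr (nat_lit 61) (nat_lit 44) (.pr (nat_lit 61) (nat_lit 47) (.sp (nat_lit 81) (.pr (nat_lit 81) (nat_lit 76) (.k3 (nat_lit 2) (nat_lit 81) (nat_lit 351))) (.sp (nat_lit 324) (.sp (nat_lit 125) (.pr (nat_lit 2) (nat_lit 125) (.pr (nat_lit 125) (nat_lit 61) (.pr (nat_lit 76) (nat_lit 301) (.pr (nat_lit 61) (nat_lit 87) (.k3 (nat_lit 2) (nat_lit 256) (nat_lit 272)))))) (.pr (nat_lit 2) (nat_lit 125) (.pr (nat_lit 53) (nat_lit 87) (.pr (nat_lit 61) (nat_lit 153) (.sp (nat_lit 175) (.pr (nat_lit 61) (nat_lit 175) (.pr (nat_lit 175) (nat_lit 102) (.sp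 (nat_lit 315) (.pr (nat_lit 324) (nat_lit 315) (.sp (nat_lit 162) (.k3 (nat_lit 2) (nat_lit 162) (nat_lit 324)) (.pr (nat_lit 2) (nat_lit 162) (.pr (nat_lit 324) (nat_lit 109) (.pr (nat_lit 359) (nat_lit 245) (.pr (nat_lit 76) (nat_lit 314) (.sp (nat_lit 170) (.pr (nat_lit 170) (nat_lit 255) (.pr (nat_lit 76) (nat_lit 310) (.k3 (nat_lit 64) (nat_lit 76) (nat_lit 170)))) (.pr (nat_lit 76) (nat_lit 170) (.pr (nat_lit 255) (nat_lit 173) (.sp (nat_lit 204) (.pr (nat_lit 324) (nat_lit 204) (.pr (nat_lit 359) (nat_lit 204) (.pr (nat_lit 175) (nat_lit 261) (.pr (nat_lit 175) (nat_lit 88) (.k3 (nat_lit 312) (nat_lit 352) (nat_lit 359)))))) (.pr (nat_lit 324) (nat_lit 204) (.pr (nat_lit 61) (nat_lit 204) (.k2 (nat_lit 4) (nat_lit 64) (nat_lit 47)))))))))))))) (.k2 (nat_lit 4) (nat_lit 87) (nat_lit 237))))) (.sp (nat_lit 176) (.pr (nat_lit 176) (nat_lit 324) (.pr (nat_lit 2) (nat_lit 239) (.k3 (nat_lit 2) (nat_lit 287) (nat_lit 324))))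 (.k2 (nat_lit 4) (nat_lit 72) (nat_lit 175)))))))) (.k2 (nat_lit 4) (nat_lit 72) (nat_lit 237)))))) (.sp (nat_lit 84) (.pr (nat_lit 76) (nat_lit 84) (.k3 (nat_lit 2) (nat_lit 292) (nat_lit 84))) (.sp (nat_lit 289) (.pr (nat_lit 289) (nat_lit 76) (.k3 (nat_lit 2) (nat_lit 320) (nat_lit 289))) (.pr (nat_lit 76) (nat_lit 289) (.sp (nat_lit 116) (.pr (nat_lit 2) (nat_lit 116) (.pr (nat_lit 53) (nat_lit 116) (.k3 (nat_lit 2) (nat_lit 81) (nat_lit 351)))) (.k2 (nat_lit 4) (nat_lit 61) (nat_lit 320)))))))))) (.sp (nat_lit 72) (.pr (nat_lit 72) (nat_lit 2) (.sp (nat_lit 87) (.pr (nat_lit 72) (nat_lit 87) (.k3 (nat_lit 2) (nat_lit 102) (nat_lit 359))) (.pr (nat_lit 2) (nat_lit 87) (.sp (nat_lit 120) (.pr (nat_lit 120) (nat_lit 102) (.k3 (nat_lit 2) (nat_lit 102) (nat_lit 175))) (.pr (nat_lit 2) (nat_lit 120) (.sp (nat_lit 153) (.sp (nat_lit 356) (.sp (nat_lit 109) (.pr (nat_lit 2) (nat_lit 109) (.pr (nat_lit 102) (nat_lit 109) (.k3 (nat_lit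 2) (nat_lit 162) (nat_lit 261)))) (.sp (nat_lit 114) (.pr (nat_lit 114) (nat_lit 72) (.k3 (nat_lit 2) (nat_lit 114) (nat_lit 358))) (.sp (nat_lit 173) (.pr (nat_lit 356) (nat_lit 173) (.pr (nat_lit 153) (nat_lit 204) (.pr (nat_lit 153) (nat_lit 173) (.k3 (nat_lit 204) (nat_lit 344) (nat_lit 352))))) (.k2 (nat_lit 4) (nat_lit 44) (nat_lit 173))))) (.k2 (nat_lit 4) (nat_lit 44) (nat_lit 356))) (.k2 (nat_lit 4) (nat_lit 44) (nat_lit 153)))))))) (.sp (nat_lit 81) (.pr (nat_lit 81) (nat_lit 2) (.sp (nat_lit 87) (.pr (nat_lit 116) (nat_lit 87) (.k3 (nat_lit 2) (nat_lit 81) (nat_lit 175))) (.pr (nat_lit 2) (nat_lit 87) (.sp (nat_lit 120) (.pr (nat_lit 120) (nat_lit 81) (.pr (nat_lit 120) (nat_lit 2) (.k3 (nat_lit 2) (nat_lit 176) (nat_lit 359)))) (.pr (nat_lit 2) (nat_lit 120) (.sp (nat_lit 153) (.sp (nat_lit 356) (.sp (nat_lit 109) (.pr (nat_lit 2) (nat_lit 109) (.k3 (nat_lit 81) (nat_lit 2) (nat_lit 162))) (.sp (nat_lit 114) (.k3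 (nat_lit 81) (nat_lit 2) (nat_lit 114)) (.sp (nat_lit 173) (.pr (nat_lit 356) (nat_lit 173) (.pr (nat_lit 153) (nat_lit 204) (.pr (nat_lit 153) (nat_lit 173) (.k3 (nat_lit 204) (nat_lit 344) (nat_lit 352))))) (.k2 (nat_lit 4) (nat_lit 44) (nat_lit 173))))) (.k2 (nat_lit 4) (nat_lit 44) (nat_lit 356))) (.k2 (nat_lit 4) (nat_lit 44) (nat_lit 153)))))))) (.k2 (nat_lit 4) (nat_lit 44) (nat_lit 47))))))))) (.sp (nat_lit 4) (.sp (nat_lit 44) (.pr (nat_lit 4) (nat_lit 44) (.sp (nat_lit 47) (.pr (nat_lit 53) (nat_lit 47) (.k3 (nat_lit 4) (nat_lit 72) (nat_lit 47))) (.pr (nat_lit 53) (nat_lit 47) (.pr (nat_lit 44) (nat_lit 47) (.sp (nat_lit 239) (.pr (nat_lit 53) (nat_lit 239) (.k3 (nat_lit 4) (nat_lit 300) (nat_lit 239))) (.pr (nat_lit 44) (nat_lit 239) (.sp (nat_lit 256) (.k3 (nat_lit 4) (nat_lit 44) (nat_lit 256)) (.pr (nat_lit 53) (nat_lit 256) (.sp (nat_lit 287) (.sp (nat_lit 116) (.pr (nat_lit 53) (nat_lit 116) (.k3 (nat_lit 4)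 (nat_lit 53) (nat_lit 351))) (.pr (nat_lit 4) (nat_lit 116) (.sp (nat_lit 301) (.sp (nat_lit 61) (.pr (nat_lit 61) (nat_lit 301) (.pr (nat_lit 4) (nat_lit 125) (.pr (nat_lit 53) (nat_lit 176) (.k3 (nat_lit 4) (nat_lit 44) (nat_lit 356))))) (.pr (nat_lit 4) (nat_lit 61) (.pr (nat_lit 301) (nat_lit 84) (.sp (nat_lit 320) (.pr (nat_lit 320) (nat_lit 301) (.pr (nat_lit 320) (nat_lit 255) (.sp (nat_lit 175) (.sp (nat_lit 64) (.pr (nat_lit 64) (nat_lit 175) (.pr (nat_lit 4) (nat_lit 267) (.k3 (nat_lit 64) (nat_lit 4) (nat_lit 312)))) (.pr (nat_lit 4) (nat_lit 64) (.pr (nat_lit 44) (nat_lit 88) (.pr (nat_lit 175) (nat_lit 264) (.sp (nat_lit 114) (.pr (nat_lit 320) (nat_lit 114) (.pr (nat_lit 4) (nat_lit 294) (.pr (nat_lit 359) (nat_lit 242) (.pr (nat_lit 44) (nat_lit 279) (.k3 (nat_lit 320) (nat_lit 359) (nat_lit 323)))))) (.pr (nat_lit 320) (nat_lit 114) (.pr (nat_lit 4) (nat_lit 294) (.pr (nat_lit 44) (nat_lit 242) (.sp (nat_lit 251)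 (.pr (nat_lit 320) (nat_lit 251) (.pr (nat_lit 359) (nat_lit 358) (.k3 (nat_lit 320) (nat_lit 358) (nat_lit 352)))) (.pr (nat_lit 320) (nat_lit 251) (.pr (nat_lit 359) (nat_lit 358) (.pr (nat_lit 287) (nat_lit 352) (.k2 (nat_lit 2) (nat_lit 245) (nat_lit 47)))))))))))))) (.k2 (nat_lit 2) (nat_lit 72) (nat_lit 175))))) (.sp (nat_lit 328) (.pr (nat_lit 328) (nat_lit 44) (.k3 (nat_lit 4) (nat_lit 324) (nat_lit 328))) (.k2 (nat_lit 2) (nat_lit 72) (nat_lit 61))))))) (.k2 (nat_lit 2) (nat_lit 81) (nat_lit 255))))) (.sp (nat_lit 102) (.pr (nat_lit 4) (nat_lit 102) (.pr (nat_lit 53) (nat_lit 116) (.k3 (nat_lit 4) (nat_lit 53) (nat_lit 351)))) (.k2 (nat_lit 2) (nat_lit 72) (nat_lit 272)))))))))))) (.pr (nat_lit 4) (nat_lit 44) (.sp (nat_lit 47) (.pr (nat_lit 47) (nat_lit 53) (.sp (nat_lit 67) (.pr (nat_lit 67) (nat_lit 47) (.pr (nat_lit 4) (nat_lit 116) (.k3 (nat_lit 67) (nat_lit 4) (nat_lit 102)))) (.pr (nat_lit 4) (nat_lit 67) (.pr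 (nat_lit 47) (nat_lit 76) (.sp (nat_lit 351) (.sp (nat_lit 61) (.pr (nat_lit 61) (nat_lit 47) (.k3 (nat_lit 4) (nat_lit 289) (nat_lit 47))) (.sp (nat_lit 237) (.pr (nat_lit 237) (nat_lit 351) (.sp (nat_lit 64) (.pr (nat_lit 64) (nat_lit 47) (.pr (nat_lit 4) (nat_lit 279) (.k3 (nat_lit 64) (nat_lit 4) (nat_lit 319)))) (.sp (nat_lit 264) (.k3 (nat_lit 264) (nat_lit 351) (nat_lit 320)) (.sp (nat_lit 310) (.pr (nat_lit 351) (nat_lit 310) (.k3 (nat_lit 320) (nat_lit 351) (nat_lit 323))) (.k2 (nat_lit 2) (nat_lit 53) (nat_lit 64)))))) (.sp (nat_lit 292) (.sp (nat_lit 64) (.pr (nat_lit 64) (nat_lit 47) (.pr (nat_lit 4) (nat_lit 279) (.k3 (nat_lit 64) (nat_lit 4) (nat_lit 319)))) (.sp (nat_lit 264) (.k3 (nat_lit 264) (nat_lit 351) (nat_lit 292)) (.sp (nat_lit 310) (.pr (nat_lit 351) (nat_lit 310) (.k3 (nat_lit 292) (nat_lit 351) (nat_lit 323))) (.k2 (nat_lit 2) (nat_lit 53) (nat_lit 64))))) (.k2 (nat_lit 2) (nat_lit 44) (nat_lit 61)))))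 (.k2 (nat_lit 2) (nat_lit 44) (nat_lit 351))))))) (.sp (nat_lit 67) (.pr (nat_lit 67) (nat_lit 4) (.pr (nat_lit 67) (nat_lit 47) (.pr (nat_lit 4) (nat_lit 116) (.sp (nat_lit 239) (.pr (nat_lit 239) (nat_lit 44) (.pr (nat_lit 239) (nat_lit 47) (.sp (nat_lit 81) (.k3 (nat_lit 67) (nat_lit 4) (nat_lit 81)) (.pr (nat_lit 4) (nat_lit 81) (.sp (nat_lit 256) (.sp (nat_lit 61) (.pr (nat_lit 256) (nat_lit 61) (.k3 (nat_lit 67) (nat_lit 87) (nat_lit 256))) (.pr (nat_lit 256) (nat_lit 61) (.pr (nat_lit 4) (nat_lit 87) (.sp (nat_lit 320) (.pr (nat_lit 320) (nat_lit 76) (.k3 (nat_lit 67) (nat_lit 320) (nat_lit 289))) (.pr (nat_lit 67) (nat_lit 320) (.pr (nat_lit 239) (nat_lit 324) (.sp (nat_lit 328) (.pr (nat_lit 256) (nat_lit 328) (.sp (nat_lit 175) (.sp (nat_lit 64) (.pr (nat_lit 64) (nat_lit 175) (.pr (nat_lit 4) (nat_lit 267) (.k3 (nat_lit 64) (nat_lit 4) (nat_lit 312)))) (.pr (nat_lit 76) (nat_lit 64) (.pr (nat_lit 175) (nat_lit 310)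 (.sp (nat_lit 170) (.pr (nat_lit 256) (nat_lit 170) (.pr (nat_lit 359) (nat_lit 319) (.k3 (nat_lit 256) (nat_lit 359) (nat_lit 294)))) (.pr (nat_lit 256) (nat_lit 170) (.pr (nat_lit 359) (nat_lit 319) (.pr (nat_lit 76) (nat_lit 294) (.sp (nat_lit 281) (.pr (nat_lit 256) (nat_lit 281) (.pr (nat_lit 359) (nat_lit 352) (.k3 (nat_lit 256) (nat_lit 352) (nat_lit 358)))) (.pr (nat_lit 256) (nat_lit 281) (.pr (nat_lit 239) (nat_lit 352) (.k2 (nat_lit 2) (nat_lit 245) (nat_lit 47)))))))))))) (.k2 (nat_lit 2) (nat_lit 72) (nat_lit 175)))) (.k2 (nat_lit 2) (nat_lit 72) (nat_lit 61))))))))) (.k2 (nat_lit 2) (nat_lit 81) (nat_lit 255))))))) (.sp (nat_lit 256) (.pr (nat_lit 256) (nat_lit 53) (.pr (nat_lit 256) (nat_lit 47) (.sp (nat_lit 72) (.pr (nat_lit 4) (nat_lit 72) (.k3 (nat_lit 67) (nat_lit 4) (nat_lit 81))) (.k2 (nat_lit 2) (nat_lit 72) (nat_lit 272))))) (.sp (nat_lit 287) (.pr (nat_lit 67) (nat_lit 287) (.pr (nat_lit 4) (nat_lit 255)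 (.k3 (nat_lit 67) (nat_lit 4) (nat_lit 300)))) (.sp (nat_lit 301) (.pr (nat_lit 67) (nat_lit 301) (.pr (nat_lit 4) (nat_lit 315) (.k3 (nat_lit 67) (nat_lit 4) (nat_lit 272)))) (.k2 (nat_lit 2) (nat_lit 239) (nat_lit 47))))))))) (.pr (nat_lit 4) (nat_lit 67) (.sp (nat_lit 81) (.pr (nat_lit 81) (nat_lit 4) (.sp (nat_lit 61) (.pr (nat_lit 72) (nat_lit 61) (.k3 (nat_lit 4) (nat_lit 72) (nat_lit 328))) (.pr (nat_lit 72) (nat_lit 61) (.sp (nat_lit 237) (.pr (nat_lit 81) (nat_lit 237) (.k3 (nat_lit 4) (nat_lit 289) (nat_lit 237))) (.pr (nat_lit 81) (nat_lit 237) (.sp (nat_lit 292) (.sp (nat_lit 320) (.sp (nat_lit 64) (.pr (nat_lit 64) (nat_lit 4) (.k3 (nat_lit 81) (nat_lit 64) (nat_lit 88))) (.sp (nat_lit 264) (.pr (nat_lit 264) (nat_lit 72) (.k3 (nat_lit 81) (nat_lit 264) (nat_lit 279))) (.sp (nat_lit 310) (.pr (nat_lit 320) (nat_lit 310) (.pr (nat_lit 292) (nat_lit 310) (.k3 (nat_lit 204) (nat_lit 320) (nat_lit 349)))) (.k2 (nat_lit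 2) (nat_lit 53) (nat_lit 64))))) (.k2 (nat_lit 2) (nat_lit 53) (nat_lit 289))) (.k2 (nat_lit 2) (nat_lit 44) (nat_lit 61)))))))) (.sp (nat_lit 116) (.pr (nat_lit 116) (nat_lit 4) (.sp (nat_lit 61) (.pr (nat_lit 61) (nat_lit 102) (.k3 (nat_lit 4) (nat_lit 102) (nat_lit 320))) (.pr (nat_lit 102) (nat_lit 61) (.sp (nat_lit 237) (.pr (nat_lit 237) (nat_lit 81) (.sp (nat_lit 328) (.sp (nat_lit 64) (.k3 (nat_lit 64) (nat_lit 116) (nat_lit 102)) (.sp (nat_lit 264) (.pr (nat_lit 264) (nat_lit 237) (.pr (nat_lit 328) (nat_lit 349) (.k3 (nat_lit 264) (nat_lit 328) (nat_lit 323)))) (.sp (nat_lit 310) (.pr (nat_lit 116) (nat_lit 310) (.pr (nat_lit 4) (nat_lit 319) (.k3 (nat_lit 116) (nat_lit 4) (nat_lit 279)))) (.k2 (nat_lit 2) (nat_lit 53) (nat_lit 64))))) (.k2 (nat_lit 2) (nat_lit 53) (nat_lit 289)))) (.sp (nat_lit 292) (.pr (nat_lit 116) (nat_lit 292) (.k3 (nat_lit 4) (nat_lit 289) (nat_lit 292))) (.k2 (nat_lit 2) (nat_lit 44) (nat_lit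 61))))))) (.k2 (nat_lit 2) (nat_lit 44) (nat_lit 47))))))))) (.sp (nat_lit 44) (.pr (nat_lit 44) (nat_lit 2) (.pr (nat_lit 44) (nat_lit 4) (.sp (nat_lit 72) (.pr (nat_lit 72) (nat_lit 67) (.pr (nat_lit 72) (nat_lit 4) (.pr (nat_lit 72) (nat_lit 53) (.sp (nat_lit 76) (.sp (nat_lit 87) (.pr (nat_lit 72) (nat_lit 87) (.sp (nat_lit 109) (.pr (nat_lit 109) (nat_lit 76) (.k3 (nat_lit 44) (nat_lit 344) (nat_lit 76))) (.pr (nat_lit 44) (nat_lit 109) (.pr (nat_lit 76) (nat_lit 173) (.sp (nat_lit 114) (.pr (nat_lit 114) (nat_lit 87) (.k3 (nat_lit 114) (nat_lit 352) (nat_lit 359))) (.sp (nat_lit 162) (.pr (nat_lit 162) (nat_lit 87) (.k3 (nat_lit 162) (nat_lit 204) (nat_lit 359))) (.k2 (nat_lit 2) (nat_lit 109) (nat_lit 4)))))))) (.pr (nat_lit 72) (nat_lit 87) (.sp (nat_lit 120) (.pr (nat_lit 120) (nat_lit 76) (.k3 (nat_lit 44) (nat_lit 356) (nat_lit 76))) (.pr (nat_lit 44) (nat_lit 120) (.pr (nat_lit 76) (nat_lit 153) (.sp (nat_lit 176)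 (.pr (nat_lit 72) (nat_lit 176) (.pr (nat_lit 176) (nat_lit 359) (.sp (nat_lit 61) (.pr (nat_lit 175) (nat_lit 61) (.pr (nat_lit 72) (nat_lit 61) (.pr (nat_lit 44) (nat_lit 255) (.pr (nat_lit 44) (nat_lit 328) (.k3 (nat_lit 72) (nat_lit 324) (nat_lit 239)))))) (.pr (nat_lit 175) (nat_lit 61) (.pr (nat_lit 72) (nat_lit 61) (.pr (nat_lit 44) (nat_lit 255) (.sp (nat_lit 256) (.pr (nat_lit 256) (nat_lit 120) (.sp (nat_lit 320) (.pr (nat_lit 320) (nat_lit 76) (.sp (nat_lit 64) (.pr (nat_lit 64) (nat_lit 176) (.pr (nat_lit 76) (nat_lit 245) (.k3 (nat_lit 289) (nat_lit 320) (nat_lit 294)))) (.pr (nat_lit 289) (nat_lit 64) (.pr (nat_lit 176) (nat_lit 204) (.sp (nat_lit 281) (.pr (nat_lit 256) (nat_lit 281) (.pr (nat_lit 44) (nat_lit 281) (.pr (nat_lit 176) (nat_lit 352) (.pr (nat_lit 176) (nat_lit 312) (.k3 (nat_lit 256) (nat_lit 162) (nat_lit 323)))))) (.pr (nat_lit 256) (nat_lit 281) (.pr (nat_lit 176) (nat_lit 352) (.sp (nat_lit 282)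 (.pr (nat_lit 320) (nat_lit 282) (.k3 (nat_lit 256) (nat_lit 173) (nat_lit 320))) (.pr (nat_lit 320) (nat_lit 282) (.pr (nat_lit 289) (nat_lit 282) (.pr (nat_lit 44) (nat_lit 173) (.k2 (nat_lit 2) (nat_lit 109) (nat_lit 4))))))))))))) (.k2 (nat_lit 2) (nat_lit 81) (nat_lit 84)))) (.sp (nat_lit 301) (.pr (nat_lit 301) (nat_lit 76) (.k3 (nat_lit 72) (nat_lit 272) (nat_lit 76))) (.pr (nat_lit 176) (nat_lit 301) (.pr (nat_lit 175) (nat_lit 84) (.pr (nat_lit 76) (nat_lit 300) (.k2 (nat_lit 2) (nat_lit 239) (nat_lit 47))))))))))))) (.k2 (nat_lit 2) (nat_lit 87) (nat_lit 4)))))))) (.sp (nat_lit 116) (.sp (nat_lit 64) (.sp (nat_lit 84) (.pr (nat_lit 116) (nat_lit 84) (.k3 (nat_lit 64) (nat_lit 116) (nat_lit 320))) (.sp (nat_lit 237) (.pr (nat_lit 72) (nat_lit 237) (.k3 (nat_lit 44) (nat_lit 324) (nat_lit 72))) (.sp (nat_lit 292) (.pr (nat_lit 116) (nat_lit 292) (.k3 (nat_lit 64) (nat_lit 289) (nat_lit 292))) (.k2 (nat_lit 2) (nat_lit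 53) (nat_lit 84))))) (.sp (nat_lit 264) (.pr (nat_lit 72) (nat_lit 264) (.pr (nat_lit 44) (nat_lit 279) (.k3 (nat_lit 264) (nat_lit 72) (nat_lit 323)))) (.sp (nat_lit 310) (.pr (nat_lit 116) (nat_lit 310) (.sp (nat_lit 84) (.pr (nat_lit 116) (nat_lit 84) (.pr (nat_lit 84) (nat_lit 319) (.k3 (nat_lit 116) (nat_lit 320) (nat_lit 204)))) (.sp (nat_lit 237) (.pr (nat_lit 72) (nat_lit 237) (.k3 (nat_lit 44) (nat_lit 324) (nat_lit 72))) (.sp (nat_lit 292) (.pr (nat_lit 116) (nat_lit 292) (.k3 (nat_lit 289) (nat_lit 116) (nat_lit 310))) (.k2 (nat_lit 2) (nat_lit 53) (nat_lit 84)))))) (.k2 (nat_lit 2) (nat_lit 53) (nat_lit 64))))) (.k2 (nat_lit 2) (nat_lit 53) (nat_lit 351))))))) (.sp (nat_lit 81) (.pr (nat_lit 81) (nat_lit 44) (.pr (nat_lit 81) (nat_lit 2) (.sp (nat_lit 87) (.pr (nat_lit 87) (nat_lit 4) (.pr (nat_lit 87) (nat_lit 116) (.sp (nat_lit 102) (.pr (nat_lit 102) (nat_lit 44) (.k3 (nat_lit 81) (nat_lit 351) (nat_lit 102)))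 (.pr (nat_lit 47) (nat_lit 102) (.sp (nat_lit 176) (.sp (nat_lit 61) (.pr (nat_lit 87) (nat_lit 61) (.pr (nat_lit 61) (nat_lit 47) (.k3 (nat_lit 256) (nat_lit 87) (nat_lit 289)))) (.pr (nat_lit 44) (nat_lit 61) (.sp (nat_lit 320) (.pr (nat_lit 320) (nat_lit 87) (.pr (nat_lit 320) (nat_lit 116) (.sp (nat_lit 292) (.pr (nat_lit 292) (nat_lit 176) (.sp (nat_lit 64) (.pr (nat_lit 64) (nat_lit 81) (.pr (nat_lit 176) (nat_lit 323) (.k3 (nat_lit 64) (nat_lit 323) (nat_lit 312)))) (.pr (nat_lit 81) (nat_lit 64) (.pr (nat_lit 272) (nat_lit 323) (.sp (nat_lit 114) (.pr (nat_lit 320) (nat_lit 114) (.pr (nat_lit 300) (nat_lit 294) (.k3 (nat_lit 320) (nat_lit 294) (nat_lit 352)))) (.pr (nat_lit 320) (nat_lit 114) (.pr (nat_lit 300) (nat_lit 294) (.pr (nat_lit 176) (nat_lit 352) (.sp (nat_lit 109) (.pr (nat_lit 300) (nat_lit 109) (.k3 (nat_lit 264) (nat_lit 300) (nat_lit 320))) (.k2 (nat_lit 2) (nat_lit 109) (nat_lit 4))))))))))) (.k2 (nat_lit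 2) (nat_lit 53) (nat_lit 84))))) (.sp (nat_lit 328) (.pr (nat_lit 328) (nat_lit 44) (.k3 (nat_lit 81) (nat_lit 328) (nat_lit 324))) (.k2 (nat_lit 2) (nat_lit 72) (nat_lit 61)))))) (.k2 (nat_lit 2) (nat_lit 72) (nat_lit 175))))))) (.sp (nat_lit 120) (.pr (nat_lit 120) (nat_lit 81) (.k3 (nat_lit 44) (nat_lit 47) (nat_lit 359))) (.pr (nat_lit 44) (nat_lit 120) (.sp (nat_lit 125) (.pr (nat_lit 81) (nat_lit 125) (.pr (nat_lit 44) (nat_lit 125) (.k3 (nat_lit 44) (nat_lit 356) (nat_lit 175)))) (.sp (nat_lit 76) (.pr (nat_lit 81) (nat_lit 76) (.pr (nat_lit 44) (nat_lit 351) (.k3 (nat_lit 81) (nat_lit 351) (nat_lit 102)))) (.k2 (nat_lit 2) (nat_lit 53) (nat_lit 153))))))))) (.pr (nat_lit 44) (nat_lit 81) (.sp (nat_lit 102) (.pr (nat_lit 44) (nat_lit 102) (.pr (nat_lit 102) (nat_lit 4) (.pr (nat_lit 102) (nat_lit 47) (.sp (nat_lit 64) (.pr (nat_lit 64) (nat_lit 81) (.pr (nat_lit 64) (nat_lit 116) (.sp (nat_lit 319) (.sp (nat_lit 84) (.pr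 (nat_lit 84) (nat_lit 319) (.k3 (nat_lit 64) (nat_lit 204) (nat_lit 319))) (.sp (nat_lit 237) (.pr (nat_lit 44) (nat_lit 237) (.pr (nat_lit 237) (nat_lit 351) (.k3 (nat_lit 61) (nat_lit 320) (nat_lit 351)))) (.sp (nat_lit 292) (.pr (nat_lit 292) (nat_lit 351) (.k3 (nat_lit 102) (nat_lit 292) (nat_lit 328))) (.k2 (nat_lit 2) (nat_lit 53) (nat_lit 84))))) (.k2 (nat_lit 2) (nat_lit 53) (nat_lit 319))))) (.sp (nat_lit 264) (.k3 (nat_lit 102) (nat_lit 44) (nat_lit 264)) (.sp (nat_lit 310) (.pr (nat_lit 310) (nat_lit 351) (.k3 (nat_lit 102) (nat_lit 44) (nat_lit 323))) (.k2 (nat_lit 2) (nat_lit 53) (nat_lit 64)))))))) (.sp (nat_lit 116) (.sp (nat_lit 76) (.sp (nat_lit 61) (.pr (nat_lit 44) (nat_lit 61) (.sp (nat_lit 88) (.pr (nat_lit 61) (nat_lit 88) (.pr (nat_lit 88) (nat_lit 44) (.k3 (nat_lit 61) (nat_lit 349) (nat_lit 264)))) (.sp (nat_lit 314) (.pr (nat_lit 116) (nat_lit 314) (.pr (nat_lit 314) (nat_lit 76) (.k3 (nat_lit 64) (nat_lit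 76) (nat_lit 319)))) (.sp (nat_lit 323) (.pr (nat_lit 323) (nat_lit 237) (.k3 (nat_lit 61) (nat_lit 204) (nat_lit 323))) (.k2 (nat_lit 2) (nat_lit 72) (nat_lit 88)))))) (.sp (nat_lit 320) (.pr (nat_lit 116) (nat_lit 320) (.pr (nat_lit 320) (nat_lit 76) (.pr (nat_lit 76) (nat_lit 84) (.k3 (nat_lit 292) (nat_lit 289) (nat_lit 320))))) (.sp (nat_lit 328) (.pr (nat_lit 328) (nat_lit 44) (.sp (nat_lit 88) (.pr (nat_lit 324) (nat_lit 88) (.pr (nat_lit 328) (nat_lit 204) (.k3 (nat_lit 264) (nat_lit 204) (nat_lit 324)))) (.sp (nat_lit 314) (.pr (nat_lit 116) (nat_lit 314) (.pr (nat_lit 314) (nat_lit 76) (.k3 (nat_lit 64) (nat_lit 76) (nat_lit 319)))) (.sp (nat_lit 323) (.pr (nat_lit 323) (nat_lit 44) (.k3 (nat_lit 323) (nat_lit 279) (nat_lit 324))) (.k2 (nat_lit 2) (nat_lit 72) (nat_lit 88)))))) (.k2 (nat_lit 2) (nat_lit 72) (nat_lit 61))))) (.k2 (nat_lit 2) (nat_lit 53) (nat_lit 47))) (.k2 (nat_lit 2) (nat_lit 72) (nat_lit 4)))))))))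 (.sp (nat_lit 53) (.pr (nat_lit 53) (nat_lit 2) (.sp (nat_lit 72) (.pr (nat_lit 72) (nat_lit 53) (.pr (nat_lit 72) (nat_lit 2) (.pr (nat_lit 72) (nat_lit 4) (.sp (nat_lit 87) (.pr (nat_lit 72) (nat_lit 87) (.pr (nat_lit 53) (nat_lit 87) (.k3 (nat_lit 72) (nat_lit 359) (nat_lit 153)))) (.pr (nat_lit 53) (nat_lit 87) (.sp (nat_lit 120) (.pr (nat_lit 120) (nat_lit 102) (.sp (nat_lit 116) (.pr (nat_lit 116) (nat_lit 47) (.k3 (nat_lit 53) (nat_lit 116) (nat_lit 67))) (.pr (nat_lit 47) (nat_lit 116) (.sp (nat_lit 125) (.sp (nat_lit 61) (.pr (nat_lit 61) (nat_lit 72) (.pr (nat_lit 61) (nat_lit 47) (.k3 (nat_lit 72) (nat_lit 328) (nat_lit 289)))) (.pr (nat_lit 72) (nat_lit 61) (.sp (nat_lit 237) (.pr (nat_lit 53) (nat_lit 237) (.pr (nat_lit 72) (nat_lit 237) (.pr (nat_lit 120) (nat_lit 84) (.k3 (nat_lit 256) (nat_lit 84) (nat_lit 324))))) (.pr (nat_lit 53) (nat_lit 237) (.sp (nat_lit 292) (.pr (nat_lit 292) (nat_lit 125) (.sp (nat_lit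 320) (.pr (nat_lit 320) (nat_lit 120) (.sp (nat_lit 64) (.pr (nat_lit 64) (nat_lit 255) (.k3 (nat_lit 64) (nat_lit 173) (nat_lit 320))) (.pr (nat_lit 53) (nat_lit 64) (.pr (nat_lit 255) (nat_lit 264) (.sp (nat_lit 170) (.pr (nat_lit 170) (nat_lit 125) (.pr (nat_lit 120) (nat_lit 352) (.k3 (nat_lit 320) (nat_lit 109) (nat_lit 352)))) (.pr (nat_lit 292) (nat_lit 170) (.pr (nat_lit 120) (nat_lit 312) (.pr (nat_lit 315) (nat_lit 314) (.sp (nat_lit 162) (.pr (nat_lit 162) (nat_lit 53) (.pr (nat_lit 162) (nat_lit 315) (.pr (nat_lit 72) (nat_lit 323) (.pr (nat_lit 47) (nat_lit 88) (.k3 (nat_lit 162) (nat_lit 344) (nat_lit 319)))))) (.k2 (nat_lit 2) (nat_lit 109) (nat_lit 4))))))))))) (.k2 (nat_lit 2) (nat_lit 81) (nat_lit 84)))) (.k2 (nat_lit 2) (nat_lit 44) (nat_lit 61))))))) (.k2 (nat_lit 2) (nat_lit 81) (nat_lit 175)))))) (.sp (nat_lit 125) (.pr (nat_lit 125) (nat_lit 4) (.sp (nat_lit 67) (.pr (nat_lit 67) (nat_lit 47) (.k3 (nat_lit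 53) (nat_lit 116) (nat_lit 67))) (.k2 (nat_lit 2) (nat_lit 44) (nat_lit 153)))) (.sp (nat_lit 176) (.pr (nat_lit 72) (nat_lit 176) (.pr (nat_lit 53) (nat_lit 176) (.k3 (nat_lit 72) (nat_lit 175) (nat_lit 356)))) (.k2 (nat_lit 2) (nat_lit 87) (nat_lit 4)))))))))) (.pr (nat_lit 53) (nat_lit 72) (.sp (nat_lit 81) (.pr (nat_lit 81) (nat_lit 76) (.sp (nat_lit 67) (.sp (nat_lit 87) (.pr (nat_lit 67) (nat_lit 87) (.k3 (nat_lit 53) (nat_lit 356) (nat_lit 67))) (.pr (nat_lit 67) (nat_lit 87) (.pr (nat_lit 53) (nat_lit 356) (.sp (nat_lit 120) (.pr (nat_lit 120) (nat_lit 81) (.sp (nat_lit 109) (.pr (nat_lit 81) (nat_lit 109) (.pr (nat_lit 359) (nat_lit 358) (.k3 (nat_lit 81) (nat_lit 358) (nat_lit 352)))) (.sp (nat_lit 114) (.pr (nat_lit 114) (nat_lit 67) (.pr (nat_lit 114) (nat_lit 53) (.k3 (nat_lit 173) (nat_lit 67) (nat_lit 344)))) (.pr (nat_lit 67) (nat_lit 114) (.pr (nat_lit 53) (nat_lit 344) (.sp (nat_lit 170) (.pr (nat_lit 81) (nat_lit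 170) (.pr (nat_lit 359) (nat_lit 261) (.k3 (nat_lit 81) (nat_lit 261) (nat_lit 204)))) (.k2 (nat_lit 2) (nat_lit 109) (nat_lit 4)))))))) (.pr (nat_lit 81) (nat_lit 120) (.sp (nat_lit 125) (.pr (nat_lit 81) (nat_lit 125) (.pr (nat_lit 125) (nat_lit 359) (.sp (nat_lit 61) (.pr (nat_lit 67) (nat_lit 61) (.pr (nat_lit 175) (nat_lit 292) (.k3 (nat_lit 67) (nat_lit 287) (nat_lit 81)))) (.pr (nat_lit 67) (nat_lit 61) (.pr (nat_lit 125) (nat_lit 61) (.pr (nat_lit 175) (nat_lit 292) (.sp (nat_lit 239) (.pr (nat_lit 239) (nat_lit 53) (.pr (nat_lit 239) (nat_lit 125) (.pr (nat_lit 53) (nat_lit 289) (.k3 (nat_lit 81) (nat_lit 328) (nat_lit 300))))) (.pr (nat_lit 53) (nat_lit 239) (.pr (nat_lit 125) (nat_lit 300) (.sp (nat_lit 256) (.pr (nat_lit 256) (nat_lit 53) (.sp (nat_lit 320) (.sp (nat_lit 64) (.pr (nat_lit 64) (nat_lit 81) (.pr (nat_lit 272) (nat_lit 323) (.k3 (nat_lit 256) (nat_lit 170) (nat_lit 323)))) (.pr (nat_lit 272) (nat_lit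 64) (.pr (nat_lit 81) (nat_lit 261) (.sp (nat_lit 114) (.pr (nat_lit 320) (nat_lit 114) (.pr (nat_lit 53) (nat_lit 294) (.k3 (nat_lit 256) (nat_lit 282) (nat_lit 320)))) (.pr (nat_lit 67) (nat_lit 114) (.pr (nat_lit 53) (nat_lit 344) (.sp (nat_lit 109) (.pr (nat_lit 109) (nat_lit 81) (.k3 (nat_lit 67) (nat_lit 320) (nat_lit 358))) (.k2 (nat_lit 2) (nat_lit 109) (nat_lit 4))))))))) (.k2 (nat_lit 2) (nat_lit 72) (nat_lit 61)))) (.k2 (nat_lit 2) (nat_lit 239) (nat_lit 47)))))))))))) (.k2 (nat_lit 2) (nat_lit 87) (nat_lit 4)))))))) (.sp (nat_lit 102) (.sp (nat_lit 61) (.pr (nat_lit 61) (nat_lit 102) (.sp (nat_lit 88) (.pr (nat_lit 88) (nat_lit 61) (.k3 (nat_lit 102) (nat_lit 320) (nat_lit 349))) (.sp (nat_lit 264) (.pr (nat_lit 81) (nat_lit 264) (.pr (nat_lit 53) (nat_lit 264) (.pr (nat_lit 53) (nat_lit 319) (.k3 (nat_lit 64) (nat_lit 323) (nat_lit 319))))) (.sp (nat_lit 310) (.pr (nat_lit 102) (nat_lit 310) (.k3 (nat_lit 279) (nat_lit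 102) (nat_lit 320))) (.k2 (nat_lit 2) (nat_lit 44) (nat_lit 88)))))) (.sp (nat_lit 237) (.pr (nat_lit 81) (nat_lit 237) (.pr (nat_lit 53) (nat_lit 289) (.k3 (nat_lit 237) (nat_lit 289) (nat_lit 328)))) (.sp (nat_lit 292) (.pr (nat_lit 292) (nat_lit 102) (.sp (nat_lit 88) (.pr (nat_lit 324) (nat_lit 88) (.k3 (nat_lit 102) (nat_lit 292) (nat_lit 204))) (.sp (nat_lit 264) (.pr (nat_lit 81) (nat_lit 264) (.pr (nat_lit 53) (nat_lit 264) (.pr (nat_lit 53) (nat_lit 319) (.k3 (nat_lit 64) (nat_lit 323) (nat_lit 319))))) (.sp (nat_lit 310) (.pr (nat_lit 292) (nat_lit 310) (.k3 (nat_lit 102) (nat_lit 292) (nat_lit 349))) (.k2 (nat_lit 2) (nat_lit 44) (nat_lit 88)))))) (.k2 (nat_lit 2) (nat_lit 44) (nat_lit 61))))) (.k2 (nat_lit 2) (nat_lit 44) (nat_lit 351))))) (.sp (nat_lit 102) (.pr (nat_lit 102) (nat_lit 4) (.sp (nat_lit 67) (.sp (nat_lit 64) (.sp (nat_lit 84) (.pr (nat_lit 84) (nat_lit 53) (.k3 (nat_lit 64) (nat_lit 84) (nat_lit 237)))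 (.sp (nat_lit 320) (.k3 (nat_lit 67) (nat_lit 320) (nat_lit 102)) (.sp (nat_lit 328) (.pr (nat_lit 328) (nat_lit 53) (.k3 (nat_lit 64) (nat_lit 289) (nat_lit 328))) (.k2 (nat_lit 2) (nat_lit 81) (nat_lit 84))))) (.sp (nat_lit 314) (.pr (nat_lit 314) (nat_lit 102) (.pr (nat_lit 67) (nat_lit 88) (.k3 (nat_lit 67) (nat_lit 310) (nat_lit 102)))) (.sp (nat_lit 323) (.pr (nat_lit 323) (nat_lit 53) (.sp (nat_lit 84) (.pr (nat_lit 84) (nat_lit 319) (.k3 (nat_lit 53) (nat_lit 323) (nat_lit 204))) (.sp (nat_lit 320) (.k3 (nat_lit 67) (nat_lit 320) (nat_lit 102)) (.sp (nat_lit 328) (.pr (nat_lit 53) (nat_lit 328) (.k3 (nat_lit 289) (nat_lit 53) (nat_lit 323))) (.k2 (nat_lit 2) (nat_lit 81) (nat_lit 84)))))) (.k2 (nat_lit 2) (nat_lit 81) (nat_lit 64))))) (.k2 (nat_lit 2) (nat_lit 44) (nat_lit 47)))) (.sp (nat_lit 116) (.pr (nat_lit 116) (nat_lit 53) (.pr (nat_lit 116) (nat_lit 47) (.sp (nat_lit 61) (.pr (nat_lit 61) (nat_lit 102) (.pr (nat_lit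 61) (nat_lit 72) (.sp (nat_lit 324) (.sp (nat_lit 88) (.pr (nat_lit 324) (nat_lit 88) (.pr (nat_lit 88) (nat_lit 61) (.k3 (nat_lit 204) (nat_lit 324) (nat_lit 349)))) (.sp (nat_lit 264) (.pr (nat_lit 53) (nat_lit 264) (.k3 (nat_lit 64) (nat_lit 116) (nat_lit 351))) (.sp (nat_lit 310) (.pr (nat_lit 116) (nat_lit 310) (.pr (nat_lit 53) (nat_lit 319) (.k3 (nat_lit 116) (nat_lit 53) (nat_lit 323)))) (.k2 (nat_lit 2) (nat_lit 44) (nat_lit 88))))) (.k2 (nat_lit 2) (nat_lit 44) (nat_lit 324))))) (.sp (nat_lit 237) (.pr (nat_lit 237) (nat_lit 53) (.pr (nat_lit 237) (nat_lit 351) (.k3 (nat_lit 84) (nat_lit 320) (nat_lit 351)))) (.sp (nat_lit 292) (.pr (nat_lit 116) (nat_lit 292) (.k3 (nat_lit 289) (nat_lit 292) (nat_lit 351))) (.k2 (nat_lit 2) (nat_lit 44) (nat_lit 61))))))) (.k2 (nat_lit 2) (nat_lit 72) (nat_lit 4)))))))) (.sp (nat_lit 67) (.pr (nat_lit 67) (nat_lit 4) (.sp (nat_lit 47) (.pr (nat_lit 67) (nat_lit 47) (.pr (nat_lit 47)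 (nat_lit 53) (.pr (nat_lit 47) (nat_lit 76) (.sp (nat_lit 61) (.pr (nat_lit 67) (nat_lit 61) (.pr (nat_lit 116) (nat_lit 292) (.k3 (nat_lit 67) (nat_lit 292) (nat_lit 289)))) (.pr (nat_lit 67) (nat_lit 61) (.sp (nat_lit 320) (.pr (nat_lit 320) (nat_lit 116) (.k3 (nat_lit 67) (nat_lit 320) (nat_lit 84))) (.pr (nat_lit 116) (nat_lit 320) (.sp (nat_lit 328) (.sp (nat_lit 237) (.sp (nat_lit 64) (.k3 (nat_lit 64) (nat_lit 116) (nat_lit 67)) (.sp (nat_lit 264) (.pr (nat_lit 264) (nat_lit 237) (.pr (nat_lit 328) (nat_lit 349) (.k3 (nat_lit 264) (nat_lit 328) (nat_lit 323)))) (.sp (nat_lit 310) (.pr (nat_lit 116) (nat_lit 310) (.k3 (nat_lit 67) (nat_lit 116) (nat_lit 319))) (.k2 (nat_lit 2) (nat_lit 53) (nat_lit 64))))) (.k2 (nat_lit 2) (nat_lit 53) (nat_lit 84))) (.k2 (nat_lit 2) (nat_lit 72) (nat_lit 61)))))))))) (.pr (nat_lit 67) (nat_lit 47) (.sp (nat_lit 72) (.pr (nat_lit 72) (nat_lit 67) (.pr (nat_lit 72) (nat_lit 4) (.sp (nat_lit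 64) (.pr (nat_lit 64) (nat_lit 81) (.pr (nat_lit 64) (nat_lit 116) (.sp (nat_lit 319) (.sp (nat_lit 84) (.pr (nat_lit 84) (nat_lit 319) (.k3 (nat_lit 64) (nat_lit 204) (nat_lit 319))) (.sp (nat_lit 237) (.pr (nat_lit 237) (nat_lit 351) (.k3 (nat_lit 67) (nat_lit 320) (nat_lit 237))) (.sp (nat_lit 292) (.pr (nat_lit 292) (nat_lit 351) (.k3 (nat_lit 67) (nat_lit 292) (nat_lit 328))) (.k2 (nat_lit 2) (nat_lit 53) (nat_lit 84))))) (.k2 (nat_lit 2) (nat_lit 53) (nat_lit 319))))) (.sp (nat_lit 264) (.k3 (nat_lit 67) (nat_lit 72) (nat_lit 264)) (.sp (nat_lit 310) (.pr (nat_lit 310) (nat_lit 351) (.k3 (nat_lit 67) (nat_lit 72) (nat_lit 323))) (.k2 (nat_lit 2) (nat_lit 53) (nat_lit 64))))))) (.pr (nat_lit 67) (nat_lit 72) (.sp (nat_lit 102) (.sp (nat_lit 81) (.sp (nat_lit 64) (.sp (nat_lit 84) (.pr (nat_lit 81) (nat_lit 84) (.k3 (nat_lit 64) (nat_lit 81) (nat_lit 328))) (.sp (nat_lit 237) (.k3 (nat_lit 64) (nat_lit 81) (nat_lit 237))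 (.sp (nat_lit 292) (.pr (nat_lit 67) (nat_lit 292) (.pr (nat_lit 102) (nat_lit 61) (.k3 (nat_lit 67) (nat_lit 320) (nat_lit 102)))) (.k2 (nat_lit 2) (nat_lit 53) (nat_lit 84))))) (.sp (nat_lit 264) (.pr (nat_lit 264) (nat_lit 81) (.sp (nat_lit 84) (.pr (nat_lit 84) (nat_lit 319) (.k3 (nat_lit 81) (nat_lit 84) (nat_lit 204))) (.sp (nat_lit 237) (.pr (nat_lit 81) (nat_lit 237) (.pr (nat_lit 264) (nat_lit 237) (.k3 (nat_lit 81) (nat_lit 289) (nat_lit 349)))) (.sp (nat_lit 292) (.pr (nat_lit 67) (nat_lit 292) (.pr (nat_lit 102) (nat_lit 61) (.k3 (nat_lit 67) (nat_lit 320) (nat_lit 102)))) (.k2 (nat_lit 2) (nat_lit 53) (nat_lit 84)))))) (.sp (nat_lit 310) (.k3 (nat_lit 67) (nat_lit 310) (nat_lit 102)) (.k2 (nat_lit 2) (nat_lit 53) (nat_lit 64))))) (.k2 (nat_lit 2) (nat_lit 53) (nat_lit 351))) (.k2 (nat_lit 2) (nat_lit 53) (nat_lit 47)))))))) (.sp (nat_lit 76) (.sp (nat_lit 47) (.pr (nat_lit 76) (nat_lit 47) (.pr (nat_lit 47) (nat_lit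 67) (.pr (nat_lit 47) (nat_lit 44) (.sp (nat_lit 61) (.pr (nat_lit 61) (nat_lit 102) (.pr (nat_lit 61) (nat_lit 47) (.k3 (nat_lit 102) (nat_lit 320) (nat_lit 289)))) (.pr (nat_lit 102) (nat_lit 61) (.sp (nat_lit 237) (.pr (nat_lit 237) (nat_lit 53) (.sp (nat_lit 328) (.sp (nat_lit 64) (.pr (nat_lit 64) (nat_lit 47) (.k3 (nat_lit 64) (nat_lit 279) (nat_lit 102))) (.sp (nat_lit 314) (.pr (nat_lit 314) (nat_lit 76) (.k3 (nat_lit 102) (nat_lit 314) (nat_lit 319))) (.sp (nat_lit 323) (.pr (nat_lit 323) (nat_lit 237) (.pr (nat_lit 328) (nat_lit 204) (.k3 (nat_lit 264) (nat_lit 328) (nat_lit 323)))) (.k2 (nat_lit 2) (nat_lit 81) (nat_lit 64))))) (.k2 (nat_lit 2) (nat_lit 81) (nat_lit 84)))) (.sp (nat_lit 292) (.pr (nat_lit 292) (nat_lit 102) (.k3 (nat_lit 76) (nat_lit 292) (nat_lit 324))) (.k2 (nat_lit 2) (nat_lit 44) (nat_lit 61))))))))) (.pr (nat_lit 76) (nat_lit 47) (.sp (nat_lit 81) (.pr (nat_lit 81) (nat_lit 76) (.pr (nat_lit 81)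 (nat_lit 4) (.sp (nat_lit 61) (.pr (nat_lit 61) (nat_lit 102) (.pr (nat_lit 61) (nat_lit 72) (.sp (nat_lit 324) (.sp (nat_lit 88) (.pr (nat_lit 324) (nat_lit 88) (.pr (nat_lit 88) (nat_lit 61) (.k3 (nat_lit 204) (nat_lit 324) (nat_lit 349)))) (.sp (nat_lit 264) (.pr (nat_lit 81) (nat_lit 264) (.pr (nat_lit 264) (nat_lit 351) (.k3 (nat_lit 81) (nat_lit 319) (nat_lit 314)))) (.sp (nat_lit 310) (.pr (nat_lit 310) (nat_lit 76) (.k3 (nat_lit 64) (nat_lit 81) (nat_lit 351))) (.k2 (nat_lit 2) (nat_lit 44) (nat_lit 88))))) (.k2 (nat_lit 2) (nat_lit 44) (nat_lit 324))))) (.sp (nat_lit 237) (.pr (nat_lit 81) (nat_lit 237) (.pr (nat_lit 76) (nat_lit 289) (.k3 (nat_lit 289) (nat_lit 320) (nat_lit 351)))) (.sp (nat_lit 292) (.pr (nat_lit 292) (nat_lit 351) (.k3 (nat_lit 76) (nat_lit 292) (nat_lit 328))) (.k2 (nat_lit 2) (nat_lit 44) (nat_lit 61))))))) (.pr (nat_lit 76) (nat_lit 81) (.sp (nat_lit 116) (.sp (nat_lit 72) (.sp (nat_lit 61) (.pr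 (nat_lit 72) (nat_lit 61) (.sp (nat_lit 88) (.pr (nat_lit 88) (nat_lit 61) (.k3 (nat_lit 88) (nat_lit 349) (nat_lit 328))) (.sp (nat_lit 264) (.pr (nat_lit 264) (nat_lit 72) (.k3 (nat_lit 279) (nat_lit 264) (nat_lit 328))) (.sp (nat_lit 310) (.pr (nat_lit 116) (nat_lit 310) (.pr (nat_lit 310) (nat_lit 76) (.k3 (nat_lit 64) (nat_lit 76) (nat_lit 319)))) (.k2 (nat_lit 2) (nat_lit 44) (nat_lit 88)))))) (.sp (nat_lit 237) (.pr (nat_lit 72) (nat_lit 237) (.sp (nat_lit 88) (.pr (nat_lit 324) (nat_lit 88) (.pr (nat_lit 72) (nat_lit 88) (.k3 (nat_lit 323) (nat_lit 204) (nat_lit 324)))) (.sp (nat_lit 264) (.pr (nat_lit 264) (nat_lit 237) (.k3 (nat_lit 264) (nat_lit 349) (nat_lit 324))) (.sp (nat_lit 310) (.pr (nat_lit 116) (nat_lit 310) (.pr (nat_lit 310) (nat_lit 76) (.k3 (nat_lit 64) (nat_lit 76) (nat_lit 319)))) (.k2 (nat_lit 2) (nat_lit 44) (nat_lit 88)))))) (.sp (nat_lit 292) (.pr (nat_lit 116) (nat_lit 292) (.pr (nat_lit 76) (nat_lit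 289) (.k3 (nat_lit 292) (nat_lit 289) (nat_lit 320)))) (.k2 (nat_lit 2) (nat_lit 44) (nat_lit 61))))) (.k2 (nat_lit 2) (nat_lit 44) (nat_lit 351))) (.k2 (nat_lit 2) (nat_lit 44) (nat_lit 47))))))) (.k2 (nat_lit 2) (nat_lit 44) (nat_lit 4))))))))

theorem realizeEqns_Th_Kd : True := by
  have := @CA.QP.kGP0111.eq_1
  have := @CA.QP.kGP0111.eq_def
  have := @CA.QP.kGP0111.congr_simp
  have := @CA.QP.kTP0110.eq_1
  have := @CA.QP.kTP0110.eq_def
  have := @CA.QP.kTP0110.congr_simp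
  have := @CA.QP.kGP0010.eq_1
  have := @CA.QP.kGP0010.eq_def
  have := @CA.QP.kGP0010.congr_simp
  have := @CA.QP.kYFt.eq_1
  have := @CA.QP.kYFt.eq_def
  have := @CA.QP.kYFt.congr_simp
  have := @CA.QP.kGW0.eq_1
  have := @CA.QP.kGW0.eq_def
  have := @CA.QP.kGW0.congr_simp
  have := @CA.QP.kGP1101.eq_1
  have := @CA.QP.kGP1101.eq_def
  have := @CA.QP.kGP1101.congr_simp
  have := @CA.QP.kGC.eq_1
  have := @CA.QP.kGC.eq_def
  have := @CA.QP.kGC.congr_simp
  have := @CA.QP.kGR.eq_1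
  have := @CA.QP.kGR.eq_def
  have := @CA.QP.kGR.congr_simp
  have := @CA.QP.kTQ.eq_1
  have := @CA.QP.kTQ.eq_def
  have := @CA.QP.kTQ.congr_simp
  have := @CA.QP.kGP000.eq_1
  have := @CA.QP.kGP000.eq_def
  have := @CA.QP.kGP000.congr_simp
  have := @CA.QP.kGP0001.eq_1
  have := @CA.QP.kGP0001.eq_def
  have := @CA.QP.kGP0001.congr_simp
  have := @CA.QP.kGft.eq_1
  have := @CA.QP.kGft.eq_def
  have := @CA.QP.kGft.congr_simp
  have := @CA.QP.kGP0000.eq_1
  have := @CA.QP.kGP0000.eq_def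
  have := @CA.QP.kGP0000.congr_simp
  have := @CA.QP.kTP1010.eq_1
  have := @CA.QP.kTP1010.eq_def
  have := @CA.QP.kTP1010.congr_simp
  have := @CA.QP.kYP.eq_1
  have := @CA.QP.kYP.eq_def
  have := @CA.QP.kYP.congr_simp
  have := @CA.QP.kYQ.eq_1
  have := @CA.QP.kYQ.eq_def
  have := @CA.QP.kYQ.congr_simp
  have := @CA.QP.kYW.eq_1
  have := @CA.QP.kYW.eq_def
  have := @CA.QP.kYW.congr_simp
  have := @CA.QP.kTP0111.eq_1
  have := @CA.QP.kTP0111.eq_def
  have := @CA.QP.kTP0111.congr_simp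
  have := @CA.QP.kTF.eq_1
  have := @CA.QP.kTF.eq_def
  have := @CA.QP.kTF.congr_simp
  have := @CA.QP.kGP001.eq_1
  have := @CA.QP.kGP001.eq_def
  have := @CA.QP.kGP001.congr_simp
  have := @CA.QP.kTC.eq_1
  have := @CA.QP.kTC.eq_def
  have := @CA.QP.kTC.congr_simp
  have := @CA.QP.kGP0.eq_1
  have := @CA.QP.kGP0.eq_def
  have := @CA.QP.kGP0.congr_simp
  have := @CA.QP.kTFt.eq_1
  have := @CA.QP.kTFt.eq_def
  have := @CA.QP.kTFt.congr_simp
  have := @CA.QP.kTP100.eq_1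
  have := @CA.QP.kTP100.eq_def
  have := @CA.QP.kTP100.congr_simp
  have := @CA.QP.kGW01.eq_1
  have := @CA.QP.kGW01.eq_def
  have := @CA.QP.kGW01.congr_simp
  have := @CA.QP.kTP00.eq_1
  have := @CA.QP.kTP00.eq_def
  have := @CA.QP.kTP00.congr_simp
  have := @CA.QP.kTP101.eq_1
  have := @CA.QP.kTP101.eq_def
  have := @CA.QP.kTP101.congr_simp
  have := @CA.QP.kTP1000.eq_1
  have := @CA.QP.kTP1000.eq_def
  have := @CA.QP.kTP1000.congr_simp
  have := @CA.QP.kYh.eq_1
  have := @CA.QP.kYh.eq_def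
  have := @CA.QP.kYh.congr_simp
  have := @CA.QP.kGP0101.eq_1
  have := @CA.QP.kGP0101.eq_def
  have := @CA.QP.kGP0101.congr_simp
  have := @CA.QP.kGat.eq_1
  have := @CA.QP.kGat.eq_def
  have := @CA.QP.kGat.congr_simp
  have := @CA.QP.kGP011.eq_1
  have := @CA.QP.kGP011.eq_def
  have := @CA.QP.kGP011.congr_simp
  have := @CA.QP.kGP1010.eq_1
  have := @CA.QP.kGP1010.eq_def
  have := @CA.QP.kGP1010.congr_simp
  have := @CA.QP.kYft.eq_1
  have := @CA.QP.kYft.eq_def
  have := @CA.QP.kYft.congr_simp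
  have := @CA.QP.kGP100.eq_1
  have := @CA.QP.kGP100.eq_def
  have := @CA.QP.kGP100.congr_simp
  have := @CA.QP.kGl.eq_1
  have := @CA.QP.kGl.eq_def
  have := @CA.QP.kGl.congr_simp
  have := @CA.QP.kGP01.eq_1
  have := @CA.QP.kGP01.eq_def
  have := @CA.QP.kGP01.congr_simp
  have := @CA.QP.kGT.eq_1
  have := @CA.QP.kGT.eq_def
  have := @CA.QP.kGT.congr_simp
  have := @CA.QP.kYR.eq_1
  have := @CA.QP.kYR.eq_def
  have := @CA.QP.kYR.congr_simp
  have := @CA.QP.kGP00.eq_1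
  have := @CA.QP.kGP00.eq_def
  have := @CA.QP.kGP00.congr_simp
  have := @CA.QP.kGP010.eq_1
  have := @CA.QP.kGP010.eq_def
  have := @CA.QP.kGP010.congr_simp
  have := @CA.QP.kD.eq_1
  have := @CA.QP.kD.eq_def
  have := @CA.QP.kD.congr_simp
  have := @CA.QP.kTP011.eq_1
  have := @CA.QP.kTP011.eq_def
  have := @CA.QP.kTP011.congr_simp
  have := @CA.QP.kGF.eq_1
  have := @CA.QP.kGF.eq_def
  have := @CA.QP.kGF.congr_simp
  have := @CA.QP.kTP010.eq_1
  have := @CA.QP.kTP010.eq_def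
  have := @CA.QP.kTP010.congr_simp
  have := @CA.QP.kGP111.eq_1
  have := @CA.QP.kGP111.eq_def
  have := @CA.QP.kGP111.congr_simp
  have := @CA.QP.kGa.eq_1
  have := @CA.QP.kGa.eq_def
  have := @CA.QP.kGa.congr_simp
  have := @CA.QP.kYl.eq_1
  have := @CA.QP.kYl.eq_def
  have := @CA.QP.kYl.congr_simp
  have := @CA.QP.kTh.eq_1
  have := @CA.QP.kTh.eq_def
  have := @CA.QP.kTh.congr_simp
  have := @CA.QP.kTP1.eq_1
  have := @CA.QP.kTP1.eq_def
  have := @CA.QP.kTP1.congr_simp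
  have := @CA.QP.kGW00.eq_1
  have := @CA.QP.kGW00.eq_def
  have := @CA.QP.kGW00.congr_simp
  have := @CA.QP.kGP1100.eq_1
  have := @CA.QP.kGP1100.eq_def
  have := @CA.QP.kGP1100.congr_simp
  have := @CA.QP.kYF.eq_1
  have := @CA.QP.kYF.eq_def
  have := @CA.QP.kYF.congr_simp
  have := @CA.QP.kYa.eq_1
  have := @CA.QP.kYa.eq_def
  have := @CA.QP.kYa.congr_simp
  have := @CA.QP.kTP0.eq_1
  have := @CA.QP.kTP0.eq_def
  have := @CA.QP.kTP0.congr_simp
  have := @CA.QP.kGP1.eq_1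
  have := @CA.QP.kGP1.eq_def
  have := @CA.QP.kGP1.congr_simp
  have := @CA.QP.kTP11.eq_1
  have := @CA.QP.kTP11.eq_def
  have := @CA.QP.kTP11.congr_simp
  have := @CA.QP.kTP1111.eq_1
  have := @CA.QP.kTP1111.eq_def
  have := @CA.QP.kTP1111.congr_simp
  have := @CA.QP.kYV.eq_1
  have := @CA.QP.kYV.eq_def
  have := @CA.QP.kYV.congr_simp
  have := @CA.QP.kGW.eq_1
  have := @CA.QP.kGW.eq_def
  have := @CA.QP.kGW.congr_simp
  have := @CA.QP.kTP0011.eq_1
  have := @CA.QP.kTP0011.eq_def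
  have := @CA.QP.kTP0011.congr_simp
  have := @CA.QP.kGP1011.eq_1
  have := @CA.QP.kGP1011.eq_def
  have := @CA.QP.kGP1011.congr_simp
  have := @CA.QP.kTP1100.eq_1
  have := @CA.QP.kTP1100.eq_def
  have := @CA.QP.kTP1100.congr_simp
  have := @CA.QP.kGP1000.eq_1
  have := @CA.QP.kGP1000.eq_def
  have := @CA.QP.kGP1000.congr_simp
  have := @CA.QP.kGP11.eq_1
  have := @CA.QP.kGP11.eq_def
  have := @CA.QP.kGP11.congr_simp
  have := @CA.QP.kGP0100.eq_1
  have := @CA.QP.kGP0100.eq_def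
  have := @CA.QP.kGP0100.congr_simp
  have := @CA.QP.kYf.eq_1
  have := @CA.QP.kYf.eq_def
  have := @CA.QP.kYf.congr_simp
  have := @CA.QP.kTx.eq_1
  have := @CA.QP.kTx.eq_def
  have := @CA.QP.kTx.congr_simp
  have := @CA.QP.kGW11.eq_1
  have := @CA.QP.kGW11.eq_def
  have := @CA.QP.kGW11.congr_simp
  have := @CA.QP.kGh.eq_1
  have := @CA.QP.kGh.eq_def
  have := @CA.QP.kGh.congr_simp
  have := @CA.QP.kYat.eq_1
  have := @CA.QP.kYat.eq_def
  have := @CA.QP.kYat.congr_simp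
  have := @CA.QP.kTP0000.eq_1
  have := @CA.QP.kTP0000.eq_def
  have := @CA.QP.kTP0000.congr_simp
  have := @CA.QP.kGP10.eq_1
  have := @CA.QP.kGP10.eq_def
  have := @CA.QP.kGP10.congr_simp
  have := @CA.QP.kTP111.eq_1
  have := @CA.QP.kTP111.eq_def
  have := @CA.QP.kTP111.congr_simp
  have := @CA.QP.kYC.eq_1
  have := @CA.QP.kYC.eq_def
  have := @CA.QP.kYC.congr_simp
  have := @CA.QP.kGP.eq_1
  have := @CA.QP.kGP.eq_def
  have := @CA.QP.kGP.congr_simp
  have := @CA.QP.kGP1110.eq_1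
  have := @CA.QP.kGP1110.eq_def
  have := @CA.QP.kGP1110.congr_simp
  have := @CA.QP.kGP110.eq_1
  have := @CA.QP.kGP110.eq_def
  have := @CA.QP.kGP110.congr_simp
  have := @CA.QP.kYT.eq_1
  have := @CA.QP.kYT.eq_def
  have := @CA.QP.kYT.congr_simp
  have := @CA.QP.kTP1101.eq_1
  have := @CA.QP.kTP1101.eq_def
  have := @CA.QP.kTP1101.congr_simp
  have := @CA.QP.kTP.eq_1
  have := @CA.QP.kTP.eq_def
  have := @CA.QP.kTP.congr_simp
  have := @CA.QP.kGV.eq_1
  have := @CA.QP.kGV.eq_def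
  have := @CA.QP.kGV.congr_simp
  have := @CA.QP.kTP1001.eq_1
  have := @CA.QP.kTP1001.eq_def
  have := @CA.QP.kTP1001.congr_simp
  have := @CA.QP.kTP110.eq_1
  have := @CA.QP.kTP110.eq_def
  have := @CA.QP.kTP110.congr_simp
  have := @CA.QP.kGP0011.eq_1
  have := @CA.QP.kGP0011.eq_def
  have := @CA.QP.kGP0011.congr_simp
  have := @CA.QP.kTP0101.eq_1
  have := @CA.QP.kTP0101.eq_def
  have := @CA.QP.kTP0101.congr_simp
  have := @CA.QP.kTP1110.eq_1
  have := @CA.QP.kTP1110.eq_def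
  have := @CA.QP.kTP1110.congr_simp
  have := @CA.QP.kGfi.eq_1
  have := @CA.QP.kGfi.eq_def
  have := @CA.QP.kGfi.congr_simp
  have := @CA.QP.kGW10.eq_1
  have := @CA.QP.kGW10.eq_def
  have := @CA.QP.kGW10.congr_simp
  have := @CA.QP.kGFt.eq_1
  have := @CA.QP.kGFt.eq_def
  have := @CA.QP.kGFt.congr_simp
  have := @CA.QP.kGf.eq_1
  have := @CA.QP.kGf.eq_def
  have := @CA.QP.kGf.congr_simp
  have := @CA.QP.kGW1.eq_1
  have := @CA.QP.kGW1.eq_def
  have := @CA.QP.kGW1.congr_simp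
  have := @CA.QP.kGP1111.eq_1
  have := @CA.QP.kGP1111.eq_def
  have := @CA.QP.kGP1111.congr_simp
  have := @CA.QP.kTP0001.eq_1
  have := @CA.QP.kTP0001.eq_def
  have := @CA.QP.kTP0001.congr_simp
  have := @CA.QP.kGP0110.eq_1
  have := @CA.QP.kGP0110.eq_def
  have := @CA.QP.kGP0110.congr_simp
  have := @CA.QP.kTP0010.eq_1
  have := @CA.QP.kTP0010.eq_def
  have := @CA.QP.kTP0010.congr_simp
  have := @CA.QP.kGQ.eq_1
  have := @CA.QP.kGQ.eq_def
  have := @CA.QP.kGQ.congr_simp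
  have := @CA.QP.kTP0100.eq_1
  have := @CA.QP.kTP0100.eq_def
  have := @CA.QP.kTP0100.congr_simp
  have := @CA.QP.kTP000.eq_1
  have := @CA.QP.kTP000.eq_def
  have := @CA.QP.kTP000.congr_simp
  have := @CA.QP.kTP1011.eq_1
  have := @CA.QP.kTP1011.eq_def
  have := @CA.QP.kTP1011.congr_simp
  have := @CA.QP.kTR.eq_1
  have := @CA.QP.kTR.eq_def
  have := @CA.QP.kTR.congr_simp
  have := @CA.QP.kGP101.eq_1
  have := @CA.QP.kGP101.eq_def
  have := @CA.QP.kGP101.congr_simp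
  have := @CA.QP.kYfi.eq_1
  have := @CA.QP.kYfi.eq_def
  have := @CA.QP.kYfi.congr_simp
  have := @CA.QP.kTP10.eq_1
  have := @CA.QP.kTP10.eq_def
  have := @CA.QP.kTP10.congr_simp
  have := @CA.QP.kTP001.eq_1
  have := @CA.QP.kTP001.eq_def
  have := @CA.QP.kTP001.congr_simp
  have := @CA.QP.kTP01.eq_1
  have := @CA.QP.kTP01.eq_def
  have := @CA.QP.kTP01.congr_simp
  have := @CA.QP.kGP1001.eq_1
  have := @CA.QP.kGP1001.eq_def
  have := @CA.QP.kGP1001.congr_simp
  trivial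

end CA.QP
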