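import Cfsg.Agent.Th.QP
set_option autoImplicit false
set_option maxRecDepth 100000
namespace CA.QP
open CA.TC
noncomputable def q_tri_Ft : BT Nat := (.node (.node (.leaf (nat_lit 0x10001180011000008800084600042000402000200001f00000f8000f0c000780007440003a0003800001c0000c10000d8000d000006800064200032000300000180001710000b8000b0c000580005400002a000282000140000810000980009000004800028600022000201000100000f0000078000708000380003400001a0001020000c0000b080005800038800028000240000120000e100008000031000038000180000180000c40000a0000220000400000)) (.leaf (nat_lit 0x3000230001720000b8001210000ac0008c80004c000442000200001e00000f0000f100007c000780000400005000002b0002910001300015880009c000a800004c0005410001e0001e180014800148400074000a420002e0002e4000190001720000b0000d8400058000a04000500005030001c00027000008000138c0003c000980000160004a20001b00019))) (.node (.leaf (nat_lit 0x8000b8000c90000640006800002e0002e4000170001818000680006840003400018400022000223000090001210000900003100004c000182000380002a1000140000c10000a8000784000680005c200008000223000050000c180002000050c00004000206000000000c100002000050000010000200000040000420000000000000000000001800158000b84000a800048400052000203000280000e0800138000704000980002820004a0001230002400023))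 (.leaf (nat_lit 0))))
noncomputable def q_tri_F (p : Nat) : Nat := row q_tri_Ft (nat_lit 5) (nat_lit 31) (nat_lit 45) (nat_lit 35184372088831) p
noncomputable def q_tri_P : BT Pf := (.node (.node (.node (.node (.node (.node (.node (.leaf .df) (.leaf (.cyc (nat_lit 5) [(nat_lit 23), (nat_lit 62)]))) (.node (.leaf .df) (.leaf .df))) (.node (.node (.leaf .df) (.leaf (.cyc (nat_lit 21) [(nat_lit 79), (nat_lit 77), (nat_lit 78), (nat_lit 67), (nat_lit 37)]))) (.node (.leaf (.pin (nat_lit 8) [(nat_lit 3), (nat_lit 7), (nat_lit 8)] [(nat_lit 1)])) (.leaf .df)))) (.node (.node (.node (.leaf .df) (.leaf (.cyc (nat_lit 5) [(nat_lit 64), (nat_lit 71), (nat_lit 19)]))) (.node (.leaf (.pin (nat_lit 0) [] [])) (.leaf .df))) (.node (.node (.leaf .df) (.leaf (.cyc (nat_lit 25) [(nat_lit 32), (nat_lit 87)]))) (.node (.leaf (.cyc (nat_lit 6) [(nat_lit 6), (nat_lit 47), (nat_lit 0), (nat_lit 45), (nat_lit 55)])) (.leaf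 .df))))) (.node (.node (.node (.node (.leaf .df) (.leaf (.cyc (nat_lit 14) [(nat_lit 53), (nat_lit 17), (nat_lit 16), (nat_lit 9), (nat_lit 58), (nat_lit 45), (nat_lit 41), (nat_lit 40), (nat_lit 0), (nat_lit 43), (nat_lit 44), (nat_lit 48), (nat_lit 52), (nat_lit 17), (nat_lit 51), (nat_lit 11), (nat_lit 35)]))) (.node (.leaf .df) (.leaf .df))) (.node (.node (.leaf .df) (.leaf (.cyc (nat_lit 5) [(nat_lit 28), (nat_lit 82)]))) (.node (.leaf (.cyc (nat_lit 2) [(nat_lit 16), (nat_lit 4), (nat_lit 3), (nat_lit 7), (nat_lit 8)])) (.leaf .df)))) (.node (.node (.node (.leaf .df) (.leaf (.cyc (nat_lit 19) [(nat_lit 26), (nat_lit 74), (nat_lit 75), (nat_lit 74), (nat_lit 26)]))) (.node (.leaf (.pin (nat_lit 4) [(nat_lit 1)] [])) (.leaf .df))) (.node (.node (.leaf .df) (.leaf .df)) (.node (.leaf (.cyc (nat_lit 9) [(nat_lit 19), (nat_lit 18), (nat_lit 51), (nat_lit 11), (nat_lit 10), (nat_lit 59), (nat_lit 10),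 (nat_lit 11), (nat_lit 51), (nat_lit 18), (nat_lit 19), (nat_lit 20)])) (.leaf .df)))))) (.node (.node (.node (.node (.node (.leaf .df) (.leaf (.cyc (nat_lit 13) [(nat_lit 12), (nat_lit 13), (nat_lit 49), (nat_lit 47), (nat_lit 34)]))) (.node (.leaf .df) (.leaf .df))) (.node (.node (.leaf .df) (.leaf (.cyc (nat_lit 23) [(nat_lit 28), (nat_lit 81), (nat_lit 69), (nat_lit 81), (nat_lit 28), (nat_lit 27)]))) (.node (.leaf (.cyc (nat_lit 0) [(nat_lit 22), (nat_lit 21), (nat_lit 20)])) (.leaf .df)))) (.node (.node (.node (.leaf .df) (.leaf (.cyc (nat_lit 18) [(nat_lit 25), (nat_lit 53), (nat_lit 51), (nat_lit 12), (nat_lit 37)]))) (.node (.leaf (.pin (nat_lit 2) [] [])) (.leaf .df))) (.node (.node (.leaf .df) (.leaf .df)) (.node (.leaf (.cyc (nat_lit 0) [(nat_lit 9), (nat_lit 4), (nat_lit 2)])) (.leaf .df))))) (.node (.node (.node (.node (.leaf .df) (.leaf (.cyc (nat_lit 16) [(nat_lit 18), (nat_lit 53), (nat_lit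 68), (nat_lit 35), (nat_lit 36)]))) (.node (.leaf .df) (.leaf .df))) (.node (.node (.leaf .df) (.leaf (.cyc (nat_lit 5) [(nat_lit 79), (nat_lit 85), (nat_lit 31)]))) (.node (.leaf (.cyc (nat_lit 4) [(nat_lit 15), (nat_lit 14), (nat_lit 6), (nat_lit 5), (nat_lit 3), (nat_lit 2)])) (.leaf .df)))) (.node (.node (.node (.leaf .df) (.leaf (.cyc (nat_lit 20) [(nat_lit 35), (nat_lit 10), (nat_lit 58), (nat_lit 55), (nat_lit 38)]))) (.node (.leaf (.pin (nat_lit 6) [(nat_lit 4)] [])) (.leaf .df))) (.node (.node (.leaf .df) (.leaf .df)) (.node (.leaf (.cyc (nat_lit 11) [(nat_lit 21), (nat_lit 60), (nat_lit 50)])) (.leaf .df))))))) (.node (.node (.node (.node (.node (.node (.leaf .df) (.leaf (.cyc (nat_lit 12) [(nat_lit 7), (nat_lit 5), (nat_lit 33)]))) (.node (.leaf .df) (.leaf .df))) (.node (.node (.leaf .df) (.leaf (.cyc (nat_lit 22) [(nat_lit 28), (nat_lit 27), (nat_lit 76), (nat_lit 26), (nat_lit 74), (nat_lit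 80), (nat_lit 79), (nat_lit 77), (nat_lit 38), (nat_lit 56), (nat_lit 33), (nat_lit 65), (nat_lit 8), (nat_lit 24), (nat_lit 53), (nat_lit 18), (nat_lit 70)]))) (.node (.leaf (.pin (nat_lit 9) [(nat_lit 4), (nat_lit 9), (nat_lit 10), (nat_lit 11), (nat_lit 12), (nat_lit 13)] [(nat_lit 43)])) (.leaf .df)))) (.node (.node (.node (.leaf .df) (.leaf (.cyc (nat_lit 11) [(nat_lit 63), (nat_lit 72)]))) (.node (.leaf (.pin (nat_lit 1) [] [])) (.leaf .df))) (.node (.node (.leaf .df) (.leaf .df)) (.node (.leaf (.cyc (nat_lit 7) [(nat_lit 49), (nat_lit 0), (nat_lit 41), (nat_lit 0), (nat_lit 49)])) (.leaf .df))))) (.node (.node (.node (.node (.leaf .df) (.leaf (.cyc (nat_lit 15) [(nat_lit 36), (nat_lit 10), (nat_lit 59), (nat_lit 10), (nat_lit 36)]))) (.node (.leaf .df) (.leaf .df))) (.node (.node (.leaf .df) (.leaf (.cyc (nat_lit 24) [(nat_lit 66), (nat_lit 11), (nat_lit 36), (nat_lit 81), (nat_lit 29), (nat_lit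 30)]))) (.node (.leaf (.cyc (nat_lit 3) [(nat_lit 24), (nat_lit 52), (nat_lit 17)])) (.leaf .df)))) (.node (.node (.node (.leaf .df) (.leaf (.cyc (nat_lit 12) [(nat_lit 34), (nat_lit 14), (nat_lit 38)]))) (.node (.leaf (.pin (nat_lit 5) [(nat_lit 2)] [])) (.leaf .df))) (.node (.node (.leaf .df) (.leaf .df)) (.node (.leaf (.cyc (nat_lit 10) [(nat_lit 20), (nat_lit 60)])) (.leaf .df)))))) (.node (.node (.node (.node (.node (.leaf .df) (.leaf (.cyc (nat_lit 12) [(nat_lit 12), (nat_lit 11), (nat_lit 35)]))) (.node (.leaf .df) (.leaf .df))) (.node (.node (.leaf .df) (.leaf (.cyc (nat_lit 10) [(nat_lit 27), (nat_lit 82)]))) (.node (.leaf (.cyc (nat_lit 1) [(nat_lit 17), (nat_lit 16), (nat_lit 9), (nat_lit 10), (nat_lit 11)])) (.leaf .df)))) (.node (.node (.node (.leaf .df) (.leaf (.cyc (nat_lit 6) [(nat_lit 37), (nat_lit 13), (nat_lit 57), (nat_lit 13), (nat_lit 37)]))) (.node (.leaf (.pin (nat_lit 3) [(nat_lit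 0)] [])) (.leaf .df))) (.node (.node (.leaf .df) (.leaf .df)) (.node (.leaf (.cyc (nat_lit 8) [(nat_lit 9), (nat_lit 46), (nat_lit 42), (nat_lit 46), (nat_lit 9)])) (.leaf .df))))) (.node (.node (.node (.node (.leaf .df) (.leaf (.cyc (nat_lit 17) [(nat_lit 70), (nat_lit 69), (nat_lit 70), (nat_lit 19), (nat_lit 63), (nat_lit 64)]))) (.node (.leaf .df) (.leaf .df))) (.node (.node (.leaf .df) (.leaf (.cyc (nat_lit 25) [(nat_lit 39), (nat_lit 86), (nat_lit 32)]))) (.node (.leaf (.cyc (nat_lit 5) [(nat_lit 15), (nat_lit 54)])) (.leaf .df)))) (.node (.node (.node (.leaf .df) (.leaf (.cyc (nat_lit 15) [(nat_lit 66), (nat_lit 51), (nat_lit 18), (nat_lit 19), (nat_lit 39)]))) (.node (.leaf (.pin (nat_lit 7) [(nat_lit 3), (nat_lit 5), (nat_lit 6)] [(nat_lit 0)])) (.leaf .df))) (.node (.node (.leaf .df) (.leaf .df)) (.node (.leaf (.cyc (nat_lit 11) [(nat_lit 50), (nat_lit 62)])) (.leaf .df))))))))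
noncomputable def q_tri_R : BT (List ℕ × ℕ × List ℕ) := (.node (.node (.node (.node (.node (.leaf ([(nat_lit 1), (nat_lit 0), (nat_lit 1), (nat_lit 0)], (nat_lit 0), [])) (.leaf ([(nat_lit 1), (nat_lit 3), (nat_lit 1), (nat_lit 3), (nat_lit 1), (nat_lit 3)], (nat_lit 6), [(nat_lit 3)]))) (.node (.leaf ([(nat_lit 3), (nat_lit 0), (nat_lit 3), (nat_lit 0), (nat_lit 3), (nat_lit 0)], (nat_lit 4), [])) (.leaf ([(nat_lit 3), (nat_lit 0), (nat_lit 3), (nat_lit 0), (nat_lit 3), (nat_lit 0)], (nat_lit 4), [(nat_lit 3), (nat_lit 0), (nat_lit 3), (nat_lit 0)])))) (.node (.node (.leaf ([(nat_lit 2), (nat_lit 0), (nat_lit 2), (nat_lit 0), (nat_lit 2), (nat_lit 0)], (nat_lit 2), [(nat_lit 0)])) (.leaf ([(nat_lit 2), (nat_lit 1), (nat_lit 2), (nat_lit 1), (nat_lit 2), (nat_lit 1)], (nat_lit 3), [(nat_lit 1)]))) (.node (.leaf ([(nat_lit 0), (nat_lit 1), (nat_lit 0), (nat_lit 1)], (nat_lit 0), [(nat_lit 1)])) (.leaf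 ([], (nat_lit 1000000), []))))) (.node (.node (.node (.leaf ([(nat_lit 1), (nat_lit 2), (nat_lit 1), (nat_lit 2), (nat_lit 1), (nat_lit 2)], (nat_lit 3), [])) (.leaf ([(nat_lit 1), (nat_lit 2), (nat_lit 1), (nat_lit 2), (nat_lit 1), (nat_lit 2)], (nat_lit 3), [(nat_lit 1), (nat_lit 2)]))) (.node (.leaf ([(nat_lit 0), (nat_lit 0)], (nat_lit 1000000), [])) (.leaf ([], (nat_lit 1000000), [])))) (.node (.node (.leaf ([(nat_lit 3), (nat_lit 2), (nat_lit 3), (nat_lit 2), (nat_lit 3), (nat_lit 2)], (nat_lit 5), [(nat_lit 3), (nat_lit 2)])) (.leaf ([(nat_lit 0), (nat_lit 2), (nat_lit 0), (nat_lit 1), (nat_lit 3), (nat_lit 1), (nat_lit 0), (nat_lit 2), (nat_lit 0), (nat_lit 1), (nat_lit 3), (nat_lit 1), (nat_lit 0), (nat_lit 2), (nat_lit 0), (nat_lit 1), (nat_lit 3), (nat_lit 1)], (nat_lit 9), [(nat_lit 0), (nat_lit 1), (nat_lit 3), (nat_lit 1), (nat_lit 0), (nat_lit 2), (nat_lit 0), (nat_lit 1), (nat_lit 3),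 (nat_lit 1), (nat_lit 0), (nat_lit 2), (nat_lit 0), (nat_lit 1), (nat_lit 3), (nat_lit 1)]))) (.node (.leaf ([(nat_lit 3), (nat_lit 1), (nat_lit 0), (nat_lit 2), (nat_lit 0), (nat_lit 1), (nat_lit 3), (nat_lit 1), (nat_lit 0), (nat_lit 2), (nat_lit 0), (nat_lit 1), (nat_lit 3), (nat_lit 1), (nat_lit 0), (nat_lit 2), (nat_lit 0), (nat_lit 1)], (nat_lit 9), [(nat_lit 0), (nat_lit 1)])) (.leaf ([], (nat_lit 1000000), [])))))) (.node (.node (.node (.node (.leaf ([(nat_lit 2), (nat_lit 0), (nat_lit 2), (nat_lit 0), (nat_lit 2), (nat_lit 0)], (nat_lit 2), [(nat_lit 0), (nat_lit 2), (nat_lit 0), (nat_lit 2), (nat_lit 0)])) (.leaf ([(nat_lit 1), (nat_lit 2), (nat_lit 1), (nat_lit 2), (nat_lit 1), (nat_lit 2)], (nat_lit 3), [(nat_lit 1), (nat_lit 2), (nat_lit 1), (nat_lit 2)]))) (.node (.leaf ([(nat_lit 2), (nat_lit 3), (nat_lit 2), (nat_lit 0), (nat_lit 2), (nat_lit 3), (nat_lit 2), (nat_lit 0), (nat_lit 2),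 (nat_lit 3), (nat_lit 2), (nat_lit 0)], (nat_lit 7), [(nat_lit 2), (nat_lit 3), (nat_lit 2), (nat_lit 0), (nat_lit 2), (nat_lit 3), (nat_lit 2), (nat_lit 0)])) (.leaf ([(nat_lit 3), (nat_lit 3)], (nat_lit 1000000), [])))) (.node (.node (.leaf ([(nat_lit 2), (nat_lit 2)], (nat_lit 1000000), [])) (.leaf ([(nat_lit 0), (nat_lit 2), (nat_lit 0), (nat_lit 2), (nat_lit 0), (nat_lit 2)], (nat_lit 2), []))) (.node (.leaf ([(nat_lit 3), (nat_lit 1), (nat_lit 3), (nat_lit 1), (nat_lit 3), (nat_lit 1)], (nat_lit 6), [(nat_lit 3), (nat_lit 1)])) (.leaf ([], (nat_lit 1000000), []))))) (.node (.node (.node (.leaf ([(nat_lit 1), (nat_lit 0), (nat_lit 1), (nat_lit 0)], (nat_lit 0), [(nat_lit 1), (nat_lit 0)])) (.leaf ([(nat_lit 1), (nat_lit 3), (nat_lit 1), (nat_lit 3), (nat_lit 1), (nat_lit 3)], (nat_lit 6), [(nat_lit 3), (nat_lit 1), (nat_lit 3)]))) (.node (.leaf ([(nat_lit 1), (nat_lit 1)], (nat_lit 1000000), []))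 (.leaf ([], (nat_lit 1000000), [])))) (.node (.node (.leaf ([(nat_lit 2), (nat_lit 1), (nat_lit 2), (nat_lit 1), (nat_lit 2), (nat_lit 1)], (nat_lit 3), [(nat_lit 1), (nat_lit 2), (nat_lit 1), (nat_lit 2), (nat_lit 1)])) (.leaf ([(nat_lit 2), (nat_lit 0), (nat_lit 2), (nat_lit 0), (nat_lit 2), (nat_lit 0)], (nat_lit 2), [(nat_lit 0), (nat_lit 2), (nat_lit 0)]))) (.node (.leaf ([(nat_lit 2), (nat_lit 3), (nat_lit 2), (nat_lit 3), (nat_lit 2), (nat_lit 3)], (nat_lit 5), [(nat_lit 3)])) (.leaf ([], (nat_lit 1000000), [])))))))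
noncomputable def q_tri_Q : BT (ℕ × List ℕ × ℕ) := (.node (.node (.node (.node (.leaf ((nat_lit 0), [(nat_lit 0)], (nat_lit 0))) (.leaf ((nat_lit 3), [(nat_lit 2), (nat_lit 1), (nat_lit 2), (nat_lit 3), (nat_lit 2)], (nat_lit 1)))) (.node (.leaf ((nat_lit 1), [(nat_lit 2), (nat_lit 1)], (nat_lit 2))) (.leaf ((nat_lit 0), [(nat_lit 0)], (nat_lit 0))))) (.node (.node (.leaf ((nat_lit 1), [(nat_lit 0)], (nat_lit 1))) (.leaf ((nat_lit 0), [(nat_lit 0)], (nat_lit 0)))) (.node (.leaf ((nat_lit 3), [(nat_lit 1), (nat_lit 3)], (nat_lit 1))) (.leaf ((nat_lit 0), [(nat_lit 0)], (nat_lit 0)))))) (.node (.node (.node (.leaf ((nat_lit 0), [(nat_lit 1)], (nat_lit 0))) (.leaf ((nat_lit 3), [(nat_lit 1), (nat_lit 0), (nat_lit 2), (nat_lit 0), (nat_lit 1), (nat_lit 3), (nat_lit 1), (nat_lit 0)], (nat_lit 2)))) (.node (.leaf ((nat_lit 3), [(nat_lit 0), (nat_lit 3)], (nat_lit 0))) (.leaf ((nat_lit 0), [(nat_lit 0)], (nat_lit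 0))))) (.node (.node (.leaf ((nat_lit 0), [(nat_lit 2), (nat_lit 0)], (nat_lit 2))) (.leaf ((nat_lit 0), [(nat_lit 0)], (nat_lit 0)))) (.node (.leaf ((nat_lit 3), [(nat_lit 2), (nat_lit 0), (nat_lit 2), (nat_lit 3), (nat_lit 2)], (nat_lit 0))) (.leaf ((nat_lit 0), [(nat_lit 0)], (nat_lit 0)))))))
noncomputable def q_tri_C : Cert := ⟨(nat_lit 4), (nat_lit 89), q_tri_F, q_tri_P, q_tri_R, q_tri_Q⟩
noncomputable def q_tri_h : List (Ex × Ex) := [((.t (.g 0) (.g 1)), (.g 0)), ((.t (.g 1) (.g 0)), (.g 1)), ((.t (.g 0) (.g 2)), (.t (.g 2) (.g 0))), ((.t (.g 1) (.g 2)), (.t (.g 2) (.g 1))), ((.t (.g 3) (.g 0)), (.t (.g 0) (.g 3))), ((.t (.g 3) (.g 2)), (.t (.g 2) (.g 3))), ((.t (.g 3) (.g 1)), (.t (.g 1) (.g 3))), ((.t (.g 3) (.t (.g 0) (.g 2))), (.t (.t (.g 0) (.g 2)) (.g 3))), ((.t (.g 3) (.t (.g 1) (.g 2))), (.t (.t (.g 1) (.g 2)) (.g 3))), ((.t (.g 3) (.t (.t (.g 2) (.g 0)) (.g 1))), (.t (.t (.t (.g 2) (.g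 0)) (.g 1)) (.g 3)))]
noncomputable def q_tri_g : List (Ex × Ex) := [((.t (.t (.t (.t (.t (.t (.g 0) (.g 0)) (.g 2)) (.g 3)) (.g 0)) (.g 2)) (.g 3)), (.g 0)), ((.t (.g 1) (.t (.t (.t (.t (.t (.t (.g 1) (.g 0)) (.g 2)) (.g 3)) (.g 0)) (.g 2)) (.g 3))), (.g 1)), ((.t (.t (.t (.t (.t (.t (.t (.t (.t (.t (.t (.t (.t (.t (.t (.t (.t (.t (.g 1) (.g 0)) (.g 2)) (.g 3)) (.g 0)) (.g 2)) (.g 3)) (.g 0)) (.g 2)) (.g 3)) (.g 0)) (.g 2)) (.g 3)) (.g 0)) (.g 2)) (.g 3)) (.g 0)) (.g 2)) (.g 3)), (.g 1))]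
theorem q_tri_k : q_tri_C.full 1 q_tri_h q_tri_g [[(nat_lit 40), (nat_lit 0), (nat_lit 47), (nat_lit 14), (nat_lit 55), (nat_lit 45)], [(nat_lit 46), (nat_lit 16), (nat_lit 17), (nat_lit 18), (nat_lit 19), (nat_lit 61), (nat_lit 73), (nat_lit 61), (nat_lit 19), (nat_lit 18), (nat_lit 17), (nat_lit 16), (nat_lit 46)], [(nat_lit 42), (nat_lit 1), (nat_lit 48), (nat_lit 24), (nat_lit 25), (nat_lit 26), (nat_lit 83), (nat_lit 84), (nat_lit 29), (nat_lit 30), (nat_lit 31), (nat_lit 88), (nat_lit 61), (nat_lit 19), (nat_lit 18), (nat_lit 17), (nat_lit 16), (nat_lit 46)]] = true := by decide +kernel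
theorem q_tri {G : Type*} [Group G] {d e a b : G} (qd : d * d = 1) (qe : e * e = 1) (qa : a * a = 1) (qb : b * b = 1)
    (h0 : Commute d e)
    (h1 : tw d a = tw a d)
    (h2 : tw e a = tw a e)
    (h3 : tw b d = tw d b)
    (h4 : tw b a = tw a b)
    (h5 : tw b e = tw e b)
    (h6 : tw b (tw d a) = tw (tw d a) b)
    (h7 : tw b (tw e a) = tw (tw e a) b)
    (h8 : tw b (tw (tw a d) e) = tw (tw (tw a d) e) b)
    : (tw (tw (tw (tw (tw (tw d d) a) b) d) a) b) = d ∧ Commute e (tw (tw (tw (tw (tw (tw e d) a) b) d) a) b) ∧ (tw (tw (tw (tw (tw (tw (tw (tw (tw (tw (tw (tw (tw (tw (tw (tw (tw (tw e d) a) b) d) a) b) d) a) b) d) a) b) d) a) b) d) a) b) = e := by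
  have H := Cert.sound (s := val [d, e, a, b]) q_tri_C _ q_tri_h q_tri_g _ q_tri_k (val_sq (by simp [*]))
    ⟨tw_of_comm qe h0, tw_of_comm qd h0.symm, h1, h2, h3, h4, h5, h6, h7, h8, trivial⟩
  exact ⟨H.1, comm_of_tw (tw_sq (tw_sq (tw_sq (tw_sq (tw_sq (tw_sq qe qd) qa) qb) qd) qa) qb) H.2.1, H.2.2.1⟩
noncomputable def q_tri2_Ft : BT Nat := (.leaf (nat_lit 0x400001000002000020000290000380000880001a0000c4000080000c1000038000784000100003860000a0001230000100007180001000030400008000140000040000800000100001000007800048c000380003420001a0001800000c0000b1000058000500000280001c40001200010100008000060800038000188000180000c40000a0000220000400000))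
noncomputable def q_tri2_F (p : Nat) : Nat := row q_tri2_Ft (nat_lit 5) (nat_lit 31) (nat_lit 45) (nat_lit 35184372088831) p
noncomputable def q_tri2_P : BT Pf := (.node (.node (.node (.node (.node (.leaf .df) (.leaf (.pin (nat_lit 4) [(nat_lit 3)] []))) (.node (.leaf .df) (.leaf (.cyc (nat_lit 3) [(nat_lit 1), (nat_lit 23), (nat_lit 0)])))) (.node (.node (.leaf .df) (.leaf (.cyc (nat_lit 0) [(nat_lit 5), (nat_lit 11), (nat_lit 19), (nat_lit 6), (nat_lit 7), (nat_lit 8)]))) (.node (.leaf (.pin (nat_lit 0) [] [])) (.leaf .df)))) (.node (.node (.node (.leaf .df) (.leaf (.pin (nat_lit 6) [(nat_lit 3), (nat_lit 6), (nat_lit 7), (nat_lit 8), (nat_lit 9), (nat_lit 10)] [(nat_lit 13)]))) (.node (.leaf .df) (.leaf .df))) (.node (.node (.leaf .df) (.leaf (.cyc (nat_lit 2) [(nat_lit 10), (nat_lit 21), (nat_lit 15)]))) (.node (.leaf (.pin (nat_lit 2) [(nat_lit 1)] [])) (.leaf .df))))) (.node (.node (.node (.node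 (.leaf .df) (.leaf (.pin (nat_lit 5) [(nat_lit 2), (nat_lit 4), (nat_lit 5)] [(nat_lit 1)]))) (.node (.leaf .df) (.leaf .df))) (.node (.node (.leaf .df) (.leaf (.cyc (nat_lit 1) [(nat_lit 9), (nat_lit 20), (nat_lit 4)]))) (.node (.leaf (.pin (nat_lit 1) [(nat_lit 0)] [])) (.leaf .df)))) (.node (.node (.node (.leaf .df) (.leaf (.pin (nat_lit 7) [(nat_lit 12), (nat_lit 1), (nat_lit 17), (nat_lit 11)] [(nat_lit 16)]))) (.node (.leaf .df) (.leaf .df))) (.node (.node (.leaf .df) (.leaf (.cyc (nat_lit 1) [(nat_lit 18), (nat_lit 22), (nat_lit 14)]))) (.node (.leaf (.pin (nat_lit 3) [(nat_lit 2)] [])) (.leaf .df))))))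
noncomputable def q_tri2_R : BT (List ℕ × ℕ × List ℕ) := (.node (.node (.leaf ([(nat_lit 2), (nat_lit 0), (nat_lit 2), (nat_lit 0), (nat_lit 2), (nat_lit 0)], (nat_lit 2), [(nat_lit 0), (nat_lit 2), (nat_lit 0), (nat_lit 2), (nat_lit 0)])) (.leaf ([(nat_lit 3), (nat_lit 3)], (nat_lit 1000000), []))) (.node (.leaf ([(nat_lit 1), (nat_lit 1)], (nat_lit 1000000), [])) (.leaf ([(nat_lit 2), (nat_lit 2)], (nat_lit 1000000), []))))
noncomputable def q_tri2_Q : BT (ℕ × List ℕ × ℕ) := (.node (.node (.node (.leaf ((nat_lit 1), [(nat_lit 0)], (nat_lit 1))) (.leaf ((nat_lit 3), [(nat_lit 1), (nat_lit 3)], (nat_lit 1)))) (.node (.leaf ((nat_lit 1), [(nat_lit 2), (nat_lit 1)], (nat_lit 2))) (.leaf ((nat_lit 3), [(nat_lit 1), (nat_lit 0), (nat_lit 2), (nat_lit 0), (nat_lit 1), (nat_lit 3), (nat_lit 1), (nat_lit 0)], (nat_lit 2))))) (.node (.node (.leaf ((nat_lit 0), [(nat_lit 2), (nat_lit 0)], (nat_lit 2))) (.leaf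 ((nat_lit 3), [(nat_lit 2), (nat_lit 1), (nat_lit 2), (nat_lit 3), (nat_lit 2)], (nat_lit 1)))) (.node (.leaf ((nat_lit 3), [(nat_lit 2), (nat_lit 3)], (nat_lit 2))) (.leaf ((nat_lit 1), [(nat_lit 0), (nat_lit 2), (nat_lit 3), (nat_lit 0), (nat_lit 2), (nat_lit 3)], (nat_lit 1))))))
noncomputable def q_tri2_C : Cert := ⟨(nat_lit 4), (nat_lit 25), q_tri2_F, q_tri2_P, q_tri2_R, q_tri2_Q⟩
noncomputable def q_tri2_h : List (Ex × Ex) := [((.t (.g 0) (.g 1)), (.g 0)), ((.t (.g 1) (.g 0)), (.g 1)), ((.t (.g 0) (.g 2)), (.t (.g 2) (.g 0))), ((.t (.g 1) (.g 2)), (.t (.g 2) (.g 1))), ((.t (.g 3) (.g 0)), (.t (.g 0) (.g 3))), ((.t (.g 3) (.g 2)), (.t (.g 2) (.g 3))), ((.t (.g 3) (.g 1)), (.t (.g 1) (.g 3))), ((.t (.g 3) (.t (.g 0) (.g 2))), (.t (.t (.g 0) (.g 2)) (.g 3))), ((.t (.g 3) (.t (.g 1) (.g 2))), (.t (.t (.g 1) (.g 2)) (.g 3))), ((.t (.g 3) (.t (.t (.g 2) (.g 0)) (.g 1))), (.t (.t (.t (.g 2) (.g 0)) (.g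 1)) (.g 3))), ((.t (.t (.t (.t (.t (.t (.g 1) (.g 0)) (.g 2)) (.g 3)) (.g 0)) (.g 2)) (.g 3)), (.g 1))]
noncomputable def q_tri2_g : List (Ex × Ex) := [((.g 0), (.g 1))]
theorem q_tri2_k : q_tri2_C.full 0 q_tri2_h q_tri2_g [[(nat_lit 24)]] = true := by decide +kernel
theorem q_tri2 {G : Type*} [Group G] {d e a b : G} (qd : d * d = 1) (qe : e * e = 1) (qa : a * a = 1) (qb : b * b = 1)
    (h0 : Commute d e)
    (h1 : tw d a = tw a d)
    (h2 : tw e a = tw a e)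
    (h3 : tw b d = tw d b)
    (h4 : tw b a = tw a b)
    (h5 : tw b e = tw e b)
    (h6 : tw b (tw d a) = tw (tw d a) b)
    (h7 : tw b (tw e a) = tw (tw e a) b)
    (h8 : tw b (tw (tw a d) e) = tw (tw (tw a d) e) b)
    (h9 : (tw (tw (tw (tw (tw (tw e d) a) b) d) a) b) = e)
    : d = e := by
  have H := Cert.sound (s := val [d, e, a, b]) q_tri2_C _ q_tri2_h q_tri2_g _ q_tri2_k (val_sq (by simp [*]))
    ⟨tw_of_comm qe h0, tw_of_comm qd h0.symm, h1, h2, h3, h4, h5, h6, h7, h8, h9, trivial⟩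
  exact H.1
noncomputable def q_aff_Ft : BT Nat := (.leaf (nat_lit 0x80004000020c00024000104000060000e10000200005000001000020400024000204000100000c10000700006000003000028800014000044000080000010000300000))
noncomputable def q_aff_F (p : Nat) : Nat := row q_aff_Ft (nat_lit 5) (nat_lit 31) (nat_lit 45) (nat_lit 35184372088831) p
noncomputable def q_aff_P : BT Pf := (.node (.node (.node (.node (.leaf .df) (.leaf (.pin (nat_lit 1) [(nat_lit 2)] []))) (.node (.leaf .df) (.leaf .df))) (.node (.node (.leaf .df) (.leaf (.cyc (nat_lit 0) [(nat_lit 6), (nat_lit 5), (nat_lit 4), (nat_lit 9), (nat_lit 0), (nat_lit 1)]))) (.node (.leaf .df) (.leaf .df)))) (.node (.node (.node (.leaf .df) (.leaf (.pin (nat_lit 2) [(nat_lit 8), (nat_lit 3), (nat_lit 4)] [(nat_lit 0)]))) (.node (.leaf .df) (.leaf .df))) (.node (.node (.leaf .df) (.leaf (.cyc (nat_lit 1) [(nat_lit 6), (nat_lit 10)]))) (.node (.leaf (.pin (nat_lit 0)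 [(nat_lit 1)] [])) (.leaf .df)))))
noncomputable def q_aff_R : BT (List ℕ × ℕ × List ℕ) := (.node (.leaf ([(nat_lit 1), (nat_lit 2), (nat_lit 1), (nat_lit 2), (nat_lit 1), (nat_lit 2)], (nat_lit 2), [])) (.leaf ([(nat_lit 1), (nat_lit 1)], (nat_lit 1000000), [])))
noncomputable def q_aff_Q : BT (ℕ × List ℕ × ℕ) := (.node (.node (.leaf ((nat_lit 0), [(nat_lit 2), (nat_lit 0)], (nat_lit 2))) (.leaf ((nat_lit 2), [(nat_lit 1), (nat_lit 0), (nat_lit 1), (nat_lit 2), (nat_lit 1)], (nat_lit 0)))) (.node (.leaf ((nat_lit 1), [(nat_lit 2), (nat_lit 1)], (nat_lit 2))) (.leaf ((nat_lit 0), [(nat_lit 0)], (nat_lit 0)))))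
noncomputable def q_aff_C : Cert := ⟨(nat_lit 3), (nat_lit 12), q_aff_F, q_aff_P, q_aff_R, q_aff_Q⟩
noncomputable def q_aff_h : List (Ex × Ex) := [((.t (.g 0) (.g 1)), (.t (.g 1) (.g 0))), ((.t (.g 0) (.g 2)), (.t (.g 2) (.g 0))), ((.t (.g 1) (.g 2)), (.t (.g 2) (.g 1))), ((.t (.g 2) (.t (.g 0) (.g 1))), (.t (.t (.g 0) (.g 1)) (.g 2)))]
noncomputable def q_aff_g : List (Ex × Ex) := [((.t (.t (.t (.t (.g 2) (.g 1)) (.g 0)) (.g 1)) (.g 0)), (.t (.g 2) (.t (.t (.g 2) (.g 1)) (.g 0))))]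
theorem q_aff_k : q_aff_C.full 0 q_aff_h q_aff_g [[(nat_lit 8), (nat_lit 3), (nat_lit 5), (nat_lit 11), (nat_lit 7)]] = true := by decide +kernel
theorem q_aff {G : Type*} [Group G] {x y a : G} (qx : x * x = 1) (qy : y * y = 1) (qa : a * a = 1)
    (h0 : tw x y = tw y x)
    (h1 : tw x a = tw a x)
    (h2 : tw y a = tw a y)
    (h3 : tw a (tw x y) = tw (tw x y) a)
    : (tw (tw (tw (tw a y) x) y) x) = (tw a (tw (tw a y) x)) := by
  have H := Cert.sound (s := val [x, y, a]) q_aff_C _ q_aff_h q_aff_g _ q_aff_k (val_sq (by simp [*]))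
    ⟨h0, h1, h2, h3, trivial⟩
  exact H.1
theorem realizeEqns_Th_Q4 : True := by
  have := @CA.QP.q_aff_Ft.eq_1
  have := @CA.QP.q_aff_Ft.eq_def
  have := @CA.QP.q_aff_Ft.congr_simp
  have := @CA.QP.q_aff_F.eq_1
  have := @CA.QP.q_aff_F.eq_def
  have := @CA.QP.q_aff_F.congr_simp
  have := @CA.QP.q_tri_Ft.eq_1
  have := @CA.QP.q_tri_Ft.eq_def
  have := @CA.QP.q_tri_Ft.congr_simp
  have := @CA.QP.q_tri2_P.eq_1
  have := @CA.QP.q_tri2_P.eq_def
  have := @CA.QP.q_tri2_P.congr_simp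
  have := @CA.QP.q_tri2_C.eq_1
  have := @CA.QP.q_tri2_C.eq_def
  have := @CA.QP.q_tri2_C.congr_simp
  have := @CA.QP.q_tri_g.eq_1
  have := @CA.QP.q_tri_g.eq_def
  have := @CA.QP.q_tri_g.congr_simp
  have := @CA.QP.q_tri_Q.eq_1
  have := @CA.QP.q_tri_Q.eq_def
  have := @CA.QP.q_tri_Q.congr_simp
  have := @CA.QP.q_aff_P.eq_1
  have := @CA.QP.q_aff_P.eq_def
  have := @CA.QP.q_aff_P.congr_simp
  have := @CA.QP.q_tri2_F.eq_1
  have := @CA.QP.q_tri2_F.eq_def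
  have := @CA.QP.q_tri2_F.congr_simp
  have := @CA.QP.q_tri2_R.eq_1
  have := @CA.QP.q_tri2_R.eq_def
  have := @CA.QP.q_tri2_R.congr_simp
  have := @CA.QP.q_aff_g.eq_1
  have := @CA.QP.q_aff_g.eq_def
  have := @CA.QP.q_aff_g.congr_simp
  have := @CA.QP.q_tri_C.eq_1
  have := @CA.QP.q_tri_C.eq_def
  have := @CA.QP.q_tri_C.congr_simp
  have := @CA.QP.q_tri2_Ft.eq_1
  have := @CA.QP.q_tri2_Ft.eq_def
  have := @CA.QP.q_tri2_Ft.congr_simp
  have := @CA.QP.q_tri_R.eq_1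
  have := @CA.QP.q_tri_R.eq_def
  have := @CA.QP.q_tri_R.congr_simp
  have := @CA.QP.q_tri_h.eq_1
  have := @CA.QP.q_tri_h.eq_def
  have := @CA.QP.q_tri_h.congr_simp
  have := @CA.QP.q_tri2_g.eq_1
  have := @CA.QP.q_tri2_g.eq_def
  have := @CA.QP.q_tri2_g.congr_simp
  have := @CA.QP.q_tri2_h.eq_1
  have := @CA.QP.q_tri2_h.eq_def
  have := @CA.QP.q_tri2_h.congr_simp
  have := @CA.QP.q_aff_Q.eq_1
  have := @CA.QP.q_aff_Q.eq_def
  have := @CA.QP.q_aff_Q.congr_simp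
  have := @CA.QP.q_tri2_Q.eq_1
  have := @CA.QP.q_tri2_Q.eq_def
  have := @CA.QP.q_tri2_Q.congr_simp
  have := @CA.QP.q_tri_P.eq_1
  have := @CA.QP.q_tri_P.eq_def
  have := @CA.QP.q_tri_P.congr_simp
  have := @CA.QP.q_tri_F.eq_1
  have := @CA.QP.q_tri_F.eq_def
  have := @CA.QP.q_tri_F.congr_simp
  have := @CA.QP.q_aff_C.eq_1
  have := @CA.QP.q_aff_C.eq_def
  have := @CA.QP.q_aff_C.congr_simp
  have := @CA.QP.q_aff_h.eq_1
  have := @CA.QP.q_aff_h.eq_def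
  have := @CA.QP.q_aff_h.congr_simp
  have := @CA.QP.q_aff_R.eq_1
  have := @CA.QP.q_aff_R.eq_def
  have := @CA.QP.q_aff_R.congr_simp
  trivial

end CA.QP
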